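import Cfsg.Agent.LocalEven61.Involves
import Cfsg.Agent.LocalEven61.PermFour
import Mathlib.GroupTheory.Sylow

/-!
Criteria for the absence of the sections `S₃` and `S₄`.
-/

set_option autoImplicit false
set_option linter.style.haveILetI false

namespace Cfsg.Agent.GoldGroups11

open Equiv

variable {G : Type*} [Group G] {H : Type*} [Group H]

/-- `S₃` is involved exactly when a `2`-element inverts a nontrivial `3`-element. -/
theorem involves_perm3_iff [Finite G] :
    Cfsg.Involves (Perm (Fin 3)) G ↔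
      ∃ x y : G, (∃ k : ℕ, orderOf x = 2 ^ k) ∧ (∃ k : ℕ, orderOf y = 3 ^ k) ∧ y ≠ 1 ∧
        x * y * x⁻¹ = y⁻¹ := by
  haveI : Fact (Nat.Prime 3) := ⟨Nat.prime_three⟩
  obtain ⟨e⟩ := LocalEven61.exists_dihedral_equiv
  rw [← LocalEven61.involves_dihedral_iff (p := 3) (by norm_num)]
  exact ⟨fun h => LocalEven61.involves_congr e.symm h, fun h => LocalEven61.involves_congr e h⟩

/-- An inverted element of order divisible by three gives a section `S₃`. -/
theorem involves_perm3_of_inverted [Finite G] {x y : G} (hx : ∃ k : ℕ, orderOf x = 2 ^ k)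
    (hy : 3 ∣ orderOf y) (h : x * y * x⁻¹ = y⁻¹) : Cfsg.Involves (Perm (Fin 3)) G := by
  have hpos := orderOf_pos y
  refine involves_perm3_iff.2 ⟨x, y ^ (orderOf y / 3), hx, ⟨1, ?_⟩, ?_, ?_⟩
  · rw [pow_one]
    exact orderOf_pow_orderOf_div hpos.ne' hy
  · intro h1
    have := orderOf_pow_orderOf_div hpos.ne' hy
    rw [h1, orderOf_one] at this
    omega
  · rw [← conj_pow, h, inv_pow]

/-- A dihedral subgroup of order `2n`, three dividing `n`, gives a section `S₃`. -/
theorem involves_perm3_of_dihedral [Finite G] {n : ℕ} (hn : 3 ∣ n) (h0 : n ≠ 0) (N : Subgroup G)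
    (e : N ≃* DihedralGroup n) : Cfsg.Involves (Perm (Fin 3)) G := by
  haveI : NeZero n := ⟨h0⟩
  refine LocalEven61.involves_of_subgroup N
    (involves_perm3_of_inverted (x := e.symm (.sr 0)) (y := e.symm (.r 1)) ⟨1, ?_⟩ ?_ ?_)
  · rw [pow_one, MulEquiv.orderOf_eq, DihedralGroup.orderOf_sr]
  · rw [MulEquiv.orderOf_eq, DihedralGroup.orderOf_r_one]
    exact hn
  · rw [← map_inv, ← map_mul, ← map_mul, ← map_inv]
    simp [DihedralGroup.inv_sr, DihedralGroup.inv_r, DihedralGroup.sr_mul_r, DihedralGroup.sr_mul_sr]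

/-- A group of order prime to three has no section `S₃`. -/
theorem not_involves_perm3_of_not_dvd [Finite G] (h : ¬ 3 ∣ Nat.card G) :
    ¬ Cfsg.Involves (Perm (Fin 3)) G := by
  rw [involves_perm3_iff]
  rintro ⟨x, y, -, ⟨k, hk⟩, hy1, -⟩
  rcases Nat.eq_zero_or_pos k with rfl | hk0
  · exact hy1 (orderOf_eq_one_iff.1 (by simpa using hk))
  · exact h (((dvd_pow_self 3 hk0.ne').trans hk.symm.dvd).trans (orderOf_dvd_natCard y))

theorem not_involves_of_equiv {G' : Type*} [Group G'] (e : G ≃* G') (h : ¬ Cfsg.Involves H G') :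
    ¬ Cfsg.Involves H G := fun hG =>
  h (LocalEven61.involves_trans hG
    (LocalEven61.involves_of_hom (MonoidHom.id G) Function.surjective_id e.toMonoidHom e.injective))

theorem involves_of_equiv {G' : Type*} [Group G'] (e : G ≃* G') (h : Cfsg.Involves H G') :
    Cfsg.Involves H G :=
  LocalEven61.involves_trans h
    (LocalEven61.involves_of_hom (MonoidHom.id G') Function.surjective_id e.symm.toMonoidHom
      e.symm.injective)

theorem involves_perm4_to_perm3 (h : Cfsg.Involves (Perm (Fin 4)) G) :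
    Cfsg.Involves (Perm (Fin 3)) G :=
  LocalEven61.involves_trans
    (LocalEven61.involves_of_hom LocalEven61.pairingHom LocalEven61.pairingHom_surjective
      (MonoidHom.id _) Function.injective_id) h

theorem not_involves_perm4_of_not_dvd [Finite G] (h : ¬ 3 ∣ Nat.card G) :
    ¬ Cfsg.Involves (Perm (Fin 4)) G := fun h4 =>
  not_involves_perm3_of_not_dvd h (involves_perm4_to_perm3 h4)

theorem comm_of_conj {a b g : G}
    (h : g⁻¹ * a * g * (g⁻¹ * b * g) = g⁻¹ * b * g * (g⁻¹ * a * g)) : a * b = b * a := by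
  simpa [mul_assoc] using congrArg (fun z => g * z * g⁻¹) h

/-- The dihedral group of order eight inside `S₄`. -/
def eightHom : DihedralGroup 4 →* Perm (Fin 4) :=
  Involution.dihedralHom (Equiv.swap (0 : Fin 4) 2)
    (Equiv.swap 0 1 * Equiv.swap 1 2 * Equiv.swap 2 3)
    (by decide +kernel) (by decide +kernel) (by decide +kernel)

/-- Abelian Sylow `2`-subgroups exclude a section `S₄`. -/
theorem not_involves_perm4_of_abelian [Finite G] (P : Sylow 2 G)
    (hP : ∀ a ∈ (P : Subgroup G), ∀ b ∈ (P : Subgroup G), a * b = b * a) :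
    ¬ Cfsg.Involves (Perm (Fin 4)) G := by
  intro h
  haveI : Fact (Nat.Prime 2) := ⟨Nat.prime_two⟩
  obtain ⟨K, f, hf⟩ := LocalEven61.exists_surjective_of_involves h
  obtain ⟨Q⟩ := (inferInstance : Nonempty (Sylow 2 ↥K))
  obtain ⟨P', hP'⟩ := (Q.isPGroup'.map K.subtype).exists_le_sylow
  obtain ⟨g, hg⟩ := MulAction.exists_smul_eq G P P'
  have hP'c : ∀ a ∈ (P' : Subgroup G), ∀ b ∈ (P' : Subgroup G), a * b = b * a := by
    intro a ha b hb
    rw [← hg, Sylow.coe_subgroup_smul, Subgroup.mem_pointwise_smul_iff_inv_smul_mem] at ha hb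
    exact comm_of_conj (g := g) (by simpa [MulAut.smul_def] using hP _ ha _ hb)
  have hQc : ∀ a ∈ (Q : Subgroup ↥K), ∀ b ∈ (Q : Subgroup ↥K), a * b = b * a := fun a ha b hb =>
    Subtype.ext (hP'c a (hP' ⟨a, ha, rfl⟩) b (hP' ⟨b, hb, rfl⟩))
  set R : Sylow 2 (Perm (Fin 4)) := Q.mapSurjective hf
  have hRc : ∀ a ∈ (R : Subgroup (Perm (Fin 4))), ∀ b ∈ (R : Subgroup (Perm (Fin 4))),
      a * b = b * a := by
    rintro a ⟨a, ha, rfl⟩ b ⟨b, hb, rfl⟩
    rw [← map_mul, ← map_mul, hQc a ha b hb]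
  have hD : IsPGroup 2 eightHom.range :=
    (IsPGroup.of_card (G := DihedralGroup 4) (n := 3) (by rw [DihedralGroup.nat_card]; norm_num)).of_surjective
      eightHom.rangeRestrict eightHom.rangeRestrict_surjective
  obtain ⟨R', hR'⟩ := hD.exists_le_sylow
  obtain ⟨s, hs⟩ := MulAction.exists_smul_eq (Perm (Fin 4)) R R'
  have hsr := hR' ⟨.r 1, rfl⟩
  have hss := hR' ⟨.sr 0, rfl⟩
  rw [← hs, Sylow.coe_subgroup_smul, Subgroup.mem_pointwise_smul_iff_inv_smul_mem] at hsr hss
  have h1 := hRc _ hsr _ hss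
  have h2 : eightHom (.r 1) * eightHom (.sr 0) = eightHom (.sr 0) * eightHom (.r 1) := by
    exact comm_of_conj (g := s) (by simpa [MulAut.smul_def] using h1)
  revert h2
  decide +kernel

end Cfsg.Agent.GoldGroups11
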