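import Cfsg.Agent.Lib.Dickson.Tori
import Mathlib.NumberTheory.LegendreSymbol.Complex
import Mathlib.GroupTheory.FiniteAbelian.Duality
import Mathlib.Analysis.Complex.Polynomial.Basic

/-!
The Borel subgroup of `PSL₂(3^(2n+1))`.
-/

set_option autoImplicit false
set_option linter.unusedSectionVars false

namespace Cfsg.Agent.GoldGroups11

open Cfsg.Agent.Dickson MulAction OnePoint
open scoped MatrixGroups

attribute [local instance] Cfsg.Agent.PLocalB.lineAction pslLine

variable {F : Type*} [Field F] [Fintype F]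

/-- The unipotent element with parameter `b`. -/
noncomputable def upp (b : F) : PSL2 F := uppHom F (Multiplicative.ofAdd b)

theorem upp_add (a b : F) : upp (a + b) = upp a * upp b := map_mul (uppHom F) _ _

theorem upp_zero : upp (0 : F) = 1 := map_one (uppHom F)

theorem upp_inj {a b : F} (h : upp a = upp b) : a = b :=
  Multiplicative.ofAdd.injective (uppHom_injective h)

theorem upp_neg (b : F) : upp (-b) = (upp b)⁻¹ := map_inv (uppHom F) _

theorem upp_ne_one {b : F} (hb : b ≠ 0) : upp b ≠ 1 := fun h => hb (upp_inj (h.trans upp_zero.symm))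

theorem upp_eq_mk (b : F) : upp b = QuotientGroup.mk (PLocalB.upper b) := rfl

/-- The stabiliser of the point at infinity. -/
noncomputable def brl (F : Type*) [Field F] [Fintype F] : Subgroup (PSL2 F) :=
  stabilizer (PSL2 F) (∞ : OnePoint F)

theorem mem_brl {x : PSL2 F} : x ∈ brl F ↔ x • (∞ : OnePoint F) = ∞ := Iff.rfl

theorem isUni_upp (b : F) : IsUni (∞ : OnePoint F) (upp b) := isUni_infty_iff_upp.2 ⟨b, rfl⟩

theorem upp_mem_brl (b : F) : upp b ∈ brl F := (isUni_upp b).smul_eq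

/-- A conjugate of a unipotent element lying in the Borel subgroup. -/
theorem mem_brl_of_conj {b : F} (hb : b ≠ 0) {x : PSL2 F} (h : x⁻¹ * upp b * x ∈ brl F) :
    x ∈ brl F := by
  have hu := (isUni_upp b).resolve_left (upp_ne_one hb)
  rw [mem_brl, ← hu]
  rw [mem_brl, mul_smul, mul_smul, inv_smul_eq_iff] at h
  exact h

theorem exists_rep (x : brl F) : ∃ A : SL(2, F), QuotientGroup.mk A = (x : PSL2 F) ∧ A 1 0 = 0 :=
  exists_upper_rep x.2

theorem rep_sq_eq {A B : SL(2, F)} (h : (QuotientGroup.mk A : PSL2 F) = QuotientGroup.mk B) :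
    A 0 0 ^ 2 = B 0 0 ^ 2 := by
  rcases mk_eq_mk_iff.1 h with rfl | rfl
  · rfl
  · simp

theorem upper_mul_00 {A B : SL(2, F)} (hB : B 1 0 = 0) : (A * B) 0 0 = A 0 0 * B 0 0 := by
  simp [Matrix.mul_apply, Fin.sum_univ_two, hB]

/-- The square of the diagonal entry. -/
noncomputable def piB (F : Type*) [Field F] [Fintype F] : brl F →* Fˣ :=
  MonoidHom.mk' (fun x => Units.mk0 ((exists_rep x).choose 0 0 ^ 2)
      (pow_ne_zero 2 (left_ne_zero_of_mul_eq_one (upper_diag (exists_rep x).choose_spec.2))))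
    fun x y => Units.ext (by
      obtain ⟨hA, hA0⟩ := (exists_rep x).choose_spec
      obtain ⟨hB, hB0⟩ := (exists_rep y).choose_spec
      show (exists_rep (x * y)).choose 0 0 ^ 2 =
        (exists_rep x).choose 0 0 ^ 2 * (exists_rep y).choose 0 0 ^ 2
      rw [← mul_pow, ← upper_mul_00 hB0]
      exact rep_sq_eq (by rw [(exists_rep (x * y)).choose_spec.1, QuotientGroup.mk_mul, hA, hB]; rfl))

theorem piB_val {x : brl F} {A : SL(2, F)} (hA : QuotientGroup.mk A = (x : PSL2 F)) :
    ((piB F x : Fˣ) : F) = A 0 0 ^ 2 :=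
  rep_sq_eq ((exists_rep x).choose_spec.1.trans hA.symm)

theorem conj_upp (x : brl F) (b : F) :
    (x : PSL2 F) * upp b * (x : PSL2 F)⁻¹ = upp (((piB F x : Fˣ) : F) * b) := by
  obtain ⟨A, hA, h10⟩ := exists_rep x
  rw [piB_val hA, ← hA, upp_eq_mk, upp_eq_mk, mul_inv_eq_iff_eq_mul, ← QuotientGroup.mk_mul,
    ← QuotientGroup.mk_mul]
  congr 1
  have hd := upper_diag h10
  apply Subtype.ext
  rw [Matrix.SpecialLinearGroup.coe_mul, Matrix.SpecialLinearGroup.coe_mul, PLocalB.coe_upper,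
    PLocalB.coe_upper]
  ext i j
  fin_cases i <;> fin_cases j <;>
    simp [PLocalB.upper, Matrix.mul_apply, Fin.sum_univ_two, h10] <;>
    linear_combination (-(A 0 0 * b)) * hd

theorem piB_eq_one_iff (x : brl F) : piB F x = 1 ↔ ∃ b : F, (x : PSL2 F) = upp b := by
  obtain ⟨A, hA, h10⟩ := exists_rep x
  rw [← Units.val_eq_one, piB_val hA, ← isUni_infty_iff h10, hA]
  exact isUni_infty_iff_upp

/-- The range of `piB`. -/
noncomputable abbrev sqs (F : Type*) [Field F] [Fintype F] : Subgroup Fˣ := (piB F).range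

theorem card_piB_ker : Nat.card (piB F).ker = Fintype.card F := by
  rw [← Nat.card_eq_fintype_card]
  refine (Nat.card_congr (Equiv.ofBijective
    (fun b => (⟨⟨upp b, upp_mem_brl b⟩, (piB_eq_one_iff _).2 ⟨b, rfl⟩⟩ : (piB F).ker))
    ⟨fun a b h => upp_inj (congrArg (fun z : (piB F).ker => ((z : brl F) : PSL2 F)) h), ?_⟩)).symm
  rintro ⟨x, hx⟩
  obtain ⟨b, hb⟩ := (piB_eq_one_iff x).1 hx
  exact ⟨b, Subtype.ext (Subtype.ext hb.symm)⟩

theorem card_sqs_mul : Fintype.card F * Nat.card (sqs F) = Nat.card (brl F) := by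
  rw [← card_piB_ker, ← Subgroup.index_ker, Subgroup.card_mul_index]

/-- The linear characters of the Borel quotient separate. -/
theorem sum_chars (r : sqs F) [Fintype (sqs F →* ℂˣ)] [Decidable (r = 1)] :
    ∑ μ : sqs F →* ℂˣ, ((μ r : ℂˣ) : ℂ) = if r = 1 then (Nat.card (sqs F) : ℂ) else 0 := by
  classical
  haveI : NeZero ((Monoid.exponent (sqs F) : ℕ) : ℂ) :=
    ⟨Nat.cast_ne_zero.2 Monoid.exponent_ne_zero_of_finite⟩
  split_ifs with h
  · subst h
    simp only [map_one, Units.val_one, Finset.sum_const, Finset.card_univ, nsmul_eq_mul, mul_one]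
    rw [Fintype.card_eq_nat_card,
      CommGroup.card_monoidHom_of_hasEnoughRootsOfUnity (sqs F) ℂ]
  · obtain ⟨ν, hν⟩ := CommGroup.exists_apply_ne_one_of_hasEnoughRootsOfUnity (sqs F) ℂ h
    have e : ((ν r : ℂˣ) : ℂ) * ∑ μ : sqs F →* ℂˣ, ((μ r : ℂˣ) : ℂ) =
        ∑ μ : sqs F →* ℂˣ, ((μ r : ℂˣ) : ℂ) := by
      rw [Finset.mul_sum]
      exact Fintype.sum_equiv (Equiv.mulLeft ν) _ _ fun μ => by simp
    have : (((ν r : ℂˣ) : ℂ) - 1) * ∑ μ : sqs F →* ℂˣ, ((μ r : ℂˣ) : ℂ) = 0 := by
      linear_combination e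
    exact (mul_eq_zero.1 this).resolve_left (sub_ne_zero.2 fun h1 => hν (Units.ext h1))

section Two

/-- A point outside infinity. -/
theorem piB_conj {x : PSL2 F} (hx : x ∉ brl F) (b : brl F) (hb : x⁻¹ * (b : PSL2 F) * x ∈ brl F) :
    piB F ⟨x⁻¹ * (b : PSL2 F) * x, hb⟩ = (piB F b)⁻¹ := by
  obtain ⟨A, hA, hA0⟩ := exists_rep b
  obtain ⟨B, hB, hB0⟩ := exists_rep ⟨_, hb⟩
  obtain ⟨X, hX⟩ := QuotientGroup.mk_surjective x
  have hX0 : X 1 0 ≠ 0 := fun h => hx (by
    rw [mem_brl, ← hX]; classical exact (PLocalB.smul_infty_iff X).2 h)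
  have h : (QuotientGroup.mk (A * X) : PSL2 F) = QuotientGroup.mk (X * B) := by
    rw [QuotientGroup.mk_mul, QuotientGroup.mk_mul, hA, hB, hX]
    group
  have key : A 1 1 ^ 2 = B 0 0 ^ 2 := by
    have e1 : (A * X) 1 0 = A 1 1 * X 1 0 := by simp [Matrix.mul_apply, Fin.sum_univ_two, hA0]
    have e2 : (X * B) 1 0 = X 1 0 * B 0 0 := by simp [Matrix.mul_apply, Fin.sum_univ_two, hB0]
    refine mul_right_cancel₀ (pow_ne_zero 2 hX0) ?_
    rcases mk_eq_mk_iff.1 h with e | e <;> have e' := congrArg (fun Z : SL(2, F) => Z 1 0 ^ 2) e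
    · simp only [e1, e2] at e'; linear_combination e'
    · simp only [Matrix.SpecialLinearGroup.coe_neg, Matrix.neg_apply, e1, e2] at e'
      linear_combination e'
  refine eq_inv_of_mul_eq_one_left (Units.ext ?_)
  rw [Units.val_mul, piB_val hA, piB_val hB, Units.val_one, ← key]
  linear_combination (A 0 0 * A 1 1 + 1) * upper_diag hA0

theorem orbit_upp {v : OnePoint F} (hv : v ≠ ∞) :
    Nat.card (orbit (brl F) v) = Fintype.card F := by
  refine le_antisymm ?_ ?_
  · have h : orbit (brl F) v ⊆ {w : OnePoint F | w ≠ ∞} := by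
      rintro _ ⟨b, rfl⟩ h
      refine hv ?_
      have hb := mem_brl.1 (inv_mem b.2)
      rw [← inv_smul_smul (b : PSL2 F) v]
      exact (congrArg (fun z => (b : PSL2 F)⁻¹ • z) h).trans hb
    refine (Nat.card_mono (Set.toFinite _) h).trans (le_of_eq ?_)
    rw [Nat.card_coe_set_eq, show {w : OnePoint F | w ≠ ∞} = ({∞} : Set (OnePoint F))ᶜ from rfl,
      Set.ncard_compl, card_onePoint, Set.ncard_singleton, Nat.add_sub_cancel]
  · rw [← Nat.card_eq_fintype_card]
    refine Nat.card_le_card_of_injective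
      (fun b => (⟨upp b • v, ⟨⟨upp b, upp_mem_brl b⟩, rfl⟩⟩ : orbit (brl F) v)) fun a b h => ?_
    have h' : upp (-b + a) • v = v := by
      have := congrArg (fun z : orbit (brl F) v => (upp b)⁻¹ • (z : OnePoint F)) h
      simp only [inv_smul_smul, ← mul_smul, ← upp_neg, ← upp_add] at this
      exact this.trans (by rw [neg_add_cancel, upp_zero, one_smul])
    rcases isUni_upp (-b + a) with e | e
    · have := upp_inj (e.trans upp_zero.symm)
      linear_combination this
    · exact absurd ((e v).1 h') hv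

/-- The two-point stabilisers map onto the squares. -/
theorem card_two_point {x : PSL2 F} (hx : x ∉ brl F) :
    Nat.card {b : brl F // x⁻¹ * (b : PSL2 F) * x ∈ brl F} = Nat.card (sqs F) := by
  have hv : x • (∞ : OnePoint F) ≠ ∞ := fun h => hx (mem_brl.2 h)
  have e : Nat.card {b : brl F // x⁻¹ * (b : PSL2 F) * x ∈ brl F} =
      Nat.card (stabilizer (brl F) (x • (∞ : OnePoint F))) := by
    refine Nat.card_congr (Equiv.subtypeEquivRight fun b => ?_)
    rw [mem_brl, mul_smul, mul_smul, inv_smul_eq_iff, mem_stabilizer_iff]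
    exact Iff.rfl
  have h : Nat.card (orbit (brl F) (x • (∞ : OnePoint F))) *
      Nat.card (stabilizer (brl F) (x • (∞ : OnePoint F))) = Nat.card (brl F) := by
    rw [Nat.card_coe_set_eq, ← MulAction.index_stabilizer, mul_comm, Subgroup.card_mul_index]
  rw [orbit_upp hv, ← card_sqs_mul] at h
  rw [e]
  exact Nat.eq_of_mul_eq_mul_left Fintype.card_pos h

theorem bijective_two_point {x : PSL2 F} (hx : x ∉ brl F) :
    Function.Bijective fun b : {b : brl F // x⁻¹ * (b : PSL2 F) * x ∈ brl F} =>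
      (⟨piB F b.1, ⟨b.1, rfl⟩⟩ : sqs F) := by
  classical
  rw [Fintype.bijective_iff_injective_and_card]
  refine ⟨?_, by rw [Fintype.card_eq_nat_card, Fintype.card_eq_nat_card, card_two_point hx]⟩
  rintro ⟨a, ha⟩ ⟨b, hb⟩ h
  have h1 : piB F (a⁻¹ * b) = 1 := by
    rw [map_mul, map_inv, inv_mul_eq_one]; exact congrArg Subtype.val h
  obtain ⟨c, hc⟩ := (piB_eq_one_iff _).1 h1
  have hcb : x⁻¹ * upp c * x ∈ brl F := by
    rw [← hc]
    have := mul_mem (inv_mem ha) hb
    simpa [mul_assoc] using this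
  by_cases hc0 : c = 0
  · rw [hc0, upp_zero, OneMemClass.coe_eq_one, inv_mul_eq_one] at hc
    exact Subtype.ext hc
  · exact absurd (mem_brl_of_conj hc0 hcb) hx

end Two

section Odd

variable {n : ℕ} (hF : Fintype.card F = 3 ^ (2 * n + 1))
include hF

theorem three_eq_zero : (3 : F) = 0 := by
  haveI : Fact (Nat.Prime 3) := ⟨Nat.prime_three⟩
  haveI : CharP F 3 := charP_of_card_eq_prime_pow (f := 2 * n + 1) hF
  exact_mod_cast CharP.cast_eq_zero F 3

theorem card_mod_four : Fintype.card F % 4 = 3 := by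
  rw [hF, pow_succ, pow_mul, Nat.mul_mod, Nat.pow_mod]
  norm_num

theorem two_mul_card_brl : 2 * Nat.card (brl F) = Fintype.card F * (Fintype.card F - 1) := by
  have h := d_mul_card_stabilizer (∞ : OnePoint F)
  have := card_mod_four hF
  rwa [Nat.gcd_eq_left (by omega : 2 ∣ Fintype.card F - 1)] at h

theorem two_mul_card_psl :
    2 * Nat.card (PSL2 F) = (Fintype.card F + 1) * (Fintype.card F * (Fintype.card F - 1)) := by
  have h := card_psl_eq (F := F)
  have := card_mod_four hF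
  rwa [Nat.gcd_eq_left (by omega : 2 ∣ Fintype.card F - 1)] at h

theorem two_mul_card_sqs : 2 * Nat.card (sqs F) = Fintype.card F - 1 := by
  refine Nat.eq_of_mul_eq_mul_left (Fintype.card_pos (α := F)) ?_
  rw [mul_left_comm, card_sqs_mul, two_mul_card_brl hF]

theorem piB_ne_neg_one (x : brl F) : ((piB F x : Fˣ) : F) ≠ -1 := by
  intro h
  obtain ⟨A, hA, -⟩ := exists_rep x
  rw [piB_val hA] at h
  have hns : ¬ IsSquare (-1 : F) := by
    rw [FiniteField.isSquare_neg_one_iff, card_mod_four hF]; norm_num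
  exact hns ⟨A 0 0, by rw [← pow_two]; exact h.symm⟩

theorem orderOf_upp {b : F} (hb : b ≠ 0) : orderOf (upp b) = 3 := by
  haveI : Fact (Nat.Prime 3) := ⟨Nat.prime_three⟩
  refine orderOf_eq_prime ?_ (upp_ne_one hb)
  rw [pow_succ, pow_two, ← upp_add, ← upp_add,
    show b + b + b = 3 * b by ring, three_eq_zero hF, zero_mul, upp_zero]

/-- The centraliser of a nontrivial unipotent element is unipotent. -/
theorem exists_upp_of_commute {b : F} (hb : b ≠ 0) {x : PSL2 F} (h : x * upp b = upp b * x) :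
    ∃ c : F, x = upp c := by
  have hx : x ∈ brl F := mem_brl_of_conj hb (by
    rw [mul_assoc, ← h, inv_mul_cancel_left]; exact upp_mem_brl b)
  have h' := conj_upp ⟨x, hx⟩ b
  rw [show (x : PSL2 F) * upp b * x⁻¹ = upp b by rw [h, mul_inv_cancel_right]] at h'
  exact (piB_eq_one_iff ⟨x, hx⟩).1 (Units.ext (mul_right_cancel₀ hb
    ((one_mul b).symm ▸ (upp_inj h').symm)))

end Odd

end Cfsg.Agent.GoldGroups11
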