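import Cfsg.Agent.GoldGroups11.Local

/-!
The Sylow `3`-subgroup and the action on the torus in a group of Ree type without a section `S₃`.
-/

set_option autoImplicit false
set_option linter.style.haveILetI false
set_option linter.unusedSectionVars false

namespace Cfsg.Agent.GoldGroups11

open Cfsg.Agent.Dickson
open scoped MatrixGroups

namespace Ree

variable {G : Type*} [Group G] [Finite G] {F : Type*} [Field F] [Fintype F] {n m : ℕ}
  (D : Ree G F n m)
include D

/-- The Sylow `3`-subgroup of `PSL₂(q)`, inside `G`. -/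
noncomputable def U : Subgroup G := (D.ψ.comp (uppHom F)).range

theorem mem_U {x : G} : x ∈ D.U ↔ ∃ b : F, x = D.ψ (upp b) :=
  ⟨fun ⟨b, hb⟩ => ⟨b.toAdd, hb.symm⟩, fun ⟨b, hb⟩ => ⟨Multiplicative.ofAdd b, hb.symm⟩⟩

theorem card_U : Nat.card D.U = 3 ^ (2 * n + 1) := by
  rw [U, ← Nat.card_congr (MonoidHom.ofInjective (f := D.ψ.comp (uppHom F))
    (D.inj.comp uppHom_injective)).toEquiv, Nat.card_congr Multiplicative.toAdd,
    Nat.card_eq_fintype_card, D.card_F]

theorem isPGroup_U : IsPGroup 3 D.U := IsPGroup.of_card D.card_U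

theorem ψ_upp_order {b : F} (hb : b ≠ 0) : orderOf (D.ψ (upp b)) = 3 := by
  rw [orderOf_injective D.ψ D.inj, orderOf_upp D.card_F hb]

/-- Subgroups meeting the centraliser of `t` in `⟨t⟩U` have a normal `2`-complement. -/
theorem exists_two_complement (H : Subgroup G) (htH : D.t ∈ H)
    (hH : ∀ x ∈ H, x * D.t = D.t * x → ∃ b : F, x = D.ψ (upp b) ∨ x = D.t * D.ψ (upp b)) :
    ∃ O : Subgroup H, O.Normal ∧ (∀ x : H, Odd (orderOf x) → x ∈ O) ∧ (⟨D.t, htH⟩ : H) ∉ O ∧ O.index = 2 ∧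
      (∀ x : H, orderOf x = 2 → ∃ k : H, k * ⟨D.t, htH⟩ * k⁻¹ = x) ∧
      (∀ x : H, (∃ j : ℕ, orderOf x = 2 ^ j) → x ∉ O → ∃ k : H, k * ⟨D.t, htH⟩ * k⁻¹ = x) := by
  classical
  haveI : Fact (Nat.Prime 2) := ⟨Nat.prime_two⟩
  set τ : H := ⟨D.t, htH⟩ with hτ
  have hτo : orderOf τ = 2 := by rw [← Subgroup.orderOf_coe]; exact D.t_order
  have hS2 : IsPGroup 2 (Subgroup.zpowers τ) :=
    IsPGroup.of_card (n := 1) (by rw [Nat.card_zpowers, hτo, pow_one])
  obtain ⟨S, hS⟩ := hS2.exists_le_sylow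
  have hcomm : ∀ x ∈ (S : Subgroup H), x * τ = τ * x := fun x hx =>
    Subtype.ext (D.two_group_comm (S.isPGroup'.map H.subtype) ⟨x, hx, rfl⟩
      ⟨τ, hS (Subgroup.mem_zpowers τ), rfl⟩)
  have hSeq : (S : Subgroup H) = Subgroup.zpowers τ := by
    refine le_antisymm (fun x hx => ?_) hS
    obtain ⟨j, hj⟩ := IsPGroup.iff_orderOf.1 S.isPGroup' ⟨x, hx⟩
    have hxo : orderOf (x : G) = 2 ^ j := by
      rw [Subgroup.orderOf_coe, ← hj]
      exact Subgroup.orderOf_coe (⟨x, hx⟩ : (S : Subgroup H))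
    obtain ⟨b, hb⟩ := hH x x.2 (congrArg Subtype.val (hcomm x hx))
    have hb0 : b = 0 := by
      by_contra hb0
      rcases hb with hb | hb
      · rw [hb, D.ψ_upp_order hb0] at hxo
        rcases Nat.eq_zero_or_pos j with rfl | hj0
        · omega
        · have := dvd_pow_self 2 hj0.ne'
          omega
      · have h1 : ((x : G) * x) ^ 2 ^ j = 1 := by
          rw [← pow_two, ← pow_mul, mul_comm, pow_mul, ← hxo, pow_orderOf_eq_one, one_pow]
        have h2 : (x : G) * x = D.ψ (upp (b + b)) := by rw [hb, D.mul_t, upp_add]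
        have hbb : b + b ≠ 0 := by
          rw [← two_mul]; exact mul_ne_zero D.two_ne_zero' hb0
        rw [h2] at h1
        have := orderOf_dvd_of_pow_eq_one h1
        rw [D.ψ_upp_order hbb] at this
        have := (Nat.prime_dvd_prime_iff_eq Nat.prime_three Nat.prime_two).1
          (Nat.prime_three.dvd_of_dvd_pow this)
        omega
    rw [hb0, upp_zero, map_one, mul_one] at hb
    rcases hb with hb | hb
    · rw [show x = 1 from Subtype.ext hb]; exact one_mem _
    · rw [show x = τ from Subtype.ext hb]; exact Subgroup.mem_zpowers τ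
  have hScard : Nat.card (S : Subgroup H) = 2 := by rw [hSeq, Nat.card_zpowers, hτo]
  have hN : Subgroup.normalizer ((S : Subgroup H) : Set H) ≤
      Subgroup.centralizer ((S : Subgroup H) : Set H) := by
    intro k hk
    have h1 := (Subgroup.mem_normalizer_iff.1 hk τ).1 (hS (Subgroup.mem_zpowers τ))
    rw [hSeq] at h1
    have h2 : k * τ * k⁻¹ = τ := by
      classical
      rw [← mem_powers_iff_mem_zpowers, mem_powers_iff_mem_range_orderOf, Finset.mem_image, hτo] at h1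
      obtain ⟨i, hi, he⟩ := h1
      rw [Finset.mem_range] at hi
      interval_cases i
      · exfalso
        rw [pow_zero, eq_comm, conj_eq_one_iff] at he
        rw [he, orderOf_one] at hτo
        omega
      · rw [← he, pow_one]
    refine Subgroup.mem_centralizer_iff.2 fun a ha => ?_
    rw [SetLike.mem_coe, hSeq] at ha
    obtain ⟨i, rfl⟩ := Subgroup.mem_zpowers_iff.1 ha
    have h3 : Commute τ k := (mul_inv_eq_iff_eq_mul.1 h2).symm
    exact (h3.zpow_left i).eq
  have hc := MonoidHom.ker_transferSylow_isComplement' S hN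
  have hconj2 : ∀ x : H, (∃ j : ℕ, orderOf x = 2 ^ j) → x = 1 ∨ ∃ k : H, k * τ * k⁻¹ = x := by
    rintro x ⟨j, hj⟩
    obtain ⟨Q, hQ⟩ := (IsPGroup.of_card (n := j) (show Nat.card (Subgroup.zpowers x) = 2 ^ j by
      rw [Nat.card_zpowers, hj]) : IsPGroup 2 (Subgroup.zpowers x)).exists_le_sylow
    obtain ⟨k, hk⟩ := MulAction.exists_smul_eq H S Q
    have hxQ := hQ (Subgroup.mem_zpowers x)
    rw [← hk, Sylow.coe_subgroup_smul, Subgroup.mem_pointwise_smul_iff_inv_smul_mem, hSeq,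
      ← mem_powers_iff_mem_zpowers, mem_powers_iff_mem_range_orderOf, Finset.mem_image, hτo] at hxQ
    obtain ⟨i, hi, he⟩ := hxQ
    rw [Finset.mem_range] at hi
    have he' : k⁻¹ * x * k = τ ^ i := by simpa [MulAut.smul_def] using he.symm
    interval_cases i
    · left
      rw [pow_zero] at he'
      have h' := congrArg (fun z => k * z * k⁻¹) he'
      simpa [mul_assoc] using h'
    · refine Or.inr ⟨k, ?_⟩
      rw [pow_one] at he'
      rw [← he']
      group
  have hidx : (MonoidHom.transferSylow S hN).ker.index = 2 := by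
    refine Nat.eq_of_mul_eq_mul_left (Nat.card_pos (α := (MonoidHom.transferSylow S hN).ker)) ?_
    rw [Subgroup.card_mul_index, ← hc.card_mul, hScard]
  refine ⟨(MonoidHom.transferSylow S hN).ker, inferInstance, fun x hx => ?_, fun h => ?_, hidx,
    fun x hx => ?_, fun x hx hxO => ?_⟩
  · have h1 : orderOf (MonoidHom.transferSylow S hN x) ∣ 2 :=
      (orderOf_dvd_natCard _).trans (dvd_of_eq hScard)
    have h2 := orderOf_map_dvd (MonoidHom.transferSylow S hN) x
    have h3 := Nat.dvd_gcd h1 h2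
    obtain ⟨i, hi⟩ := hx
    rw [(Nat.coprime_two_left.2 ⟨i, hi⟩).gcd_eq_one, Nat.dvd_one] at h3
    exact orderOf_eq_one_iff.1 h3
  · have : τ ∈ (MonoidHom.transferSylow S hN).ker ⊓ (S : Subgroup H) :=
      ⟨h, hS (Subgroup.mem_zpowers τ)⟩
    rw [hc.disjoint.eq_bot, Subgroup.mem_bot] at this
    rw [this, orderOf_one] at hτo
    omega
  · rcases hconj2 x ⟨1, by rw [hx, pow_one]⟩ with rfl | h
    · rw [orderOf_one] at hx; omega
    · exact h
  · rcases hconj2 x hx with rfl | h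
    · exact absurd (one_mem _) hxO
    · exact h

/-- A `3`-subgroup normalised by `t` is centralised by `t`. -/
theorem t_centralizes {R : Subgroup G} (hR : IsPGroup 3 R)
    (h : D.t ∈ Subgroup.normalizer (R : Set G)) : D.t ∈ Subgroup.centralizer (R : Set G) := by
  by_contra hc
  haveI : Fact (Nat.Prime 3) := ⟨Nat.prime_three⟩
  obtain ⟨x, y, hx, hy, hy1, hxy⟩ :=
    LocalEven61.exists_inverted ⟨1, by rw [D.t_order, pow_one]⟩ hR h hc
  exact D.no_inverted hx hy hy1 hxy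

/-- The centraliser of the Sylow subgroup `U`. -/
noncomputable def CU : Subgroup G := Subgroup.centralizer (D.U : Set G)

theorem t_mem_CU : D.t ∈ D.CU := Subgroup.mem_centralizer_iff.2 fun x hx => by
  obtain ⟨b, rfl⟩ := D.mem_U.1 hx
  exact (D.comm _).symm

theorem commute_upp {b : F} (hb : b ≠ 0) {x : G} (hx : x * D.t = D.t * x)
    (h : x * D.ψ (upp b) = D.ψ (upp b) * x) :
    ∃ c : F, x = D.ψ (upp c) ∨ x = D.t * D.ψ (upp c) := by
  obtain ⟨y, hy | hy⟩ := D.cent x hx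
  · rw [hy, ← map_mul, ← map_mul] at h
    obtain ⟨c, rfl⟩ := exists_upp_of_commute D.card_F hb (D.inj h)
    exact ⟨c, Or.inl hy⟩
  · rw [hy, mul_assoc, ← mul_assoc (D.ψ (upp b)), ← D.comm, mul_assoc D.t, ← map_mul, ← map_mul] at h
    obtain ⟨c, rfl⟩ := exists_upp_of_commute D.card_F hb (D.inj (mul_left_cancel h))
    exact ⟨c, Or.inr hy⟩

theorem CU_meet {x : G} (hx : x ∈ D.CU) (hxt : x * D.t = D.t * x) :
    ∃ c : F, x = D.ψ (upp c) ∨ x = D.t * D.ψ (upp c) :=
  D.commute_upp one_ne_zero hxt (Subgroup.mem_centralizer_iff.1 hx _ (D.mem_U.2 ⟨1, rfl⟩)).symm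

/-- Elements normalising `U` act by scalars. -/
theorem normalizer_scalar {x : G} (hx : x ∈ Subgroup.normalizer (D.U : Set G)) :
    ∃ μ : F, ∀ b : F, x * D.ψ (upp b) * x⁻¹ = D.ψ (upp (μ * b)) := by
  obtain ⟨O, -, -, -, -, hinv, -⟩ := D.exists_two_complement D.CU D.t_mem_CU fun y hy => D.CU_meet hy
  have hx' : x * D.t * x⁻¹ ∈ D.CU := by
    refine Subgroup.mem_centralizer_iff.2 fun u hu => ?_
    have h1 : x⁻¹ * u * x ∈ D.U := by
      have := (Subgroup.mem_normalizer_iff.1 (inv_mem hx) u).1 hu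
      rwa [inv_inv] at this
    obtain ⟨b, hb⟩ := D.mem_U.1 h1
    calc u * (x * D.t * x⁻¹) = x * ((x⁻¹ * u * x) * D.t) * x⁻¹ := by group
      _ = x * (D.t * (x⁻¹ * u * x)) * x⁻¹ := by rw [hb, D.comm]
      _ = x * D.t * x⁻¹ * u := by group
  obtain ⟨⟨k, hkU⟩, hk⟩ := hinv ⟨_, hx'⟩ (by
    rw [← Subgroup.orderOf_coe, D.orderOf_conj, D.t_order])
  have hk' : k * D.t * k⁻¹ = x * D.t * x⁻¹ := congrArg Subtype.val hk
  have hyt : (k⁻¹ * x) * D.t = D.t * (k⁻¹ * x) := by
    calc k⁻¹ * x * D.t = k⁻¹ * (x * D.t * x⁻¹) * x := by group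
      _ = D.t * (k⁻¹ * x) := by rw [← hk']; group
  have hcommk : ∀ c : F, k * D.ψ (upp c) * k⁻¹ = D.ψ (upp c) := fun c => by
    rw [← Subgroup.mem_centralizer_iff.1 hkU _ (D.mem_U.2 ⟨c, rfl⟩), mul_inv_cancel_right]
  have hact : ∃ y : PSL2 F, ∀ b : F, x * D.ψ (upp b) * x⁻¹ = k * D.ψ (y * upp b * y⁻¹) * k⁻¹ := by
    obtain ⟨y, hy | hy⟩ := D.cent _ hyt
    · refine ⟨y, fun b => ?_⟩
      rw [map_mul, map_mul, map_inv, ← hy]; group
    · refine ⟨y, fun b => ?_⟩
      have e : D.ψ (y * upp b * y⁻¹) = (k⁻¹ * x) * D.ψ (upp b) * (k⁻¹ * x)⁻¹ := by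
        rw [hy]
        calc D.ψ (y * upp b * y⁻¹) = D.t * D.ψ (y * upp b * y⁻¹) * D.t⁻¹ := by
              rw [D.comm, mul_inv_cancel_right]
          _ = _ := by rw [map_mul, map_mul, map_inv]; group
      rw [e]; group
  obtain ⟨y, hy⟩ := hact
  have hyU : ∀ b : F, ∃ c : F, y * upp b * y⁻¹ = upp c ∧ x * D.ψ (upp b) * x⁻¹ = D.ψ (upp c) := by
    intro b
    obtain ⟨c, hc⟩ := D.mem_U.1 ((Subgroup.mem_normalizer_iff.1 hx _).1 (D.mem_U.2 ⟨b, rfl⟩))
    refine ⟨c, D.inj ?_, hc⟩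
    have h := hy b
    rw [hc] at h
    have h' : D.ψ (y * upp b * y⁻¹) = k⁻¹ * D.ψ (upp c) * k := by rw [h]; group
    rw [h']
    conv_lhs => rw [← hcommk c]
    group
  obtain ⟨c, hc, -⟩ := hyU 1
  have hyB : y ∈ brl F := by
    have := mem_brl_of_conj (b := (1 : F)) one_ne_zero (x := y⁻¹)
      (by rw [inv_inv, hc]; exact upp_mem_brl c)
    simpa using inv_mem this
  refine ⟨((piB F ⟨y, hyB⟩ : Fˣ) : F), fun b => ?_⟩
  obtain ⟨c', hc1, hc2⟩ := hyU b
  rw [hc2]
  congr 1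
  rw [← hc1]
  exact conj_upp ⟨y, hyB⟩ b

/-- A `3`-element normalising `U` centralises it. -/
theorem three_element_normalizer {x : G} (hx : x ∈ Subgroup.normalizer (D.U : Set G)) {k : ℕ}
    (hk : x ^ 3 ^ k = 1) : x ∈ D.CU := by
  haveI : Fact (Nat.Prime 3) := ⟨Nat.prime_three⟩
  haveI : CharP F 3 := charP_of_card_eq_prime_pow (f := 2 * n + 1) D.card_F
  obtain ⟨μ, hμ⟩ := D.normalizer_scalar hx
  have hpow : ∀ (i : ℕ) (b : F), x ^ i * D.ψ (upp b) * (x ^ i)⁻¹ = D.ψ (upp (μ ^ i * b)) := by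
    intro i
    induction i with
    | zero => intro b; simp
    | succ i ih =>
      intro b
      calc x ^ (i + 1) * D.ψ (upp b) * (x ^ (i + 1))⁻¹
          = x * (x ^ i * D.ψ (upp b) * (x ^ i)⁻¹) * x⁻¹ := by rw [pow_succ']; group
        _ = D.ψ (upp (μ ^ (i + 1) * b)) := by rw [ih, hμ]; congr 2; ring
  have h1 := hpow (3 ^ k) 1
  rw [hk, one_mul, inv_one, mul_one, mul_one] at h1
  have h2 : μ ^ 3 ^ k = 1 := (upp_inj (D.inj h1)).symm
  have hμ1 : μ = 1 := by
    have h3 : (μ - 1) ^ 3 ^ k = 0 := by rw [sub_pow_char_pow, h2, one_pow, sub_self]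
    exact sub_eq_zero.1 ((pow_eq_zero_iff (pow_ne_zero _ (by norm_num))).1 h3)
  refine Subgroup.mem_centralizer_iff.2 fun u hu => ?_
  obtain ⟨b, rfl⟩ := D.mem_U.1 hu
  have := hμ b
  rw [hμ1, one_mul] at this
  exact (mul_inv_eq_iff_eq_mul.1 this).symm

/-- The `3`-part of `|G|` is `q`. -/
theorem not_three_pow_dvd : ¬ 3 ^ (2 * n + 2) ∣ Nat.card G := by
  classical
  haveI : Fact (Nat.Prime 3) := ⟨Nat.prime_three⟩
  obtain ⟨O, hOn, hodd, htO, hidx, -, hinvO⟩ :=
    D.exists_two_complement D.CU D.t_mem_CU fun y hy => D.CU_meet hy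
  haveI := hOn
  -- a Sylow subgroup of O normalised by t
  obtain ⟨P0⟩ : Nonempty (Sylow 3 O) := inferInstance
  set P1 := (P0 : Subgroup O).map O.subtype with hP1
  have hfr := Sylow.normalizer_sup_eq_top P0
  obtain ⟨v, hv, hvO⟩ : ∃ v ∈ Subgroup.normalizer (P1 : Set D.CU), v ∉ O := by
    by_contra! h
    rw [sup_eq_right.2 h] at hfr
    exact htO (hfr ▸ Subgroup.mem_top _)
  obtain ⟨e, he, hk⟩ := LocalEven61.exists_pow_two_element v
  have hveO : v ^ e ∉ O := by
    intro h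
    obtain ⟨i, rfl⟩ := he
    have hsq : v * v ∈ O := by
      exact Subgroup.mul_self_mem_of_index_two hidx v
    rw [pow_succ, pow_mul, pow_two] at h
    exact hvO ((Subgroup.mul_mem_cancel_left O (pow_mem hsq i)).1 h)
  obtain ⟨k, hk'⟩ := hinvO (v ^ e) hk hveO
  have hkn : k⁻¹ * v ^ e * k = ⟨D.t, D.t_mem_CU⟩ := by rw [← hk']; group
  set P2 := P1.map (MulAut.conj k⁻¹).toMonoidHom with hP2
  set R0 := P2.map D.CU.subtype with hR0
  have hR0p : IsPGroup 3 R0 := ((P0.isPGroup'.map _).map _).map _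
  have htN : D.t ∈ Subgroup.normalizer (R0 : Set G) := by
    refine Subgroup.le_normalizer_map D.CU.subtype ⟨⟨D.t, D.t_mem_CU⟩, ?_, rfl⟩
    refine Subgroup.le_normalizer_map (MulAut.conj k⁻¹).toMonoidHom
      ⟨v ^ e, pow_mem hv e, ?_⟩
    simpa using hkn
  have htc := D.t_centralizes hR0p htN
  have hR0U : R0 ≤ D.U := by
    intro r hr
    have hrt : r * D.t = D.t * r := Subgroup.mem_centralizer_iff.1 htc r hr
    have hrC : r ∈ D.CU := Subgroup.map_subtype_le _ hr
    obtain ⟨c, hc | hc⟩ := D.CU_meet hrC hrt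
    · exact D.mem_U.2 ⟨c, hc⟩
    · exfalso
      obtain ⟨i, hi⟩ := IsPGroup.iff_orderOf.1 hR0p ⟨r, hr⟩
      have hro : Odd (orderOf r) := by
        rw [← Subgroup.orderOf_coe] at hi
        rw [show orderOf r = 3 ^ i from hi]
        exact Odd.pow (by decide)
      obtain ⟨z, hz⟩ := D.range_of_odd hrt hro
      exact D.tψ_not_range (hc.symm.trans hz)
  -- every `3`-subgroup of C(U) has order at most q
  have hle : ∀ R : Subgroup G, IsPGroup 3 R → R ≤ D.CU → Nat.card R ≤ Nat.card D.U := by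
    intro R hR hRC
    have hRO : (R.subgroupOf D.CU) ≤ O := by
      intro x hx
      refine hodd x ?_
      obtain ⟨i, hi⟩ := IsPGroup.iff_orderOf.1 hR ⟨(x : G), hx⟩
      rw [← Subgroup.orderOf_coe] at hi
      rw [← Subgroup.orderOf_coe, show orderOf (x : G) = 3 ^ i from hi]
      exact Odd.pow (by decide)
    set R' := (R.subgroupOf D.CU).subgroupOf O with hR'
    have hR'p : IsPGroup 3 R' :=
      (hR.of_equiv (Subgroup.subgroupOfEquivOfLe hRC).symm).of_equiv
        (Subgroup.subgroupOfEquivOfLe hRO).symm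
    obtain ⟨Q, hQ⟩ := hR'p.exists_le_sylow
    calc Nat.card R = Nat.card R' := by
          rw [Nat.card_congr (Subgroup.subgroupOfEquivOfLe hRO).toEquiv,
            Nat.card_congr (Subgroup.subgroupOfEquivOfLe hRC).toEquiv]
      _ ≤ Nat.card (Q : Subgroup O) := Subgroup.card_le_of_le hQ
      _ = Nat.card (P0 : Subgroup O) := by rw [Q.card_eq_multiplicity, P0.card_eq_multiplicity]
      _ = Nat.card R0 := by
          rw [hR0, hP2, hP1, Subgroup.card_map_of_injective D.CU.subtype_injective,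
            Subgroup.card_map_of_injective (MulAut.conj k⁻¹).injective,
            Subgroup.card_map_of_injective O.subtype_injective]
      _ ≤ Nat.card D.U := Subgroup.card_le_of_le hR0U
  -- U is a Sylow subgroup
  obtain ⟨S, hS⟩ := D.isPGroup_U.exists_le_sylow
  have hSU : (S : Subgroup G) ⊓ Subgroup.normalizer (D.U : Set G) ≤ D.U := by
    have hUCU : D.U ≤ D.CU := fun u hu => Subgroup.mem_centralizer_iff.2 fun v hv => by
      obtain ⟨a, rfl⟩ := D.mem_U.1 hu
      obtain ⟨b, rfl⟩ := D.mem_U.1 hv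
      rw [← map_mul, ← map_mul, ← upp_add, ← upp_add, add_comm]
    have hin : (S : Subgroup G) ⊓ Subgroup.normalizer (D.U : Set G) ≤ D.CU := by
      rintro x ⟨hx, hxN⟩
      obtain ⟨i, hi⟩ := S.isPGroup' ⟨x, hx⟩
      exact D.three_element_normalizer hxN (congrArg Subtype.val hi)
    have hU' : D.U ≤ (S : Subgroup G) ⊓ Subgroup.normalizer (D.U : Set G) :=
      le_inf hS Subgroup.le_normalizer
    exact (Subgroup.eq_of_le_of_card_ge hU' (hle _ (S.isPGroup'.to_le inf_le_left) hin)).ge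
  have hSeq : (S : Subgroup G) = D.U := by
    by_contra hne
    have hnil : Group.IsNilpotent (S : Subgroup G) := S.isPGroup'.isNilpotent
    have hlt : D.U.subgroupOf (S : Subgroup G) < ⊤ := by
      rw [lt_top_iff_ne_top, Ne, Subgroup.subgroupOf_eq_top]
      exact fun h => hne (le_antisymm h hS)
    have := normalizerCondition_of_isNilpotent (G := (S : Subgroup G)) _ hlt
    refine this.not_ge fun x hx => ?_
    rw [← Subgroup.subgroupOf_normalizer_eq hS, Subgroup.mem_subgroupOf] at hx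
    exact hSU ⟨x.2, hx⟩
  intro h
  obtain ⟨d, hd⟩ : 3 ^ (2 * n + 1) * 3 ∣ Nat.card G := by rwa [← pow_succ]
  refine S.not_dvd_index ⟨d, ?_⟩
  refine Nat.eq_of_mul_eq_mul_left (show 0 < 3 ^ (2 * n + 1) by positivity) ?_
  conv_lhs => rw [← D.card_U, ← hSeq, Subgroup.card_mul_index, hd, mul_assoc]

end Ree

end Cfsg.Agent.GoldGroups11
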