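import Cfsg.Agent.GoldGroups11.Local2

/-!
The element of order three acts nontrivially on the torus.
-/

set_option autoImplicit false
set_option linter.style.haveILetI false
set_option linter.unusedSectionVars false

namespace Cfsg.Agent.GoldGroups11

open Cfsg.Agent.Dickson
open scoped MatrixGroups

namespace Ree

variable {G : Type*} [Group G] [Finite G] {F : Type*} [Field F] [Fintype F] {n m : ℕ}
  (D : Ree G F n m)
include D

theorem three_not_dvd_m : ¬ 3 ∣ m := fun h => D.not_three_R (by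
  rw [show Nat.card D.torus.R = 4 * m from D.torus.card_cent]
  exact h.mul_left 4)

theorem coprime_three_m : Nat.Coprime 3 m :=
  Nat.prime_three.coprime_iff_not_dvd.2 D.three_not_dvd_m

theorem pow_m_of_mem_A {a : PSL2 F} (ha : a ∈ D.torus.A) : a ^ m = 1 := by
  have h := congrArg Subtype.val (pow_card_eq_one' (x := (⟨a, ha⟩ : D.torus.A)))
  rwa [SubgroupClass.coe_pow, D.torus.card_A] at h

theorem A_pow_coprime {a : PSL2 F} (ha : a ∈ D.torus.A) {N : ℕ} (hN : Nat.Coprime N m)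
    (h : a ^ N = 1) : a = 1 := by
  have h1 := pow_gcd_eq_one.2 ⟨h, D.pow_m_of_mem_A ha⟩
  rwa [hN.gcd_eq_one, pow_one] at h1

/-- Commuting with `t` and with the second involution. -/
def InD (x : G) : Prop :=
  x * D.t = D.t * x ∧ x * D.ψ D.torus.z = D.ψ D.torus.z * x

theorem inD_cases {x : G} (hx : D.InD x) :
    ∃ r ∈ D.torus.R, x = D.ψ r ∨ x = D.t * D.ψ r := by
  obtain ⟨r, hr | hr⟩ := D.cent x hx.1
  · refine ⟨r, Subgroup.mem_centralizer_singleton_iff.2 (D.inj ?_), Or.inl hr⟩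
    rw [map_mul, map_mul, ← hr, hx.2]
  · refine ⟨r, Subgroup.mem_centralizer_singleton_iff.2 (D.inj (mul_left_cancel (a := D.t) ?_)),
      Or.inr hr⟩
    have h := hx.2
    rw [hr, mul_assoc, ← mul_assoc (D.ψ D.torus.z), ← D.comm, mul_assoc D.t] at h
    rw [map_mul, map_mul]
    exact h

theorem inD_of_mem_R {r : PSL2 F} (hr : r ∈ D.torus.R) : D.InD (D.ψ r) ∧ D.InD (D.t * D.ψ r) := by
  have h : D.ψ r * D.ψ D.torus.z = D.ψ D.torus.z * D.ψ r := by
    rw [← map_mul, ← map_mul, Subgroup.mem_centralizer_singleton_iff.1 hr]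
  refine ⟨⟨(D.comm r).symm, h⟩, ⟨by rw [mul_assoc, ← D.comm], ?_⟩⟩
  rw [mul_assoc, h, ← mul_assoc, D.comm, mul_assoc]

theorem inD_odd {x : G} (hx : D.InD x) (ho : Odd (orderOf x)) : ∃ a ∈ D.torus.A, x = D.ψ a := by
  obtain ⟨y, rfl⟩ := D.range_of_odd hx.1 ho
  rw [orderOf_injective D.ψ D.inj] at ho
  refine ⟨y, D.torus.mem_A_of_odd (Subgroup.mem_centralizer_singleton_iff.2 (D.inj ?_)) ho, rfl⟩
  rw [map_mul, map_mul, hx.2]

variable {h : G} (ho : orderOf h = 3)
  (hs : h * D.t * h⁻¹ = D.ψ D.torus.z ∨ h * D.t * h⁻¹ = D.t * D.ψ D.torus.z)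
  (hc : h * (h * D.t * h⁻¹) * h⁻¹ = D.t * (h * D.t * h⁻¹))

include ho in
theorem h_cube : h * (h * (h * D.t * h⁻¹) * h⁻¹) * h⁻¹ = D.t := by
  have h3 : h ^ 3 = 1 := by rw [← ho]; exact pow_orderOf_eq_one h
  calc h * (h * (h * D.t * h⁻¹) * h⁻¹) * h⁻¹ = (h * h * h) * D.t * (h * h * h)⁻¹ := by group
    _ = D.t := by rw [show h * h * h = h ^ 3 by rw [pow_succ, pow_two], h3]; group

include ho hs hc in
theorem inD_conj {x : G} (hx : D.InD x) : D.InD (h * x * h⁻¹) := by
  set s := h * D.t * h⁻¹ with hsdef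
  have h1 : Commute x D.t := hx.1
  have h2 : Commute x s := by
    rcases hs with e | e <;> rw [e]
    · exact hx.2
    · exact Commute.mul_right h1 hx.2
  have h3 : Commute (h * x * h⁻¹) s := h1.map (MulAut.conj h)
  have h4 : Commute (h * x * h⁻¹) (D.t * s) := by
    rw [← hc]; exact h2.map (MulAut.conj h)
  have h5 : Commute (h * x * h⁻¹) D.t := by
    have := h4.mul_right h3.inv_right
    rwa [mul_inv_cancel_right] at this
  refine ⟨h5, ?_⟩
  rcases hs with e | e
  · rw [← e]; exact h3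
  · have h6 : Commute (h * x * h⁻¹) (D.t⁻¹ * s) := h5.inv_right.mul_right h3
    rw [e, inv_mul_cancel_left] at h6
    exact h6

include ho hs hc in
/-- The centraliser of the four-group contains an involution inverting the torus and fixed by `h`. -/
theorem exists_fixed_reflection (hA : ∀ a ∈ D.torus.A, h * D.ψ a = D.ψ a * h) :
    ∃ f : G, orderOf f = 2 ∧ f * h = h * f ∧
      ∀ a ∈ D.torus.A, f * D.ψ a * f⁻¹ = (D.ψ a)⁻¹ := by
  classical
  haveI : Fact (Nat.Prime 3) := ⟨Nat.prime_three⟩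
  have hg2 : D.torus.g ^ 2 ∈ D.torus.A := Subgroup.mem_zpowers _
  set γ := D.ψ (D.torus.g ^ 2) with hγ
  let α := {x : G // D.InD x ∧ ¬ Commute x γ}
  have hhγ : Commute h γ := hA _ hg2
  have hT : ∀ r ∈ D.torus.R, Commute (D.ψ r) γ ↔ r ∈ D.torus.T := by
    intro r hr
    refine ⟨fun hcm => D.torus.cent_A hg2 ?_ (D.inj ?_), fun hrT => ?_⟩
    · intro e
      have := D.torus.A_order
      rw [e, orderOf_one] at this
      have := D.torus.m_ge
      omega
    · rw [map_mul, map_mul]; exact hcm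
    · show D.ψ r * γ = γ * D.ψ r
      rw [hγ, ← map_mul, ← map_mul, D.torus.T_comm hrT (D.torus.A_le_T hg2)]
  have htγ : Commute D.t γ := D.comm _
  have hb : Function.Bijective (fun p : Fin 2 × {r : PSL2 F // r ∈ D.torus.R ∧ r ∉ D.torus.T} =>
      (⟨if p.1 = 0 then D.ψ p.2.1 else D.t * D.ψ p.2.1, by
        split_ifs
        · exact ⟨(D.inD_of_mem_R p.2.2.1).1, fun hcm => p.2.2.2 ((hT _ p.2.2.1).1 hcm)⟩
        · refine ⟨(D.inD_of_mem_R p.2.2.1).2, fun hcm => p.2.2.2 ((hT _ p.2.2.1).1 ?_)⟩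
          have := htγ.inv_left.mul_left hcm
          rwa [inv_mul_cancel_left] at this⟩ : α)) := by
    constructor
    · rintro ⟨i, r⟩ ⟨j, r'⟩ e
      have e' := congrArg Subtype.val e
      fin_cases i <;> fin_cases j <;> simp only [Fin.zero_eta, Fin.mk_one, if_pos,
        if_neg (show ¬ (1 : Fin 2) = 0 by decide)] at e'
      · rw [Subtype.ext (D.inj e')]
      · exact absurd e'.symm D.tψ_not_range
      · exact absurd e' D.tψ_not_range
      · rw [Subtype.ext (D.inj (mul_left_cancel e'))]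
    · rintro ⟨x, hx, hxγ⟩
      obtain ⟨r, hr, e | e⟩ := D.inD_cases hx
      · refine ⟨(0, ⟨r, hr, fun hrT => hxγ ?_⟩), Subtype.ext (by simp [e])⟩
        rw [e]; exact (hT r hr).2 hrT
      · refine ⟨(1, ⟨r, hr, fun hrT => hxγ ?_⟩), Subtype.ext (by simp [e])⟩
        rw [e]; exact htγ.mul_left ((hT r hr).2 hrT)
  have hcard : Nat.card α = 4 * m := by
    rw [← Nat.card_eq_of_bijective _ hb, Nat.card_prod, D.torus.card_refl]
    simp; ring
  have hh3 : h ^ 3 = 1 := by rw [← ho]; exact pow_orderOf_eq_one h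
  have hstab : ∀ x : α, D.InD (h * x.1 * h⁻¹) ∧ ¬ Commute (h * x.1 * h⁻¹) γ := by
    intro x
    refine ⟨D.inD_conj ho hs hc x.2.1, fun hcm => x.2.2 ?_⟩
    have h' : Commute (h⁻¹ * (h * x.1 * h⁻¹) * h⁻¹⁻¹) (h⁻¹ * γ * h⁻¹⁻¹) := hcm.map (MulAut.conj h⁻¹)
    rwa [show h⁻¹ * (h * x.1 * h⁻¹) * h⁻¹⁻¹ = x.1 by group,
      show h⁻¹ * γ * h⁻¹⁻¹ = γ by rw [inv_inv, mul_assoc, ← hhγ.eq, inv_mul_cancel_left]] at h'
  let f0 : α → α := fun x => ⟨h * x.1 * h⁻¹, hstab x⟩
  have hf3 : ∀ x, f0 (f0 (f0 x)) = x := fun x => Subtype.ext (by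
    show h * (h * (h * x.1 * h⁻¹) * h⁻¹) * h⁻¹ = x.1
    calc h * (h * (h * x.1 * h⁻¹) * h⁻¹) * h⁻¹ = (h * h * h) * x.1 * (h * h * h)⁻¹ := by group
      _ = x.1 := by rw [show h * h * h = h ^ 3 by rw [pow_succ, pow_two], hh3]; group)
  let σ : Equiv.Perm α := ⟨f0, fun x => f0 (f0 x), hf3, hf3⟩
  have hσ : σ ^ 3 ^ 1 = 1 := Equiv.ext hf3
  haveI : Fintype α := Fintype.ofFinite α
  obtain ⟨x, hx⟩ := Equiv.Perm.exists_fixed_point_of_prime (p := 3) (n := 1) (σ := σ)
    (by
      rw [← Nat.card_eq_fintype_card, hcard]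
      exact fun hd => D.three_not_dvd_m ((Nat.Coprime.dvd_mul_left (by norm_num)).1 hd)) hσ
  have hx' : h * x.1 * h⁻¹ = x.1 := congrArg Subtype.val hx
  obtain ⟨⟨i, r, hrR, hrT⟩, hir⟩ := hb.2 x
  have hir' := congrArg Subtype.val hir
  simp only at hir'
  obtain ⟨hr2, hrinv⟩ := D.torus.inverts hrR hrT
  have hψ2 : D.ψ r * D.ψ r = 1 := by rw [← map_mul, hr2, map_one]
  refine ⟨x.1, orderOf_eq_prime ?_ ?_, (mul_inv_eq_iff_eq_mul.1 hx').symm, fun a ha => ?_⟩
  · rw [pow_two, ← hir']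
    split_ifs
    · exact hψ2
    · rw [D.mul_t, hr2, map_one]
  · intro e
    exact x.2.2 (e ▸ Commute.one_left γ)
  · have hr' : D.ψ r * D.ψ a * (D.ψ r)⁻¹ = (D.ψ a)⁻¹ := by
      rw [← map_inv, ← map_mul, ← map_mul, hrinv a (D.torus.A_le_T ha), map_inv]
    rw [← hir']
    split_ifs
    · exact hr'
    · calc D.t * D.ψ r * D.ψ a * (D.t * D.ψ r)⁻¹
          = D.t * (D.ψ r * D.ψ a * (D.ψ r)⁻¹) * D.t⁻¹ := by group
        _ = (D.ψ a)⁻¹ := by rw [hr', ← map_inv, D.comm, mul_inv_cancel_right]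

theorem exists_conj_upp {y : PSL2 F} (hy : orderOf y = 3) :
    ∃ (c : PSL2 F) (b : F), c * upp b * c⁻¹ = y := by
  haveI : Fact (Nat.Prime 3) := ⟨Nat.prime_three⟩
  have hR : Nat.card (uppHom F).range = 3 ^ (2 * n + 1) := by
    rw [← Nat.card_congr (MonoidHom.ofInjective uppHom_injective).toEquiv,
      Nat.card_congr Multiplicative.toAdd, Nat.card_eq_fintype_card, D.card_F]
  have hidx : ¬ 3 ∣ (uppHom F).range.index := by
    intro hd
    have h1 := (uppHom F).range.card_mul_index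
    rw [hR, ← D.card_F] at h1
    have h2 := two_mul_card_psl D.card_F
    rw [← h1] at h2
    have h3 : 2 * (uppHom F).range.index = (Fintype.card F + 1) * (Fintype.card F - 1) :=
      Nat.eq_of_mul_eq_mul_left (Fintype.card_pos (α := F))
        (by rw [mul_left_comm, h2]; ring)
    have h4 : 3 ∣ (Fintype.card F + 1) * (Fintype.card F - 1) := h3 ▸ hd.mul_left 2
    have := D.q_mod
    have := D.q_ge
    rcases Nat.prime_three.dvd_mul.1 h4 with h5 | h5 <;> omega
  obtain ⟨Q, hQ⟩ := (IsPGroup.of_card (n := 1) (show Nat.card (Subgroup.zpowers y) = 3 ^ 1 by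
    rw [Nat.card_zpowers, hy, pow_one]) : IsPGroup 3 (Subgroup.zpowers y)).exists_le_sylow
  obtain ⟨c, hc⟩ := MulAction.exists_smul_eq (PSL2 F) ((IsPGroup.of_card hR).toSylow hidx) Q
  have hyQ := hQ (Subgroup.mem_zpowers y)
  rw [← hc, Sylow.coe_subgroup_smul, Subgroup.mem_pointwise_smul_iff_inv_smul_mem] at hyQ
  obtain ⟨b, hb⟩ := hyQ
  refine ⟨c, b.toAdd, ?_⟩
  have hb' : upp b.toAdd = c⁻¹ * y * c := by
    rw [upp, ofAdd_toAdd, hb]; simp [MulAut.smul_def]
  rw [hb']; group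

include ho hs hc in
/-- A fixed torus would force a small Sylow `3`-subgroup. -/
theorem not_centralizes (hA : ∀ a ∈ D.torus.A, h * D.ψ a = D.ψ a * h) : False := by
  classical
  haveI : Fact (Nat.Prime 3) := ⟨Nat.prime_three⟩
  haveI : Fact (Nat.Prime 2) := ⟨Nat.prime_two⟩
  obtain ⟨f, hf2, hfh, hfA⟩ := D.exists_fixed_reflection ho hs hc hA
  obtain ⟨g0, hg0⟩ := isConj_iff.1 (D.isConj_t hf2)
  have hh1 : orderOf (g0⁻¹ * h * g0) = 3 := by
    rw [show g0⁻¹ * h * g0 = g0⁻¹ * h * g0⁻¹⁻¹ by rw [inv_inv], D.orderOf_conj, ho]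
  have hh1t : (g0⁻¹ * h * g0) * D.t = D.t * (g0⁻¹ * h * g0) := by
    have h1 : Commute f h := hfh
    have h2 : Commute (g0⁻¹ * h * g0⁻¹⁻¹) (g0⁻¹ * f * g0⁻¹⁻¹) := h1.symm.map (MulAut.conj g0⁻¹)
    rw [inv_inv, ← hg0, show g0⁻¹ * (g0 * D.t * g0⁻¹) * g0 = D.t by group] at h2
    exact h2
  obtain ⟨y, hy⟩ := D.range_of_odd hh1t (by rw [hh1]; decide)
  rw [hy, orderOf_injective D.ψ D.inj] at hh1
  obtain ⟨c, b, hcb⟩ := D.exists_conj_upp hh1
  have hb0 : b ≠ 0 := fun e => by
    rw [← hcb, e, upp_zero, mul_one, mul_inv_cancel, orderOf_one] at hh1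
    omega
  set g := g0 * D.ψ c with hg
  have hgt : g * D.t * g⁻¹ = f := by
    rw [hg, ← hg0]
    calc g0 * D.ψ c * D.t * (g0 * D.ψ c)⁻¹ = g0 * (D.ψ c * D.t * (D.ψ c)⁻¹) * g0⁻¹ := by group
      _ = g0 * D.t * g0⁻¹ := by rw [← D.comm, mul_inv_cancel_right]
  have hgh : g * D.ψ (upp b) * g⁻¹ = h := by
    have e : D.ψ c * D.ψ (upp b) * (D.ψ c)⁻¹ = g0⁻¹ * h * g0 := by
      rw [hy, ← hcb, map_mul, map_mul, map_inv]
    calc g * D.ψ (upp b) * g⁻¹ = g0 * (D.ψ c * D.ψ (upp b) * (D.ψ c)⁻¹) * g0⁻¹ := by rw [hg]; group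
      _ = h := by rw [e]; group
  -- the centraliser of the unipotent element
  set h1 := D.ψ (upp b) with hh1def
  set H := Subgroup.centralizer ({h1} : Set G) with hH
  have hUcomm : ∀ x ∈ D.U, x * h1 = h1 * x := fun x hx => by
    obtain ⟨a, rfl⟩ := D.mem_U.1 hx
    rw [hh1def, ← map_mul, ← map_mul, ← upp_add, ← upp_add, add_comm]
  have hUH : D.U ≤ H := fun x hx => Subgroup.mem_centralizer_singleton_iff.2 (hUcomm x hx)
  have htH : D.t ∈ H := Subgroup.mem_centralizer_singleton_iff.2 (D.comm _)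
  obtain ⟨O, hOn, hodd, htO, hidx, hinv, -⟩ := D.exists_two_complement H htH fun x hx hxt =>
    D.commute_upp hb0 hxt (Subgroup.mem_centralizer_singleton_iff.1 hx)
  haveI := hOn
  set τ : H := ⟨D.t, htH⟩ with hτ
  set UH := D.U.subgroupOf H with hUHdef
  have hUHidx : ¬ 3 ∣ UH.index := by
    intro hd
    have h1' : 3 ∣ D.U.index := hd.trans ⟨H.index, (Subgroup.relIndex_mul_index hUH).symm⟩
    refine D.not_three_pow_dvd ?_
    rw [pow_succ, ← D.U.card_mul_index, D.card_U]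
    exact Nat.mul_dvd_mul_left _ h1'
  let S : Sylow 3 H :=
    (D.isPGroup_U.of_equiv (Subgroup.subgroupOfEquivOfLe hUH).symm).toSylow hUHidx
  have hN : Subgroup.normalizer ((S : Subgroup H) : Set H) ≤
      Subgroup.centralizer ((S : Subgroup H) : Set H) := by
    intro k hk
    have hk' : (k : G) ∈ Subgroup.normalizer (D.U : Set G) := by
      refine Subgroup.mem_normalizer_iff.2 fun x => ⟨fun hx => ?_, fun hx => ?_⟩
      · exact (Subgroup.mem_normalizer_iff.1 hk ⟨x, hUH hx⟩).1 hx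
      · have hxH : x ∈ H := by
          have e : (k : G)⁻¹ * ((k : G) * x * (k : G)⁻¹) * k = x := by group
          rw [← e]
          exact mul_mem (mul_mem (inv_mem k.2) (hUH hx)) k.2
        exact (Subgroup.mem_normalizer_iff.1 hk ⟨x, hxH⟩).2 hx
    obtain ⟨μ, hμ⟩ := D.normalizer_scalar hk'
    have hμ1 : μ = 1 := by
      have h2 := hμ b
      rw [Subgroup.mem_centralizer_singleton_iff.1 k.2, mul_inv_cancel_right] at h2
      exact mul_right_cancel₀ hb0 (by rw [one_mul]; exact (upp_inj (D.inj h2)).symm)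
    refine Subgroup.mem_centralizer_iff.2 fun u hu => Subtype.ext ?_
    obtain ⟨a, ha⟩ := D.mem_U.1 hu
    have h2 := hμ a
    rw [hμ1, one_mul] at h2
    show (u : G) * k = k * u
    rw [show (u : G) = D.ψ (upp a) from ha]
    exact (mul_inv_eq_iff_eq_mul.1 h2).symm
  have hcmp := MonoidHom.ker_transferSylow_isComplement' S hN
  set W := O ⊓ (MonoidHom.transferSylow S hN).ker with hW
  haveI hWn : W.Normal := Subgroup.normal_inf_normal _ _
  have hτ2 : τ * τ = 1 := Subtype.ext D.t_sq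
  have hfpf : ∀ x ∈ W, x * τ = τ * x → x = 1 := by
    intro x hx hxτ
    obtain ⟨a, ha | ha⟩ := D.commute_upp hb0 (congrArg Subtype.val hxτ)
      (Subgroup.mem_centralizer_singleton_iff.1 x.2)
    · have hxS : x ∈ (S : Subgroup H) := D.mem_U.2 ⟨a, ha⟩
      exact Subgroup.mem_bot.1 (hcmp.disjoint.eq_bot ▸ ⟨hx.2, hxS⟩)
    · exfalso
      have hu : (⟨D.ψ (upp a), hUH (D.mem_U.2 ⟨a, rfl⟩)⟩ : H) ∈ O := by
        refine hodd _ ?_
        rw [← Subgroup.orderOf_coe]
        by_cases h0 : a = 0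
        · simp [h0, upp_zero]
        · show Odd (orderOf (D.ψ (upp a)))
          rw [D.ψ_upp_order h0]; decide
      refine htO ?_
      have e : x = τ * ⟨D.ψ (upp a), hUH (D.mem_U.2 ⟨a, rfl⟩)⟩ := Subtype.ext ha
      exact (Subgroup.mul_mem_cancel_right O hu).1 (e ▸ hx.1)
  have hWcomm : ∀ x ∈ W, ∀ z ∈ W, x * z = z * x := by
    let φ : W →* W := ((MulAut.conj τ).toMonoidHom.comp W.subtype).codRestrict W
      fun w => hWn.conj_mem _ w.2 τ
    have hφ2 : Function.Involutive φ := fun w => Subtype.ext (by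
      show τ * (τ * (w : H) * τ⁻¹) * τ⁻¹ = w
      calc τ * (τ * (w : H) * τ⁻¹) * τ⁻¹ = τ * τ * w * (τ * τ)⁻¹ := by group
        _ = w := by rw [hτ2]; group)
    have hφf : MonoidHom.FixedPointFree φ := fun w hw => Subtype.ext (hfpf w w.2
      (mul_inv_eq_iff_eq_mul.1 (congrArg Subtype.val hw)).symm)
    have he := MonoidHom.FixedPointFree.coe_eq_inv_of_involutive hφf hφ2
    intro x hx z hz
    have h1' := map_mul φ (⟨x, hx⟩ : W) ⟨z, hz⟩
    rw [he] at h1'
    simp only [mul_inv_rev] at h1'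
    have h2 := congrArg (fun w : W => ((w⁻¹ : W) : H)) h1'
    simp only [mul_inv_rev, inv_inv, Subgroup.coe_mul] at h2
    exact h2
  -- the transported torus
  have hA1 : ∀ a ∈ D.torus.A, g⁻¹ * D.ψ a * g ∈ H := by
    intro a ha
    refine Subgroup.mem_centralizer_singleton_iff.2 ?_
    have h2 : Commute (g⁻¹ * D.ψ a * g⁻¹⁻¹) (g⁻¹ * h * g⁻¹⁻¹) :=
      (show Commute (D.ψ a) h from (hA a ha).symm).map (MulAut.conj g⁻¹)
    rw [inv_inv, ← hgh, show g⁻¹ * (g * h1 * g⁻¹) * g = h1 by group] at h2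
    exact h2
  have hA1W : ∀ a (ha : a ∈ D.torus.A), (⟨_, hA1 a ha⟩ : H) ∈ W := by
    intro a ha
    have hord : orderOf (⟨_, hA1 a ha⟩ : H) ∣ m := by
      rw [← Subgroup.orderOf_coe]
      show orderOf (g⁻¹ * D.ψ a * g) ∣ m
      rw [show g⁻¹ * D.ψ a * g = g⁻¹ * D.ψ a * g⁻¹⁻¹ by rw [inv_inv], D.orderOf_conj,
        orderOf_injective D.ψ D.inj]
      exact orderOf_dvd_of_pow_eq_one (D.pow_m_of_mem_A ha)
    refine ⟨hodd _ (D.torus.m_odd.of_dvd_nat hord), ?_⟩
    have h1' := Nat.dvd_gcd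
      ((orderOf_map_dvd (MonoidHom.transferSylow S hN) _).trans hord) (orderOf_dvd_natCard _)
    have hS : Nat.card (S : Subgroup H) = 3 ^ (2 * n + 1) := by
      rw [show (S : Subgroup H) = UH from IsPGroup.toSylow_coe _ _, hUHdef,
        Nat.card_congr (Subgroup.subgroupOfEquivOfLe hUH).toEquiv, D.card_U]
    rw [hS, (Nat.Coprime.pow_right _ D.coprime_three_m.symm).gcd_eq_one, Nat.dvd_one] at h1'
    exact orderOf_eq_one_iff.1 h1'
  -- W has no elements of order two or three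
  have hW6 : ∀ w ∈ W, Nat.Coprime (orderOf w) 12 := by
    intro w hw
    have key : ∀ p : ℕ, p.Prime → (∀ v ∈ W, orderOf v = p → False) → Nat.Coprime (orderOf w) p := by
      intro p hp hno
      rw [Nat.coprime_comm, hp.coprime_iff_not_dvd]
      intro hd
      exact hno _ (pow_mem hw _) (orderOf_pow_orderOf_div (orderOf_pos w).ne' hd)
    have c2 := key 2 Nat.prime_two fun v hv hv2 => by
      obtain ⟨k, hk⟩ := hinv v hv2
      refine htO ?_
      have : τ = k⁻¹ * v * k := by rw [← hk]; group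
      show τ ∈ O
      rw [show τ = k⁻¹ * v * k⁻¹⁻¹ by rw [inv_inv]; exact this]
      exact hOn.conj_mem _ hv.1 _
    have c3 := key 3 Nat.prime_three fun v hv hv3 => by
      obtain ⟨Q, hQ⟩ := (IsPGroup.of_card (n := 1) (show Nat.card (Subgroup.zpowers v) = 3 ^ 1 by
        rw [Nat.card_zpowers, hv3, pow_one]) : IsPGroup 3 (Subgroup.zpowers v)).exists_le_sylow
      obtain ⟨k, hk⟩ := MulAction.exists_smul_eq H S Q
      have hvQ := hQ (Subgroup.mem_zpowers v)
      rw [← hk, Sylow.coe_subgroup_smul, Subgroup.mem_pointwise_smul_iff_inv_smul_mem] at hvQ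
      have hv' : k⁻¹ * v * k ∈ W := by
        have := hWn.conj_mem v hv k⁻¹
        rwa [inv_inv] at this
      have hvS : k⁻¹ * v * k ∈ (S : Subgroup H) := by simpa [MulAut.smul_def] using hvQ
      have h0 : k⁻¹ * v * k = 1 := Subgroup.mem_bot.1 (hcmp.disjoint.eq_bot ▸ ⟨hv'.2, hvS⟩)
      have : v = 1 := by
        have h' := congrArg (fun z => k * z * k⁻¹) h0
        simpa [mul_assoc] using h'
      rw [this, orderOf_one] at hv3
      omega
    rw [show (12 : ℕ) = 2 ^ 2 * 3 by norm_num]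
    exact Nat.Coprime.mul_right (c2.pow_right 2) c3
  -- the centraliser of the torus
  set AG := D.torus.A.map D.ψ with hAG
  set X := Subgroup.centralizer (AG : Set G) with hX
  have memX : ∀ x : G, x ∈ X ↔ ∀ a ∈ D.torus.A, x * D.ψ a = D.ψ a * x := by
    intro x
    rw [hX, Subgroup.mem_centralizer_iff]
    exact ⟨fun hh a ha => (hh _ ⟨a, ha, rfl⟩).symm, by rintro hh _ ⟨a, ha, rfl⟩; exact (hh a ha).symm⟩
  have hAX : AG ≤ X := by
    rintro _ ⟨a, ha, rfl⟩
    refine (memX _).2 fun a' ha' => ?_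
    rw [← map_mul, ← map_mul, D.torus.T_comm (D.torus.A_le_T ha) (D.torus.A_le_T ha')]
  have hTX : ∀ r ∈ D.torus.T, D.ψ r ∈ X := fun r hr => (memX _).2 fun a ha => by
    rw [← map_mul, ← map_mul, D.torus.T_comm hr (D.torus.A_le_T ha)]
  have htX : D.t ∈ X := (memX _).2 fun a _ => D.comm a
  have hhX : h ∈ X := (memX _).2 hA
  have hzX : D.ψ D.torus.z ∈ X := hTX _ D.torus.z_mem_T
  set A' : Subgroup X := AG.subgroupOf X with hA'
  haveI hA'n : A'.Normal := ⟨fun a ha x => by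
    obtain ⟨a', ha', e⟩ := (Subgroup.mem_subgroupOf.1 ha)
    have : x * a * x⁻¹ = a := Subtype.ext (by
      show (x : G) * a * (x : G)⁻¹ = a
      rw [← e, (memX _).1 x.2 a' ha', mul_inv_cancel_right])
    rw [this]; exact ha⟩
  -- elements of X commuting with t
  have hCXt : ∀ x : G, x ∈ X → x * D.t = D.t * x → ∃ a ∈ D.torus.A,
      x = D.ψ a ∨ x = D.ψ D.torus.z * D.ψ a ∨ x = D.t * D.ψ a ∨
        x = D.t * D.ψ D.torus.z * D.ψ a := by
    intro x hx hxt
    have hγ : D.torus.g ^ 2 ∈ D.torus.A := Subgroup.mem_zpowers _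
    have hγ1 : D.torus.g ^ 2 ≠ 1 := fun e => by
      have := D.torus.A_order
      rw [e, orderOf_one] at this
      have := D.torus.m_ge
      omega
    have hcm := (memX x).1 hx _ hγ
    obtain ⟨r, hr | hr⟩ := D.cent x hxt
    · rw [hr, ← map_mul, ← map_mul] at hcm
      obtain ⟨a, ha, e | e⟩ := D.torus.mem_T_iff.1 (D.torus.cent_A hγ hγ1 (D.inj hcm)) <;> rw [e] at hr
      · exact ⟨a, ha, Or.inl hr⟩
      · exact ⟨a, ha, Or.inr (Or.inl (hr.trans (map_mul _ _ _)))⟩
    · rw [hr, mul_assoc, ← mul_assoc (D.ψ (D.torus.g ^ 2)), ← D.comm, mul_assoc D.t, ← map_mul,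
        ← map_mul] at hcm
      obtain ⟨a, ha, e | e⟩ := D.torus.mem_T_iff.1
        (D.torus.cent_A hγ hγ1 (D.inj (mul_left_cancel hcm))) <;> rw [e] at hr
      · exact ⟨a, ha, Or.inr (Or.inr (Or.inl hr))⟩
      · exact ⟨a, ha, Or.inr (Or.inr (Or.inr (by rw [hr, map_mul, mul_assoc])))⟩
  set tX : X := ⟨D.t, htX⟩ with htXdef
  set zX : X := ⟨D.ψ D.torus.z, hzX⟩ with hzXdef
  set hX' : X := ⟨h, hhX⟩ with hhX'def
  have hz2 : D.ψ D.torus.z * D.ψ D.torus.z = 1 := by
    rw [← map_mul, ← pow_two, ← map_one D.ψ]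
    congr 1
    exact orderOf_dvd_iff_pow_eq_one.1 D.torus.z_order.dvd
  let E : Subgroup X := Dickson.fourGroup tX zX (Subtype.ext D.t_sq) (Subtype.ext hz2)
    (Subtype.ext (D.comm _))
  have hz1 : D.torus.z ≠ 1 := fun e => by
    have := D.torus.z_order
    rw [e, orderOf_one] at this
    omega
  have hE4 : Nat.card E = 4 := Dickson.card_fourGroup _ _ _
    (fun e => D.t_ne_one (congrArg Subtype.val e))
    (fun e => hz1 (D.inj (by rw [map_one]; exact congrArg Subtype.val e)))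
    (fun e => D.t_not _ (congrArg Subtype.val e).symm)
  -- involutions of X are conjugate to t
  have hcyc : ∀ v ∈ E, v ≠ 1 → IsConj tX v := by
    have e1 : hX' * tX * hX'⁻¹ = zX ∨ hX' * tX * hX'⁻¹ = tX * zX :=
      hs.imp (fun e => Subtype.ext e) (fun e => Subtype.ext e)
    have e2 : hX' * (hX' * tX * hX'⁻¹) * hX'⁻¹ = tX * (hX' * tX * hX'⁻¹) := Subtype.ext hc
    have c1 : IsConj tX (hX' * tX * hX'⁻¹) := isConj_iff.2 ⟨hX', rfl⟩
    have c2 : IsConj tX (tX * (hX' * tX * hX'⁻¹)) :=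
      c1.trans (isConj_iff.2 ⟨hX', e2⟩)
    have htt : tX * tX = 1 := Subtype.ext D.t_sq
    rintro v (rfl | rfl | rfl | rfl) hv
    · exact absurd rfl hv
    · exact IsConj.refl _
    · rcases e1 with e | e <;> rw [e] at c1 c2
      · exact c1
      · rwa [← mul_assoc, htt, one_mul] at c2
    · rcases e1 with e | e <;> rw [e] at c1 c2
      · exact c2
      · exact c1
  have hinvX : ∀ v : X, orderOf v = 2 → IsConj tX v := by
    intro v hv
    obtain ⟨S2, hS2⟩ := (IsPGroup.of_card (n := 2) hE4 : IsPGroup 2 E).exists_le_sylow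
    have hSE : ∀ x ∈ (S2 : Subgroup X), x ∈ E := by
      intro x hx
      have hxt : x * tX = tX * x := Subtype.ext (D.two_group_comm (S2.isPGroup'.map X.subtype)
        ⟨x, hx, rfl⟩ ⟨tX, hS2 (Or.inr (Or.inl rfl)), rfl⟩)
      obtain ⟨a, ha, hcase⟩ := hCXt x x.2 (congrArg Subtype.val hxt)
      have haX : D.ψ a ∈ X := hTX a (D.torus.A_le_T ha)
      obtain ⟨v', hv', e⟩ : ∃ v' ∈ E, x = v' * ⟨D.ψ a, haX⟩ := by
        rcases hcase with e | e | e | e
        · exact ⟨1, one_mem E, Subtype.ext (by simpa using e)⟩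
        · exact ⟨zX, Or.inr (Or.inr (Or.inl rfl)), Subtype.ext e⟩
        · exact ⟨tX, Or.inr (Or.inl rfl), Subtype.ext e⟩
        · exact ⟨tX * zX, Or.inr (Or.inr (Or.inr rfl)), Subtype.ext e⟩
      have haS : (⟨D.ψ a, haX⟩ : X) ∈ (S2 : Subgroup X) :=
        (Subgroup.mul_mem_cancel_left _ (hS2 hv')).1 (e ▸ hx)
      obtain ⟨i, hi⟩ := S2.isPGroup' ⟨_, haS⟩
      have hi' : D.ψ a ^ 2 ^ i = 1 := congrArg (fun z => ((z : (S2 : Subgroup X)) : X).1) hi
      rw [← map_pow, ← map_one D.ψ] at hi'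
      have : a = 1 := D.A_pow_coprime ha
        (Nat.Coprime.pow_left i (Nat.coprime_two_left.2 D.torus.m_odd)) (D.inj hi')
      rw [e]
      have : (⟨D.ψ a, haX⟩ : X) = 1 := Subtype.ext (by simp [this])
      rw [this, mul_one]
      exact hv'
    obtain ⟨Q, hQ⟩ := (IsPGroup.of_card (n := 1) (show Nat.card (Subgroup.zpowers v) = 2 ^ 1 by
      rw [Nat.card_zpowers, hv, pow_one]) : IsPGroup 2 (Subgroup.zpowers v)).exists_le_sylow
    obtain ⟨k, hk⟩ := MulAction.exists_smul_eq X S2 Q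
    have hvQ := hQ (Subgroup.mem_zpowers v)
    rw [← hk, Sylow.coe_subgroup_smul, Subgroup.mem_pointwise_smul_iff_inv_smul_mem] at hvQ
    have hvE := hSE _ hvQ
    have hv1 : k⁻¹ * v * k ≠ 1 := fun e => by
      have : v = 1 := by
        have h' := congrArg (fun z => k * z * k⁻¹) e
        simpa [mul_assoc] using h'
      rw [this, orderOf_one] at hv
      omega
    have hc' := hcyc (k⁻¹ * v * k) (by simpa [MulAut.smul_def] using hvE) hv1
    exact hc'.trans (isConj_iff.2 ⟨k, by group⟩)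
  have hA'cop : ∀ a ∈ A', a * a = 1 → a = 1 := by
    intro a ha ha2
    obtain ⟨a', ha', e⟩ := Subgroup.mem_subgroupOf.1 ha
    have h2 : D.ψ (a' * a') = 1 := by
      rw [map_mul, e]; exact congrArg Subtype.val ha2
    rw [← map_one D.ψ] at h2
    refine Subtype.ext ?_
    rw [← e, D.torus.eq_one_of_sq_eq_one ha' (D.inj h2), map_one]
    rfl
  set π := QuotientGroup.mk' A' with hπ
  have hEA : ∀ v ∈ E, π v = 1 → v = 1 := by
    intro v hv hv1
    refine hA'cop v ((QuotientGroup.eq_one_iff v).1 hv1) ?_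
    rcases hv with rfl | rfl | rfl | rfl
    · rw [one_mul]
    · exact Subtype.ext D.t_sq
    · exact Subtype.ext hz2
    · refine Subtype.ext ?_
      show D.t * D.ψ D.torus.z * (D.t * D.ψ D.torus.z) = 1
      rw [D.mul_t, map_mul, hz2]
  have hCt : ∀ q : X ⧸ A', q ∈ Subgroup.centralizer ({π tX} : Set (X ⧸ A')) ↔ ∃ v ∈ E, π v = q := by
    intro q
    rw [Subgroup.mem_centralizer_singleton_iff]
    constructor
    · intro hq
      obtain ⟨x, rfl⟩ := QuotientGroup.mk'_surjective A' q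
      have h1' : x * tX * x⁻¹ * tX⁻¹ ∈ A' := by
        refine (QuotientGroup.eq_one_iff _).1 ?_
        show π (x * tX * x⁻¹ * tX⁻¹) = 1
        rw [map_mul, map_mul, map_mul, map_inv, map_inv, hq, mul_inv_cancel_right, mul_inv_cancel]
      have hxt : x * tX * x⁻¹ = tX := by
        obtain ⟨a, ha, e⟩ := Subgroup.mem_subgroupOf.1 h1'
        set u := x * tX * x⁻¹ * tX⁻¹ with hu
        have hcm : u * tX = tX * u := Subtype.ext (by
          show (u : G) * D.t = D.t * u
          rw [← e]; exact (D.comm a).symm)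
        have hsq : u * u = 1 := by
          have e2 : u * tX * (u * tX) = 1 := by
            rw [hu, inv_mul_cancel_right]
            calc x * tX * x⁻¹ * (x * tX * x⁻¹) = x * (tX * tX) * x⁻¹ := by group
              _ = 1 := by rw [show tX * tX = 1 from Subtype.ext D.t_sq]; group
          calc u * u = u * u * (tX * tX) := by
                rw [show tX * tX = 1 from Subtype.ext D.t_sq, mul_one]
            _ = u * (u * tX) * tX := by group
            _ = u * (tX * u) * tX := by rw [hcm]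
            _ = u * tX * (u * tX) := by group
            _ = 1 := e2
        exact mul_inv_eq_one.1 (hA'cop u h1' hsq)
      obtain ⟨a, ha, hcase⟩ := hCXt x x.2 (congrArg Subtype.val (mul_inv_eq_iff_eq_mul.1 hxt))
      have haX : D.ψ a ∈ X := hTX a (D.torus.A_le_T ha)
      have hone : π ⟨D.ψ a, haX⟩ = 1 :=
        (QuotientGroup.eq_one_iff _).2 (Subgroup.mem_subgroupOf.2 ⟨a, ha, rfl⟩)
      have key : ∀ v ∈ E, x = v * ⟨D.ψ a, haX⟩ → ∃ v ∈ E, π v = π x := fun v hv e =>
        ⟨v, hv, by rw [e, map_mul, hone, mul_one]⟩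
      rcases hcase with e | e | e | e
      · exact key 1 (one_mem E) (Subtype.ext (by simpa using e))
      · exact key zX (Or.inr (Or.inr (Or.inl rfl))) (Subtype.ext e)
      · exact key tX (Or.inr (Or.inl rfl)) (Subtype.ext e)
      · exact key (tX * zX) (Or.inr (Or.inr (Or.inr rfl))) (Subtype.ext e)
    · rintro ⟨v, hv, rfl⟩
      rw [← map_mul, ← map_mul]
      congr 1
      have hz : tX * zX = zX * tX := Subtype.ext (D.comm _)
      rcases hv with rfl | rfl | rfl | rfl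
      · rw [one_mul, mul_one]
      · rfl
      · exact hz.symm
      · rw [mul_assoc, ← hz]
  have hVcard : Nat.card (Subgroup.centralizer ({π tX} : Set (X ⧸ A'))) = 4 := by
    rw [← hE4]
    refine (Nat.card_congr (Equiv.ofBijective
      (fun v : E => (⟨π v, (hCt _).2 ⟨v, v.2, rfl⟩⟩ : Subgroup.centralizer ({π tX} : Set (X ⧸ A'))))
      ⟨fun a c e => ?_, fun q => ?_⟩)).symm
    · have e' : π (a : X) = π (c : X) := congrArg Subtype.val e
      refine Subtype.ext (mul_inv_eq_one.1 (hEA _ (mul_mem a.2 (inv_mem c.2)) ?_))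
      rw [map_mul, map_inv, e', mul_inv_cancel]
    · obtain ⟨v, hv, e⟩ := (hCt q.1).1 q.2
      exact ⟨⟨v, hv⟩, Subtype.ext e⟩
  have hto : orderOf (π tX) = 2 := by
    refine orderOf_eq_prime ?_ fun e => ?_
    · rw [← map_pow, show tX ^ 2 = 1 from Subtype.ext (by rw [pow_two]; exact D.t_sq), map_one]
    · exact D.t_ne_one (congrArg Subtype.val (hEA tX (Or.inr (Or.inl rfl)) e))
  have hexp : ∀ q ∈ Subgroup.centralizer ({π tX} : Set (X ⧸ A')), q ^ 2 = 1 := by
    intro q hq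
    obtain ⟨v, hv, rfl⟩ := (hCt q).1 hq
    rw [← map_pow]
    have h2' : v ^ 2 = 1 := by
      rw [pow_two]
      rcases hv with rfl | rfl | rfl | rfl
      · rw [one_mul]
      · exact Subtype.ext D.t_sq
      · exact Subtype.ext hz2
      · refine Subtype.ext ?_
        show D.t * D.ψ D.torus.z * (D.t * D.ψ D.torus.z) = 1
        rw [D.mul_t, map_mul, hz2]
    rw [h2', map_one]
  have hconjQ : ∀ q : X ⧸ A', orderOf q = 2 → IsConj (π tX) q := by
    intro q hq
    obtain ⟨u, rfl⟩ := QuotientGroup.mk'_surjective A' q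
    have hq2 : π u ^ 2 = 1 := orderOf_dvd_iff_pow_eq_one.1 hq.dvd
    have hvq : π (u ^ m) = π u := by
      obtain ⟨i, hi⟩ := D.torus.m_odd
      rw [map_pow, hi, pow_succ, pow_mul, hq2, one_pow, one_mul]
    have hv2 : orderOf (u ^ m) = 2 := by
      refine orderOf_eq_prime ?_ fun e => ?_
      · obtain ⟨a, ha, e⟩ := Subgroup.mem_subgroupOf.1
          ((QuotientGroup.eq_one_iff (u ^ 2)).1 (show π (u ^ 2) = 1 by rw [map_pow]; exact hq2))
        rw [← pow_mul, mul_comm, pow_mul]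
        refine Subtype.ext ?_
        rw [SubgroupClass.coe_pow, ← e, ← map_pow, D.pow_m_of_mem_A ha, map_one]
        rfl
      · rw [e, map_one] at hvq
        rw [← hvq, orderOf_one] at hq
        omega
    exact hvq ▸ π.map_isConj (hinvX _ hv2)
  have h1260 := InvChar68.V4.card_eq hto hVcard hexp hconjQ
  rcases h1260 with h12 | h60
  swap
  · -- order sixty contains `S₃`
    haveI := InvChar68.V4.isSimpleGroup hto hVcard hexp hconjQ h60
    obtain ⟨P⟩ := (inferInstance : Nonempty (Sylow 3 (X ⧸ A')))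
    refine D.free (LocalEven61.involves_of_subgroup X (LocalEven61.involves_of_quotient A'
      (involves_perm3_of_sylow_three P ?_ (by rw [h60]; norm_num))))
    rw [P.card_eq_multiplicity, h60, show 60 = 3 ^ 1 * 20 from rfl,
      Nat.factorization_mul (by norm_num) (by norm_num), Finsupp.add_apply,
      Nat.Prime.factorization_pow Nat.prime_three, Finsupp.single_eq_same,
      Nat.factorization_eq_zero_of_not_dvd (by norm_num), add_zero, pow_one]
  -- order twelve: the four-group is normal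
  have hA'card : Nat.card A' = m := by
    rw [hA', Nat.card_congr (Subgroup.subgroupOfEquivOfLe hAX).toEquiv, hAG,
      Subgroup.card_map_of_injective D.inj, D.torus.card_A]
  have hXcard : Nat.card X = 12 * m := by
    rw [← A'.index_mul_card, hA'card]
    congr 1
  haveI hEn : E.Normal := by
    set N := Subgroup.normalizer (E : Set X) with hNdef
    have hA'N : A' ≤ N := fun a ha => Subgroup.mem_normalizer_iff.2 fun v => by
      obtain ⟨a', ha', e⟩ := Subgroup.mem_subgroupOf.1 ha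
      rw [show a * v * a⁻¹ = v from Subtype.ext (by
        show (a : G) * v * (a : G)⁻¹ = v
        rw [← e, ← (memX _).1 v.2 a' ha', mul_inv_cancel_right])]
    have hhN : hX' ∈ N := by
      have e2 : hX' * (hX' * tX * hX'⁻¹) * hX'⁻¹ = tX * (hX' * tX * hX'⁻¹) := Subtype.ext hc
      have hsE : hX' * tX * hX'⁻¹ ∈ E := by
        rcases hs with e | e
        · rw [show hX' * tX * hX'⁻¹ = zX from Subtype.ext e]; exact Or.inr (Or.inr (Or.inl rfl))
        · rw [show hX' * tX * hX'⁻¹ = tX * zX from Subtype.ext e]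
          exact Or.inr (Or.inr (Or.inr rfl))
      refine LocalEven61.mem_normalizer_of_map_eq ?_
      refine Subgroup.eq_of_le_of_card_ge ?_
        (le_of_eq (Subgroup.card_map_of_injective (MulAut.conj hX').injective).symm)
      rintro _ ⟨v, hv, rfl⟩
      show hX' * v * hX'⁻¹ ∈ E
      have hts : hX' * (tX * zX) * hX'⁻¹ = (hX' * tX * hX'⁻¹) * (hX' * zX * hX'⁻¹) := by group
      have hzE : hX' * zX * hX'⁻¹ ∈ E := by
        have hzv : zX = hX' * tX * hX'⁻¹ ∨ zX = tX * (hX' * tX * hX'⁻¹) := by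
          rcases hs with e | e
          · exact Or.inl (Subtype.ext e.symm)
          · refine Or.inr (Subtype.ext ?_)
            show D.ψ D.torus.z = D.t * (h * D.t * h⁻¹)
            rw [e, ← mul_assoc, D.t_sq, one_mul]
        rcases hzv with e | e <;> rw [e]
        · rw [e2]; exact mul_mem (Or.inr (Or.inl rfl)) hsE
        · rw [show hX' * (tX * (hX' * tX * hX'⁻¹)) * hX'⁻¹ =
            (hX' * tX * hX'⁻¹) * (hX' * (hX' * tX * hX'⁻¹) * hX'⁻¹) by group, e2]
          exact mul_mem hsE (mul_mem (Or.inr (Or.inl rfl)) hsE)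
      rcases hv with rfl | rfl | rfl | rfl
      · rw [mul_one, mul_inv_cancel]; exact one_mem E
      · exact hsE
      · exact hzE
      · rw [hts]; exact mul_mem hsE hzE
    have hd1 : m ∣ Nat.card N := hA'card ▸ Subgroup.card_dvd_of_le hA'N
    have hd4 : 4 ∣ Nat.card N := hE4 ▸ Subgroup.card_dvd_of_le Subgroup.le_normalizer
    have hd3 : 3 ∣ Nat.card N := by
      have := Subgroup.card_dvd_of_le (Subgroup.zpowers_le.2 hhN)
      rwa [Nat.card_zpowers, ← Subgroup.orderOf_coe, ho] at this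
    have hd : 12 * m ∣ Nat.card N := by
      have c : Nat.Coprime 12 m := by
        rw [show (12 : ℕ) = 2 ^ 2 * 3 by norm_num]
        exact Nat.Coprime.mul_left (Nat.Coprime.pow_left 2 (Nat.coprime_two_left.2 D.torus.m_odd))
          D.coprime_three_m
      exact c.mul_dvd_of_dvd_of_dvd
        (Nat.Coprime.mul_dvd_of_dvd_of_dvd (by norm_num : Nat.Coprime 4 3) hd4 hd3) hd1
    refine Subgroup.normalizer_eq_top_iff.1 (Subgroup.eq_top_of_card_eq N ?_)
    exact Nat.dvd_antisymm (Subgroup.card_subgroup_dvd_card N) (hXcard ▸ hd)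
  have hinvE : ∀ v : X, orderOf v = 2 → v ∈ E := by
    intro v hv
    obtain ⟨k, hk⟩ := isConj_iff.1 (hinvX v hv)
    rw [← hk]
    exact hEn.conj_mem _ (Or.inr (Or.inl rfl)) k
  -- U normalises the transported torus
  have hWA : ∀ w ∈ W, ∃ a ∈ D.torus.A, g * (w : G) * g⁻¹ = D.ψ a := by
    intro w hw
    have hwX : g * (w : G) * g⁻¹ ∈ X := (memX _).2 fun a ha => by
      have h3' : (w : G) * (g⁻¹ * D.ψ a * g) = g⁻¹ * D.ψ a * g * w :=
        congrArg Subtype.val (hWcomm w hw _ (hA1W a ha))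
      calc g * (w : G) * g⁻¹ * D.ψ a = g * ((w : G) * (g⁻¹ * D.ψ a * g)) * g⁻¹ := by group
        _ = D.ψ a * (g * (w : G) * g⁻¹) := by rw [h3']; group
    have ho' : orderOf (⟨_, hwX⟩ : X) = orderOf w := by
      rw [← Subgroup.orderOf_coe]
      show orderOf (g * (w : G) * g⁻¹) = orderOf w
      rw [D.orderOf_conj, Subgroup.orderOf_coe]
    have h1' := Nat.dvd_gcd ((orderOf_map_dvd π ⟨_, hwX⟩).trans (dvd_of_eq ho'))
      (orderOf_dvd_natCard (π ⟨_, hwX⟩))
    rw [h12, (hW6 w hw).gcd_eq_one, Nat.dvd_one] at h1'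
    obtain ⟨a, ha, e⟩ := Subgroup.mem_subgroupOf.1
      ((QuotientGroup.eq_one_iff _).1 (orderOf_eq_one_iff.1 h1'))
    exact ⟨a, ha, e.symm⟩
  have hu3 : ∀ x ∈ D.U, g * x * g⁻¹ = 1 ∨ g * x * g⁻¹ = h ∨ g * x * g⁻¹ = h * h := by
    intro x hx
    set u := g * x * g⁻¹ with hu
    have hnorm : ∀ z ∈ D.U, ∀ a ∈ D.torus.A, ∃ a' ∈ D.torus.A,
        (g * z * g⁻¹) * D.ψ a * (g * z * g⁻¹)⁻¹ = D.ψ a' := by
      intro z hz a ha
      obtain ⟨a', ha', e⟩ := hWA _ (hWn.conj_mem _ (hA1W a ha) ⟨z, hUH hz⟩)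
      refine ⟨a', ha', ?_⟩
      rw [← e]
      show _ = g * (z * (g⁻¹ * D.ψ a * g) * z⁻¹) * g⁻¹
      group
    have huX : ∀ v ∈ X, u * v * u⁻¹ ∈ X := by
      intro v hv
      refine (memX _).2 fun a ha => ?_
      obtain ⟨a', ha', e⟩ := hnorm x⁻¹ (inv_mem hx) a ha
      have e' : u⁻¹ * D.ψ a * u = D.ψ a' := by rw [← e, hu]; group
      calc u * v * u⁻¹ * D.ψ a = u * (v * (u⁻¹ * D.ψ a * u)) * u⁻¹ := by group
        _ = D.ψ a * (u * v * u⁻¹) := by rw [e', (memX v).1 hv a' ha', ← e']; group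
    have hv' := hinvE ⟨_, huX _ htX⟩ (by
      rw [← Subgroup.orderOf_coe, D.orderOf_conj, D.t_order])
    have hv1 : u * D.t * u⁻¹ ≠ 1 := fun e => D.t_ne_one (conj_eq_one_iff.1 e)
    have hucomm : u * h = h * u := by
      rw [hu, ← hgh]
      calc g * x * g⁻¹ * (g * h1 * g⁻¹) = g * (x * h1) * g⁻¹ := by group
        _ = g * (h1 * x) * g⁻¹ := by rw [hUcomm x hx]
        _ = _ := by group
    set s := h * D.t * h⁻¹ with hsdef
    have hux3 : ∃ i : ℕ, u ^ 3 ^ i = 1 := by
      obtain ⟨i, hi⟩ := D.isPGroup_U ⟨x, hx⟩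
      refine ⟨i, ?_⟩
      rw [hu, conj_pow, show x ^ 3 ^ i = 1 from congrArg Subtype.val hi, mul_one, mul_inv_cancel]
    obtain ⟨i, hi⟩ := hux3
    have hfin : ∀ v : G, v * h = h * v → v * D.t * v⁻¹ = D.t → v ^ 3 ^ i = 1 → v = 1 := by
      intro v hvh hvt hv3
      have h1' : v * D.t = D.t * v := mul_inv_eq_iff_eq_mul.1 hvt
      have h2' : Commute v s := by
        have : Commute v h := hvh
        exact (this.mul_right h1').mul_right this.inv_right
      have hD : D.InD v := by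
        refine ⟨h1', ?_⟩
        rcases hs with e | e
        · rw [← e]; exact h2'
        · have h6 : Commute v (D.t⁻¹ * s) := (show Commute v D.t from h1').inv_right.mul_right h2'
          rw [e, inv_mul_cancel_left] at h6
          exact h6
      have hvo : Odd (orderOf v) :=
        (Odd.pow (show Odd 3 by decide)).of_dvd_nat (orderOf_dvd_of_pow_eq_one hv3)
      obtain ⟨a, ha, rfl⟩ := D.inD_odd hD hvo
      rw [← map_pow, ← map_one D.ψ] at hv3
      rw [D.A_pow_coprime ha (D.coprime_three_m.pow_left i) (D.inj hv3), map_one]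
    have hh3 : h * h * h = 1 := by
      have h3 := pow_orderOf_eq_one h
      rw [ho, pow_succ, pow_two] at h3
      exact h3
    have ch : Commute u h := hucomm
    have hhp : ∀ (w : G), Commute u w → w ^ 3 ^ i = 1 → (u * w) ^ 3 ^ i = 1 := fun w hw hw3 => by
      rw [hw.mul_pow, hi, hw3, one_mul]
    have hi1 : ∀ w : G, w ^ 3 = 1 → w ^ 3 ^ i = 1 ∨ i = 0 := fun w hw => by
      rcases Nat.eq_zero_or_pos i with h0 | h0
      · exact Or.inr h0
      · obtain ⟨j, rfl⟩ := Nat.exists_eq_succ_of_ne_zero h0.ne'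
        exact Or.inl (by rw [pow_succ', pow_mul, hw, one_pow])
    rcases Nat.eq_zero_or_pos i with rfl | hi0
    · rw [pow_zero, pow_one] at hi
      exact Or.inl hi
    have hh3i : h ^ 3 ^ i = 1 ∧ (h * h) ^ 3 ^ i = 1 := by
      obtain ⟨j, rfl⟩ := Nat.exists_eq_succ_of_ne_zero hi0.ne'
      have h3' : h ^ 3 = 1 := by rw [← ho]; exact pow_orderOf_eq_one h
      refine ⟨by rw [pow_succ', pow_mul, h3', one_pow], ?_⟩
      rw [← pow_two, ← pow_mul, show 2 * 3 ^ (j + 1) = 3 * (2 * 3 ^ j) by ring, pow_mul, h3', one_pow]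
    -- which involution
    have hcases : u * D.t * u⁻¹ = D.t ∨ u * D.t * u⁻¹ = s ∨ u * D.t * u⁻¹ = D.t * s := by
      rcases hv' with e | e | e | e
      · exact absurd (congrArg Subtype.val e) hv1
      · exact Or.inl (congrArg Subtype.val e)
      · have e' : u * D.t * u⁻¹ = D.ψ D.torus.z := congrArg Subtype.val e
        rcases hs with e1 | e1
        · exact Or.inr (Or.inl (e'.trans e1.symm))
        · refine Or.inr (Or.inr (e'.trans ?_))
          rw [e1, ← mul_assoc, D.t_sq, one_mul]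
      · have e' : u * D.t * u⁻¹ = D.t * D.ψ D.torus.z := congrArg Subtype.val e
        rcases hs with e1 | e1
        · exact Or.inr (Or.inr (e'.trans (by rw [e1])))
        · exact Or.inr (Or.inl (e'.trans e1.symm))
    rcases hcases with e | e | e
    · exact Or.inl (hfin u hucomm e hi)
    · -- u t u⁻¹ = s: then h² u fixes t
      right; left
      have hv := hfin (h * h * u) ?_ ?_ ?_
      · calc u = (h * h * h) * u := by rw [hh3, one_mul]
          _ = h * (h * h * u) := by group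
          _ = h := by rw [hv, mul_one]
      · exact (((Commute.refl h).mul_left (Commute.refl h)).mul_left ch).eq
      · have := D.h_cube ho
        calc h * h * u * D.t * (h * h * u)⁻¹ = h * (h * (u * D.t * u⁻¹) * h⁻¹) * h⁻¹ := by group
          _ = D.t := by rw [e, hsdef]; exact this
      · rw [(ch.symm.mul_left ch.symm).mul_pow, hh3i.2, hi, one_mul]
    · right; right
      have hv := hfin (h * u) ?_ ?_ ?_
      · calc u = (h * h * h) * u := by rw [hh3, one_mul]
          _ = h * h * (h * u) := by group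
          _ = h * h := by rw [hv, mul_one]
      · exact ((Commute.refl h).mul_left ch).eq
      · have := D.h_cube ho
        calc h * u * D.t * (h * u)⁻¹ = h * (u * D.t * u⁻¹) * h⁻¹ := by group
          _ = D.t := by rw [e, hsdef, ← hc]; exact this
      · rw [ch.symm.mul_pow, hh3i.1, hi, one_mul]
  have hcard : Nat.card D.U ≤ 3 := by
    let T3 : Fin 3 → G := ![1, h, h * h]
    have hex : ∀ x : D.U, ∃ i, g * (x : G) * g⁻¹ = T3 i := fun x => by
      rcases hu3 x x.2 with e | e | e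
      · exact ⟨0, e⟩
      · exact ⟨1, e⟩
      · exact ⟨2, e⟩
    choose i hi using hex
    have hinj : Function.Injective i := fun a c e => Subtype.ext (by
      have := (hi a).trans (e ▸ (hi c).symm)
      exact mul_left_cancel (mul_right_cancel this))
    simpa using Nat.card_le_card_of_injective i hinj
  rw [D.card_U] at hcard
  have : 3 ^ 3 ≤ 3 ^ (2 * n + 1) := Nat.pow_le_pow_right (by norm_num) (by have := D.n_pos; omega)
  omega

/-- The twist of the torus induced by `h`. -/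
theorem exists_twist : ∃ j : ℕ, j ^ 3 % m = 1 ∧ j % m ≠ 1 ∧
    ∀ i : ℕ, IsConj (D.ψ ((D.torus.g ^ 2) ^ i)) (D.ψ ((D.torus.g ^ 2) ^ (j * i))) := by
  classical
  obtain ⟨h, ho, hs, hc⟩ := D.exists_cycle
  set a0 := D.torus.g ^ 2 with ha0
  have ha0o : orderOf a0 = m := D.torus.A_order
  have hD0 : D.InD (h * D.ψ a0 * h⁻¹) :=
    D.inD_conj ho hs hc (D.inD_of_mem_R (D.torus.A_le_R (Subgroup.mem_zpowers _))).1
  obtain ⟨a, ha, he⟩ := D.inD_odd hD0 (by
    rw [D.orderOf_conj, orderOf_injective D.ψ D.inj, ha0o]; exact D.torus.m_odd)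
  obtain ⟨j, -, hj⟩ : ∃ j ∈ Finset.range (orderOf a0), a0 ^ j = a := by
    rw [← Finset.mem_image, ← mem_powers_iff_mem_range_orderOf, mem_powers_iff_mem_zpowers]
    exact ha
  have hstep : ∀ i : ℕ, h * D.ψ (a0 ^ i) * h⁻¹ = D.ψ (a0 ^ (j * i)) := fun i => by
    rw [map_pow, ← conj_pow, he, ← hj, ← map_pow, ← pow_mul]
  have hm2 : 2 ≤ m := le_trans (by norm_num) D.torus.m_ge
  refine ⟨j, ?_, ?_, fun i => isConj_iff.2 ⟨h, hstep i⟩⟩
  · have h3' : h ^ 3 = 1 := by rw [← ho]; exact pow_orderOf_eq_one h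
    have e : D.ψ (a0 ^ (j * (j * (j * 1)))) = D.ψ (a0 ^ 1) := by
      rw [← hstep, ← hstep, ← hstep]
      calc h * (h * (h * D.ψ (a0 ^ 1) * h⁻¹) * h⁻¹) * h⁻¹
          = (h * h * h) * D.ψ (a0 ^ 1) * (h * h * h)⁻¹ := by group
        _ = D.ψ (a0 ^ 1) := by rw [show h * h * h = h ^ 3 by rw [pow_succ, pow_two], h3']; group
    have e2 := pow_eq_pow_iff_modEq.1 (D.inj e)
    rw [ha0o, Nat.ModEq, Nat.one_mod_eq_one.2 (by omega)] at e2
    rw [← e2]; congr 1; ring
  · intro hj1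
    refine D.not_centralizes ho hs hc fun a ha => ?_
    obtain ⟨k, -, rfl⟩ : ∃ k ∈ Finset.range (orderOf a0), a0 ^ k = a := by
      rw [← Finset.mem_image, ← mem_powers_iff_mem_range_orderOf, mem_powers_iff_mem_zpowers]
      exact ha
    have := hstep k
    rw [show a0 ^ (j * k) = a0 ^ k by
      rw [pow_eq_pow_iff_modEq, ha0o, Nat.ModEq, Nat.mul_mod, hj1, one_mul, Nat.mod_mod]] at this
    exact mul_inv_eq_iff_eq_mul.1 this

end Ree

end Cfsg.Agent.GoldGroups11
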