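import Mathlib.Algebra.Order.BigOperators.Group.Finset
import Mathlib.Algebra.BigOperators.Ring.Finset
import Mathlib.Algebra.Field.Basic
import Mathlib.Data.Complex.Basic
import Mathlib.Tactic.Ring
import Mathlib.Tactic.Linarith
import Mathlib.Tactic.LinearCombination
import Mathlib.Tactic.FieldSimp
import Mathlib.Tactic.FinCases
import Mathlib.Data.Fintype.BigOperators
import Mathlib.Algebra.BigOperators.Fin
import Mathlib.Algebra.BigOperators.Field
import Mathlib.Data.Fin.VecNotation

/-!
Three orthogonal integral vectors of norm four, orthogonal to a positive vector.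
-/

set_option autoImplicit false

namespace Cfsg.Agent.GoldGroups11

variable {ι : Type*} [Fintype ι]

/-- Three pairwise orthogonal integral vectors of norm four with the same parities, all orthogonal to a
positive vector. -/
structure Triple (d : ι → ℤ) (v : Fin 3 → ι → ℤ) : Prop where
  pos : ∀ i, 0 < d i
  norm : ∀ k, ∑ i, v k i * v k i = 4
  orth : ∀ k l, k ≠ l → ∑ i, v k i * v l i = 0
  deg : ∀ k, ∑ i, d i * v k i = 0
  par : ∀ k i, 2 ∣ v k i - v 0 i

/-- The product of the three vectors. -/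
def tprod (v : Fin 3 → ι → ℤ) (i : ι) : ℤ := v 0 i * v 1 i * v 2 i

namespace Triple

variable {d : ι → ℤ} {v : Fin 3 → ι → ℤ} (T : Triple d v)
include T

theorem entry (k : Fin 3) (i : ι) : v k i = -1 ∨ v k i = 0 ∨ v k i = 1 := by
  classical
  have h4 : v k i * v k i ≤ 4 := (T.norm k) ▸
    Finset.single_le_sum (f := fun j => v k j * v k j) (fun j _ => mul_self_nonneg _) (Finset.mem_univ i)
  have hlo : -2 ≤ v k i := by nlinarith
  have hhi : v k i ≤ 2 := by nlinarith
  by_contra hne
  have hsq : v k i * v k i = 4 := by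
    rcases (show v k i = -2 ∨ v k i = 2 by omega) with h | h <;> rw [h] <;> norm_num
  have hz : ∀ j, j ≠ i → v k j = 0 := by
    intro j hj
    have h := Finset.sum_erase_add _ (fun j => v k j * v k j) (Finset.mem_univ i)
    rw [T.norm k] at h
    have h0 : ∑ x ∈ Finset.univ.erase i, v k x * v k x = 0 := by linarith
    have := (Finset.sum_eq_zero_iff_of_nonneg fun x _ => mul_self_nonneg (v k x)).1 h0 j
      (Finset.mem_erase.2 ⟨hj, Finset.mem_univ j⟩)
    exact mul_self_eq_zero.1 this
  have h := T.deg k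
  rw [Fintype.sum_eq_single i fun j hj => by rw [hz j hj, mul_zero]] at h
  rcases mul_eq_zero.1 h with h | h
  · exact (T.pos i).ne' h
  · omega

theorem sq_one {i : ι} (h : v 0 i ≠ 0) : v 0 i * v 0 i = 1 := by
  rcases T.entry 0 i with e | e | e
  · rw [e]; rfl
  · exact absurd e h
  · rw [e]; rfl

theorem zero_iff (k : Fin 3) (i : ι) : v k i = 0 ↔ v 0 i = 0 := by
  have := T.par k i
  rcases T.entry k i with h | h | h <;> rcases T.entry 0 i with h' | h' | h' <;> omega

theorem sq_eq (k : Fin 3) (i : ι) : v k i * v k i = v 0 i * v 0 i := by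
  by_cases h0 : v 0 i = 0
  · rw [(T.zero_iff k i).2 h0, h0]
  · rw [T.sq_one h0]
    rcases T.entry k i with e | e | e
    · rw [e]; rfl
    · exact absurd ((T.zero_iff k i).1 e) h0
    · rw [e]; rfl

theorem sq_mul (k : Fin 3) (i : ι) : v k i * v k i * v k i = v k i := by
  rcases T.entry k i with h | h | h <;> simp [h]

theorem zero_sq_mul (k : Fin 3) (i : ι) : v 0 i * v 0 i * v k i = v k i := by
  rw [← T.sq_eq k i, T.sq_mul]

theorem prod_dot (k : Fin 3) : ∑ i, v k i * tprod v i = 0 := by
  fin_cases k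
  · refine (Finset.sum_congr rfl fun i _ => ?_).trans (T.orth 1 2 (by decide))
    show v 0 i * (v 0 i * v 1 i * v 2 i) = v 1 i * v 2 i
    linear_combination (v 2 i) * T.zero_sq_mul 1 i
  · refine (Finset.sum_congr rfl fun i _ => ?_).trans (T.orth 0 2 (by decide))
    show v 1 i * (v 0 i * v 1 i * v 2 i) = v 0 i * v 2 i
    linear_combination (v 0 i * v 2 i) * T.sq_eq 1 i + (v 2 i) * T.sq_mul 0 i
  · refine (Finset.sum_congr rfl fun i _ => ?_).trans (T.orth 0 1 (by decide))
    show v 2 i * (v 0 i * v 1 i * v 2 i) = v 0 i * v 1 i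
    linear_combination (v 0 i * v 1 i) * T.sq_eq 2 i + (v 1 i) * T.sq_mul 0 i

theorem prod_sq (i : ι) : tprod v i * tprod v i = v 0 i * v 0 i := by
  show v 0 i * v 1 i * v 2 i * (v 0 i * v 1 i * v 2 i) = _
  linear_combination (v 0 i * v 0 i * (v 2 i * v 2 i)) * T.sq_eq 1 i +
    (v 0 i * v 0 i * (v 0 i * v 0 i)) * T.sq_eq 2 i +
    (v 0 i * v 0 i * v 0 i + v 0 i) * T.sq_mul 0 i

theorem prod_norm : ∑ i, tprod v i * tprod v i = 4 := by
  rw [Finset.sum_congr rfl fun i _ => T.prod_sq i]
  exact T.norm 0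

/-- The columns are orthogonal. -/
theorem column [DecidableEq ι] (i j : ι) :
    v 0 i * v 0 j + v 1 i * v 1 j + v 2 i * v 2 j + tprod v i * tprod v j =
      if i = j then 4 * (v 0 i * v 0 i) else 0 := by
  classical
  set M : ι → ι → ℤ := fun a b =>
    v 0 a * v 0 b + v 1 a * v 1 b + v 2 a * v 2 b + tprod v a * tprod v b with hM
  set E : ι → ι → ℤ := fun a b => if a = b then 4 * (v 0 a * v 0 a) else 0 with hE
  have hdiag : ∀ a, M a a = 4 * (v 0 a * v 0 a) := by
    intro a
    simp only [hM, T.sq_eq 1 a, T.sq_eq 2 a, T.prod_sq a]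
    ring
  have hMM : ∑ a, ∑ b, M a b * M a b = 64 := by
    let u : Fin 4 → ι → ℤ := ![v 0, v 1, v 2, tprod v]
    have hu : ∀ a b, M a b = ∑ k, u k a * u k b := fun a b => by
      rw [Fin.sum_univ_four]
      rfl
    have hg : ∀ k l, ∑ a, u k a * u l a = if k = l then 4 else 0 := by
      intro k l
      fin_cases k <;> fin_cases l
      all_goals first
          | exact T.norm _
          | exact T.prod_norm
          | exact T.orth _ _ (by decide)
          | exact T.prod_dot _
          | exact (Finset.sum_congr rfl fun a _ => mul_comm _ _).trans (T.prod_dot _)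
    calc ∑ a, ∑ b, M a b * M a b
        = ∑ a, ∑ b, ∑ k, ∑ l, (u k a * u l a) * (u k b * u l b) := by
          refine Finset.sum_congr rfl fun a _ => Finset.sum_congr rfl fun b _ => ?_
          rw [hu, Finset.sum_mul_sum]
          exact Finset.sum_congr rfl fun k _ => Finset.sum_congr rfl fun l _ => by ring
      _ = ∑ k, ∑ l, (∑ a, u k a * u l a) * (∑ b, u k b * u l b) := by
          rw [Finset.sum_congr rfl fun a _ => Finset.sum_comm]
          rw [Finset.sum_comm]
          refine Finset.sum_congr rfl fun k _ => ?_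
          rw [Finset.sum_congr rfl fun a _ => Finset.sum_comm]
          rw [Finset.sum_comm]
          exact Finset.sum_congr rfl fun l _ => (Finset.sum_mul_sum ..).symm
      _ = 64 := by
          simp only [hg, ite_mul, zero_mul, Finset.sum_ite_eq, Finset.mem_univ, if_true,
            Finset.sum_const, Finset.card_univ, Fintype.card_fin]
          norm_num
  have hdd : ∑ a, ∑ b, E a b * E a b = 64 := by
    have h : ∀ a, ∑ b, E a b * E a b = 16 * (v 0 a * v 0 a) := by
      intro a
      rw [Fintype.sum_eq_single a fun b hb => by simp [hE, Ne.symm hb]]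
      simp only [hE, if_pos rfl]
      linear_combination (16 * v 0 a) * T.sq_mul 0 a
    rw [Finset.sum_congr rfl fun a _ => h a, ← Finset.mul_sum, T.norm 0]
    norm_num
  have hME : ∑ a, ∑ b, (M a b - E a b) * (M a b - E a b) = 0 := by
    have h : ∀ a b, (M a b - E a b) * (M a b - E a b) = M a b * M a b - E a b * E a b := by
      intro a b
      by_cases hab : a = b
      · subst hab; simp [hE, hdiag]
      · simp [hE, hab]
    simp only [h, Finset.sum_sub_distrib, hMM, hdd, sub_self]
  have h1 := (Finset.sum_eq_zero_iff_of_nonneg fun a _ =>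
    Finset.sum_nonneg fun b _ => mul_self_nonneg (M a b - E a b)).1 hME i (Finset.mem_univ i)
  have h2 := (Finset.sum_eq_zero_iff_of_nonneg fun b _ =>
    mul_self_nonneg (M i b - E i b)).1 h1 j (Finset.mem_univ j)
  exact sub_eq_zero.1 (mul_self_eq_zero.1 h2)

theorem expand (x : ι → ℤ) (i : ι) :
    4 * (v 0 i * v 0 i) * x i =
      v 0 i * (∑ j, v 0 j * x j) + v 1 i * (∑ j, v 1 j * x j) + v 2 i * (∑ j, v 2 j * x j) +
        tprod v i * (∑ j, tprod v j * x j) := by
  classical
  simp only [Finset.mul_sum, ← Finset.sum_add_distrib]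
  rw [Finset.sum_eq_single i ?_ (fun h => absurd (Finset.mem_univ i) h)]
  · have := T.column i i
    rw [if_pos rfl] at this
    linear_combination (-x i) * this
  · intro j _ hj
    have := T.column i j
    rw [if_neg (Ne.symm hj)] at this
    linear_combination (x j) * this

theorem prod_ne {i : ι} (h : v 0 i ≠ 0) : tprod v i ≠ 0 :=
  mul_ne_zero (mul_ne_zero h (mt (T.zero_iff 1 i).1 h)) (mt (T.zero_iff 2 i).1 h)

theorem deg_prod {i : ι} (h : v 0 i ≠ 0) :
    4 * d i = tprod v i * ∑ j, tprod v j * d j := by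
  have h1 : v 0 i * v 0 i = 1 := T.sq_one h
  have := T.expand d i
  simp only [fun k => (Finset.sum_congr rfl fun j _ => mul_comm (v k j) (d j) :
    ∑ j, v k j * d j = ∑ j, d j * v k j), T.deg, mul_zero, zero_add, h1, mul_one] at this
  exact this

theorem exists_support : ∃ i, v 0 i ≠ 0 := by
  by_contra! h
  have := T.norm 0
  simp [h] at this

/-- A short vector orthogonal to the three vectors and to `d` is orthogonal to their product. -/
theorem prod_dot_eq_zero {x : ι → ℤ} (hx : ∀ k, ∑ i, v k i * x i = 0) (hd : ∑ i, d i * x i = 0)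
    (hn : ∑ i, x i * x i ≤ 4) : ∑ i, tprod v i * x i = 0 := by
  classical
  by_contra hne
  set a := ∑ i, tprod v i * x i with ha
  have hex : ∀ i, 4 * (v 0 i * v 0 i) * x i = tprod v i * a := by
    intro i
    rw [T.expand x i, hx, hx, hx]
    simp [ha]
  have hge : ∀ i, v 0 i * v 0 i ≤ x i * x i := by
    intro i
    by_cases h0 : v 0 i = 0
    · simpa [h0] using mul_self_nonneg (x i)
    · have h1 : v 0 i * v 0 i = 1 := T.sq_one h0
      rw [h1]
      have hxi : x i ≠ 0 := fun h => by
        have := hex i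
        rw [h, mul_zero] at this
        exact (mul_ne_zero (T.prod_ne h0) hne) this.symm
      exact Int.add_one_le_iff.2 (mul_self_pos.2 hxi)
  have hsum : ∑ i, (x i * x i - v 0 i * v 0 i) = 0 := le_antisymm
    (by rw [Finset.sum_sub_distrib, T.norm 0]; linarith)
    (Finset.sum_nonneg fun i _ => sub_nonneg.2 (hge i))
  have hout : ∀ i, v 0 i = 0 → x i = 0 := by
    intro i h
    have := (Finset.sum_eq_zero_iff_of_nonneg fun i _ => sub_nonneg.2 (hge i)).1 hsum i
      (Finset.mem_univ i)
    simpa [h] using this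
  -- the inner product with the degrees
  set b := ∑ j, tprod v j * d j with hb
  have hdx : ∀ i, 16 * (d i * x i) = a * b * (v 0 i * v 0 i) := by
    intro i
    by_cases h0 : v 0 i = 0
    · simp [hout i h0, h0]
    · have h1 : v 0 i * v 0 i = 1 := T.sq_one h0
      have e1 := hex i
      rw [h1] at e1 ⊢
      have e2 := T.deg_prod h0
      have e3 := T.prod_sq i
      rw [h1] at e3
      linear_combination (4 * d i) * e1 + (tprod v i * a) * e2 + (a * b) * e3
  have h16 : ∑ i, 16 * (d i * x i) = a * b * 4 := by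
    rw [Finset.sum_congr rfl fun i _ => hdx i, ← Finset.mul_sum, T.norm 0]
  rw [← Finset.mul_sum, hd, mul_zero] at h16
  obtain ⟨i0, hi0⟩ := T.exists_support
  have hb0 : b ≠ 0 := fun h => by
    have := T.deg_prod hi0
    rw [← hb, h, mul_zero] at this
    have := T.pos i0
    omega
  exact absurd h16.symm (mul_ne_zero (mul_ne_zero hne hb0) (by norm_num))

/-- The weighted sum of squares. -/
theorem exists_weighted {x : ι → ℤ} {r : ℤ} (hx : ∀ k, ∑ i, v k i * x i = 4 * r)
    (hw : ∑ i, tprod v i * x i = 0) :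
    ∃ d₀ σ : ℤ, 0 < d₀ ∧ σ * σ = 1 ∧
      ∑ i, (v 0 i : ℂ) * (x i : ℂ) ^ 2 / (d i : ℂ) = 8 * (σ : ℂ) * (r : ℂ) ^ 2 / (d₀ : ℂ) := by
  classical
  obtain ⟨i0, hi0⟩ := T.exists_support
  set b := ∑ j, tprod v j * d j with hb
  have hone : ∀ i, v 0 i ≠ 0 → v 0 i * v 0 i = 1 := fun i h => T.sq_one h
  have hw1 : ∀ i, v 0 i ≠ 0 → tprod v i * tprod v i = 1 := fun i h => by rw [T.prod_sq, hone i h]
  have hconst : ∀ i, v 0 i ≠ 0 → tprod v i = tprod v i0 ∧ d i = d i0 := by
    intro i h
    have e1 := T.deg_prod h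
    have e2 := T.deg_prod hi0
    have p1 := T.pos i
    have p2 := T.pos i0
    have hb0 : b ≠ 0 := fun hb0 => by
      rw [← hb, hb0, mul_zero] at e2
      omega
    rcases Int.isUnit_iff.1 (IsUnit.of_mul_eq_one _ (hw1 i h)) with s | s <;>
      rcases Int.isUnit_iff.1 (IsUnit.of_mul_eq_one _ (hw1 i0 hi0)) with s0 | s0 <;>
        rw [s, ← hb] at e1 <;> rw [s0, ← hb] at e2 <;>
          refine ⟨?_, by omega⟩ <;> rw [s, s0] <;> omega
  set σ := tprod v i0 with hσ
  have hkey : ∀ i, v 0 i * x i * x i = r * r * (3 * v 0 i + 2 * v 1 i + 2 * v 2 i) +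
      2 * (r * r) * σ * (v 0 i * v 0 i) := by
    intro i
    by_cases h0 : v 0 i = 0
    · simp [h0, (T.zero_iff 1 i).2 h0, (T.zero_iff 2 i).2 h0]
    · have hxi : x i = r * (v 0 i + v 1 i + v 2 i) := by
        have h := T.expand x i
        rw [hx, hx, hx, hw, hone i h0] at h
        linarith
      have hσi := (hconst i h0).1
      rw [hxi, hone i h0, ← hσi, mul_one]
      show v 0 i * (r * (v 0 i + v 1 i + v 2 i)) * (r * (v 0 i + v 1 i + v 2 i)) =
        r * r * (3 * v 0 i + 2 * v 1 i + 2 * v 2 i) + 2 * (r * r) * (v 0 i * v 1 i * v 2 i)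
      linear_combination (r * r) * T.sq_mul 0 i + (r * r * v 0 i) * (T.sq_eq 1 i) +
        (r * r * v 0 i) * (T.sq_eq 2 i) + (2 * (r * r)) * T.sq_mul 0 i +
        (2 * (r * r) * (v 1 i + v 2 i)) * hone i h0
  refine ⟨d i0, σ, T.pos i0, hw1 i0 hi0, ?_⟩
  have hv : ∀ k, ∑ i, v k i = 0 := by
    intro k
    have h := T.deg k
    have e : ∀ i, d i * v k i = d i0 * v k i := by
      intro i
      by_cases h0 : v 0 i = 0
      · simp [(T.zero_iff k i).2 h0]
      · rw [(hconst i h0).2]
    rw [Finset.sum_congr rfl fun i _ => e i, ← Finset.mul_sum] at h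
    exact (mul_eq_zero.1 h).resolve_left (T.pos i0).ne'
  have hsum : ∑ i, v 0 i * x i * x i = 8 * σ * (r * r) := by
    rw [Finset.sum_congr rfl fun i _ => hkey i]
    simp only [Finset.sum_add_distrib, ← Finset.mul_sum, hv, T.norm 0]
    ring
  have hterm : ∀ i, (v 0 i : ℂ) * (x i : ℂ) ^ 2 / (d i : ℂ) =
      ((v 0 i * x i * x i : ℤ) : ℂ) / (d i0 : ℂ) := by
    intro i
    by_cases h0 : v 0 i = 0
    · simp [h0]
    · rw [(hconst i h0).2]; push_cast; ring
  rw [Finset.sum_congr rfl fun i _ => hterm i, ← Finset.sum_div, ← Int.cast_sum, hsum]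
  push_cast
  ring

end Triple

end Cfsg.Agent.GoldGroups11
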