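import Cfsg.Agent.GoldGroups11.Gram
import Cfsg.Agent.GoldGroups11.Vectors
import Cfsg.Agent.GoldGroups11.Local2
import Cfsg.Agent.GoldGroups11.Local3
import Mathlib.RingTheory.RootsOfUnity.Complex
import Mathlib.Data.ZMod.Basic

/-!
A group of Ree type involves `S₃`.
-/

set_option autoImplicit false
set_option linter.style.haveILetI false
set_option linter.unusedSectionVars false

namespace Cfsg.Agent.GoldGroups11

open Cfsg.Agent.Dickson CharInd
open scoped MatrixGroups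

/-- The powers of a nontrivial cube root of one. -/
theorem cube_root_powers {R : Type*} [CommRing R] {x : R} (h3 : x ^ 3 = 1) (h1 : x ≠ 1)
    (h2 : (2 : R) ≠ 0) (k l : Fin 3) :
    (k ≠ l → x ^ (k : ℕ) ≠ x ^ (l : ℕ)) ∧ x ^ (k : ℕ) + x ^ (l : ℕ) ≠ 0 := by
  have a1 : x ≠ x ^ 2 := fun h => h1 (by linear_combination (1 - x) * h3 + (-(x ^ 2)) * h)
  have a2 : (1 : R) ≠ x ^ 2 := fun h => h1 (by linear_combination h3 + x * h)
  have b1 : 1 + x ≠ 0 := fun h => h2 (by linear_combination (-1 : R) * h3 + (x ^ 2 - x + 1) * h)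
  have b2 : 1 + x ^ 2 ≠ 0 := fun h =>
    h2 (by linear_combination (-(x ^ 3) - 1) * h3 + (x ^ 4 - x ^ 2 + 1) * h)
  have b3 : x + x ^ 2 ≠ 0 := fun h => b1 (by linear_combination (-(1 + x)) * h3 + x ^ 2 * h)
  have b4 : x + x ≠ 0 := fun h => h2 (by linear_combination (-2 : R) * h3 + x ^ 2 * h)
  have b5 : x ^ 2 + x ^ 2 ≠ 0 := fun h => h2 (by linear_combination (-2 : R) * h3 + x * h)
  have b0 : (1 : R) + 1 ≠ 0 := by rwa [one_add_one_eq_two]
  fin_cases k <;> fin_cases l <;> simp only [pow_zero, pow_one] <;> refine ⟨fun hkl => ?_, ?_⟩ <;>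
    first
      | exact absurd rfl hkl
      | exact h1
      | exact h1.symm
      | exact a1
      | exact a1.symm
      | exact a2
      | exact a2.symm
      | exact b0
      | exact b1
      | exact b2
      | exact b3
      | exact b4
      | exact b5
      | (rw [add_comm]; first | exact b1 | exact b2 | exact b3)

theorem even_sum_of_involution {ι : Type*} (s : Finset ι) (g : ι → ι) (f : ι → ℤ)
    (hmem : ∀ a ∈ s, g a ∈ s) (hne : ∀ a ∈ s, g a ≠ a) (hg : ∀ a ∈ s, g (g a) = a)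
    (hf : ∀ a ∈ s, f (g a) = f a) : 2 ∣ ∑ a ∈ s, f a := by
  refine (ZMod.intCast_zmod_eq_zero_iff_dvd _ 2).1 ?_
  rw [Int.cast_sum]
  refine Finset.sum_involution (fun a _ => g a) (fun a ha => ?_) (fun a ha _ => hne a ha) hmem hg
  rw [hf a ha]
  exact CharTwo.add_self_eq_zero _

theorem sum_ite_pair {α β : Type*} [DecidableEq α] [CommRing β] {s : Finset α} {a b : α}
    (ha : a ∈ s) (hb : b ∈ s) :
    ∑ x ∈ s, ((if x = a then (1 : β) else 0) + (if x = b then 1 else 0)) = 2 := by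
  rw [Finset.sum_add_distrib, Finset.sum_ite_eq', Finset.sum_ite_eq', if_pos ha, if_pos hb,
    one_add_one_eq_two]

theorem hom_mul_eq_one_iff {S : Type*} [Group S] {α β : S →* ℂˣ} : α * β = 1 ↔ α = β⁻¹ :=
  ⟨fun h => MonoidHom.ext fun x => eq_inv_of_mul_eq_one_left (DFunLike.congr_fun h x),
    fun h => by rw [h]; exact MonoidHom.ext fun x => inv_mul_cancel _⟩

theorem hom_inv_eq_one {S : Type*} [Group S] {α : S →* ℂˣ} (h : α⁻¹ = 1) : α = 1 :=
  MonoidHom.ext fun x => inv_eq_one.1 (DFunLike.congr_fun h x)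

theorem hom_inv_inv {S : Type*} [Group S] (α : S →* ℂˣ) : α⁻¹⁻¹ = α :=
  MonoidHom.ext fun _ => inv_inv _

namespace Ree

variable {G : Type*} [Group G] [Fintype G] {F : Type*} [Field F] [Fintype F] {n m : ℕ}
  (D : Ree G F n m)
include D

variable [Fintype (PSL2 F)]

/-- Class functions on odd elements with integral coefficients. -/
def IntCC (f : PSL2 F → ℂ) : Prop :=
  OddClass f ∧ ∀ χ : Cfsg.IrrCharacter G, ∃ z : ℤ, D.cc f χ = z

theorem intCC_add {f g : PSL2 F → ℂ} (hf : D.IntCC f) (hg : D.IntCC g) : D.IntCC (f + g) := by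
  refine ⟨hf.1.add hg.1, fun χ => ?_⟩
  obtain ⟨a, ha⟩ := hf.2 χ
  obtain ⟨b, hb⟩ := hg.2 χ
  exact ⟨a + b, by rw [D.cc_add, ha, hb, Int.cast_add]⟩

theorem intCC_sub {f g : PSL2 F → ℂ} (hf : D.IntCC f) (hg : D.IntCC g) : D.IntCC (f - g) := by
  refine ⟨hf.1.sub hg.1, fun χ => ?_⟩
  obtain ⟨a, ha⟩ := hf.2 χ
  obtain ⟨b, hb⟩ := hg.2 χ
  exact ⟨a - b, by rw [D.cc_sub, ha, hb, Int.cast_sub]⟩

theorem intCC_two {f : PSL2 F → ℂ} (hf : D.IntCC f) : D.IntCC ((2 : ℂ) • f) := by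
  refine ⟨hf.1.smul _, fun χ => ?_⟩
  obtain ⟨a, ha⟩ := hf.2 χ
  exact ⟨2 * a, by rw [D.cc_smul, ha, Int.cast_mul, Int.cast_ofNat]⟩

theorem intCC_sum {ι : Type*} (s : Finset ι) {f : ι → PSL2 F → ℂ} (hf : ∀ i ∈ s, D.IntCC (f i)) :
    D.IntCC (∑ i ∈ s, f i) :=
  Finset.sum_induction _ D.IntCC (fun _ _ => D.intCC_add)
    ⟨oddClass_zero, fun χ => ⟨0, by simp [cc]⟩⟩ hf

theorem intCC_XU (a : F) : D.IntCC (XU a) :=
  ⟨oddClass_XU D.card_F a, fun χ => D.exists_int_cc_indFun (uGrp F) (thU a) χ⟩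

theorem intCC_IB (μ : sqs F →* ℂˣ) : D.IntCC (IB μ) :=
  ⟨oddClass_IB D.card_F μ, fun χ => D.exists_int_cc_indFun (brl F) (thB μ) χ⟩

theorem intCC_IA (ν : D.torus.A →* ℂˣ) : D.IntCC (D.torus.IA ν) :=
  ⟨D.torus.oddClass_IA ν, fun χ => D.exists_int_cc_indFun D.torus.A ν χ⟩

theorem intCC_PP (ν : D.torus.A →* ℂˣ) : D.IntCC (D.torus.PP ν) :=
  D.intCC_sub (D.intCC_two (D.intCC_add (D.intCC_XU 1) (D.intCC_XU (-1)))) (D.intCC_IA ν)

/-- A function of norm zero has no coefficients. -/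
theorem cc_eq_zero {f : PSL2 F → ℂ} (hf : D.IntCC f) (h0 : BB f f = 0) (χ : Cfsg.IrrCharacter G) :
    D.cc f χ = 0 := by
  choose z hz using hf.2
  have h := D.sum_cc_mul hf.1 hf.1
  simp only [hz, h0, mul_zero] at h
  have h' : ∑ χ, z χ * z χ = 0 := by exact_mod_cast h
  have := (Finset.sum_eq_zero_iff_of_nonneg fun x _ => mul_self_nonneg (z x)).1 h' χ
    (Finset.mem_univ _)
  rw [hz, mul_self_eq_zero.1 this, Int.cast_zero]

theorem cc_eq_of_norm {f g : PSL2 F → ℂ} (hf : D.IntCC f) (hg : D.IntCC g)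
    (h0 : BB f f - 2 * BB f g + BB g g = 0) (χ : Cfsg.IrrCharacter G) :
    D.cc f χ = D.cc g χ := by
  have h := D.cc_eq_zero (D.intCC_sub hf hg) (by
    rw [BB_sub_left, BB_sub_right, BB_sub_right, BB_comm g f]
    linear_combination h0) χ
  rwa [D.cc_sub, sub_eq_zero] at h

/-- The sums over the torus are invariant under the twist. -/
theorem sum_twist {j : ℕ} (hj3 : j ^ 3 % m = 1)
    (hj : ∀ i : ℕ, IsConj (D.ψ ((D.torus.g ^ 2) ^ i)) (D.ψ ((D.torus.g ^ 2) ^ (j * i))))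
    [Fintype D.torus.A] (χ : Cfsg.IrrCharacter G) (ν : D.torus.A →* ℂˣ) :
    ∑ s : D.torus.A, (((ν ^ j) s : ℂˣ) : ℂ) * (χ : G → ℂ) (D.ψ s) =
      ∑ s : D.torus.A, ((ν s : ℂˣ) : ℂ) * (χ : G → ℂ) (D.ψ s) := by
  have hm2 : 2 ≤ m := le_trans (by norm_num) D.torus.m_ge
  have hcop : Nat.Coprime j m := by
    refine Nat.coprime_of_dvd' fun p hp hpj hpm => ?_
    have h1 : p ∣ j ^ 3 % m := (Nat.dvd_mod_iff hpm).2 (dvd_pow hpj (by norm_num))
    rwa [hj3] at h1
  refine Fintype.sum_equiv (powCoprime (G := D.torus.A) (n := j)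
    (by rw [D.torus.card_A]; exact hcop.symm)) _ _ fun s => ?_
  show (((ν ^ j) s : ℂˣ) : ℂ) * _ = ((ν (s ^ j) : ℂˣ) : ℂ) * (χ : G → ℂ) (D.ψ ((s ^ j : D.torus.A) : PSL2 F))
  rw [MonoidHom.pow_apply, map_pow]
  congr 1
  obtain ⟨i, hi⟩ : ∃ i : ℕ, (D.torus.g ^ 2) ^ i = (s : PSL2 F) := by
    have := mem_powers_iff_mem_zpowers.2 s.2
    exact this
  rw [SubgroupClass.coe_pow, ← hi, ← pow_mul (D.torus.g ^ 2) i j, mul_comm i j]
  obtain ⟨c, hc⟩ := isConj_iff.1 (hj i)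
  rw [← hc]
  exact (CharCore.irr_isClassFunction χ _ _).symm

theorem pow_eq_one_iff' {ν : D.torus.A →* ℂˣ} (h : ν * ν = 1) : ν = 1 := by
  refine MonoidHom.ext fun a => ?_
  have h1 : ν a * ν a = 1 := DFunLike.congr_fun h a
  have h2 : ν a ^ m = 1 := by
    have e := pow_card_eq_one' (x := a)
    rw [D.torus.card_A] at e
    rw [← map_pow, e, map_one]
  obtain ⟨k, hk⟩ := D.torus.m_odd
  have h2' : ν a ^ (2 * k + 1) = 1 := (congrArg (ν a ^ ·) hk).symm.trans h2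
  rw [pow_succ, pow_mul, pow_two, h1, one_pow, one_mul] at h2'
  exact h2'

/-- Three characters of the torus permuted cyclically by the twist. -/
theorem exists_nu {j : ℕ} (hj3 : j ^ 3 % m = 1) (hj1 : j % m ≠ 1) :
    ∃ ν₀ : D.torus.A →* ℂˣ, ∀ k l : Fin 3,
      (k ≠ l → ν₀ ^ (j ^ (k : ℕ)) ≠ ν₀ ^ (j ^ (l : ℕ))) ∧
        ν₀ ^ (j ^ (k : ℕ)) * ν₀ ^ (j ^ (l : ℕ)) ≠ 1 := by
  have hm7 := D.torus.m_ge
  haveI : NeZero m := ⟨by omega⟩
  obtain ⟨u, hu⟩ := (Complex.isPrimitiveRoot_exp m (NeZero.ne m)).isUnit (NeZero.ne m)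
  have huo : orderOf u = m := by
    rw [← orderOf_units, hu]
    exact (Complex.isPrimitiveRoot_exp m (NeZero.ne m)).eq_orderOf.symm
  let gen : D.torus.A := ⟨D.torus.g ^ 2, Subgroup.mem_zpowers _⟩
  have hgen : ∀ x : D.torus.A, x ∈ Subgroup.zpowers gen := by
    rintro ⟨x, hx⟩
    obtain ⟨k, rfl⟩ := Subgroup.mem_zpowers_iff.1 hx
    exact Subgroup.mem_zpowers_iff.2 ⟨k, Subtype.ext (by simp [gen])⟩
  have hgo : orderOf gen = m := by
    rw [← Subgroup.orderOf_coe]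
    exact D.torus.A_order
  let ν₀ : D.torus.A →* ℂˣ := monoidHomOfForallMemZpowers hgen (g' := u) (by rw [huo, hgo])
  have hν : ν₀ gen = u := monoidHomOfForallMemZpowers_apply_gen hgen _
  have hx3 : (j : ZMod m) ^ 3 = 1 := by
    rw [← Nat.cast_pow, ← Nat.cast_one, ZMod.natCast_eq_natCast_iff', hj3, Nat.one_mod_eq_one.2 (by omega)]
  have hx1 : (j : ZMod m) ≠ 1 := by
    rw [← Nat.cast_one, Ne, ZMod.natCast_eq_natCast_iff', Nat.one_mod_eq_one.2 (by omega)]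
    exact hj1
  have hx2 : (2 : ZMod m) ≠ 0 := by
    intro h
    have h2 : ((2 : ℕ) : ZMod m) = 0 := by exact_mod_cast h
    rw [ZMod.natCast_eq_zero_iff] at h2
    have := Nat.le_of_dvd (by norm_num) h2
    omega
  refine ⟨ν₀, fun k l => ?_⟩
  obtain ⟨c1, c2⟩ := cube_root_powers hx3 hx1 hx2 k l
  refine ⟨fun hkl he => c1 hkl ?_, fun he => c2 ?_⟩
  · have h : u ^ (j ^ (k : ℕ)) = u ^ (j ^ (l : ℕ)) := by
      have := DFunLike.congr_fun he gen
      simpa only [MonoidHom.pow_apply, hν] using this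
    have h' := pow_eq_pow_iff_modEq.1 h
    rw [huo, ← ZMod.natCast_eq_natCast_iff] at h'
    exact_mod_cast h'
  · have h : u ^ (j ^ (k : ℕ) + j ^ (l : ℕ)) = 1 := by
      have := DFunLike.congr_fun he gen
      rw [pow_add]
      simpa only [MonoidHom.mul_apply, MonoidHom.pow_apply, hν, MonoidHom.one_apply] using this
    have h' := orderOf_dvd_of_pow_eq_one h
    rw [huo, ← ZMod.natCast_eq_zero_iff] at h'
    exact_mod_cast h'

/-- The coefficients of the norm two functions. -/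
theorem exists_triple {j : ℕ} (hj3 : j ^ 3 % m = 1)
    (hj : ∀ i : ℕ, IsConj (D.ψ ((D.torus.g ^ 2) ^ i)) (D.ψ ((D.torus.g ^ 2) ^ (j * i))))
    (d : Cfsg.IrrCharacter G → ℕ) (hd : ∀ χ : Cfsg.IrrCharacter G, (χ : G → ℂ) 1 = d χ)
    (ν₀ : D.torus.A →* ℂˣ)
    (hν : ∀ k l : Fin 3, (k ≠ l → ν₀ ^ (j ^ (k : ℕ)) ≠ ν₀ ^ (j ^ (l : ℕ))) ∧
        ν₀ ^ (j ^ (k : ℕ)) * ν₀ ^ (j ^ (l : ℕ)) ≠ 1) :
    ∃ v : Fin 3 → Cfsg.IrrCharacter G → ℤ, Triple (fun χ => (d χ : ℤ)) v ∧
      ∀ (k : Fin 3) χ, D.cc (D.torus.PP (ν₀ ^ (j ^ (k : ℕ)))) χ = v k χ := by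
  classical
  letI : Fintype D.torus.A := Fintype.ofFinite _
  set ν : Fin 3 → (D.torus.A →* ℂˣ) := fun k => ν₀ ^ (j ^ (k : ℕ)) with hνdef
  choose v hv using fun k => (D.intCC_PP (ν k)).2
  have hdot : ∀ k l, ((∑ χ, v k χ * v l χ : ℤ) : ℂ) =
      4 * (if k = l then (1 : ℂ) else 0) := by
    intro k l
    have h := D.sum_cc_mul (D.intCC_PP (ν k)).1 (D.intCC_PP (ν l)).1
    simp only [hv, D.torus.BB_PP D.card_F] at h
    push_cast
    rw [h, if_neg (hν k l).2, add_zero]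
    by_cases hkl : k = l
    · subst hkl; rw [if_pos rfl, if_pos rfl]; ring
    · rw [if_neg ((hν k l).1 hkl), if_neg hkl]; ring
  refine ⟨v, ⟨fun χ => ?_, fun k => ?_, fun k l hkl => ?_, fun k => ?_, fun k χ => ?_⟩, hv⟩
  · obtain ⟨N, hN, hN'⟩ := CharCore.IsIrrCharacter.exists_degree χ.2
    have : d χ = N := by exact_mod_cast (hd χ).symm.trans hN'
    show (0 : ℤ) < (d χ : ℤ)
    omega
  · have := hdot k k
    rw [if_pos rfl, mul_one] at this
    exact_mod_cast this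
  · have := hdot k l
    rw [if_neg hkl, mul_zero] at this
    exact_mod_cast this
  · have h := D.sum_deg_cc (D.torus.PP (ν k)) d hd
    simp only [hv] at h
    exact_mod_cast h
  · have hS : ∀ i : ℕ, ∑ s : D.torus.A, (((ν₀ ^ (j ^ i)) s : ℂˣ) : ℂ) * (χ : G → ℂ) (D.ψ s) =
        ∑ s : D.torus.A, ((ν₀ s : ℂˣ) : ℂ) * (χ : G → ℂ) (D.ψ s) := by
      intro i
      induction i with
      | zero => exact Finset.sum_congr rfl fun s _ => by rw [MonoidHom.pow_apply, pow_zero, pow_one]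
      | succ i ih =>
        rw [← ih, ← D.sum_twist hj3 hj χ (ν₀ ^ (j ^ i))]
        refine Finset.sum_congr rfl fun s _ => ?_
        rw [MonoidHom.pow_apply, MonoidHom.pow_apply, MonoidHom.pow_apply, pow_succ, pow_mul]
    obtain ⟨a, b, hab, hab'⟩ := D.exists_multiplicities D.torus.A (ν k) χ
    obtain ⟨a', b', hab0, hab0'⟩ := D.exists_multiplicities D.torus.A (ν 0) χ
    have he : (a : ℂ) + b = (a' : ℂ) + b' := by
      rw [← hab', ← hab0', hνdef]
      dsimp only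
      rw [hS, hS]
    have he' : a + b = a' + b' := by exact_mod_cast he
    obtain ⟨c, hc⟩ := (D.intCC_XU (1 : F)).2 χ
    obtain ⟨c', hc'⟩ := (D.intCC_XU (-1 : F)).2 χ
    have hcc : ∀ i, D.cc (D.torus.PP (ν i)) χ = 2 * ((c : ℂ) + c') -
        (∑ s : D.torus.A, ((ν i s : ℂˣ) : ℂ) * (χ : G → ℂ) (D.t * D.ψ s)) / Nat.card D.torus.A := by
      intro i
      rw [TorusData.PP, D.cc_sub, D.cc_smul, D.cc_add, hc, hc', TorusData.IA, D.cc_indFun]
    have h1 : v k χ - v 0 χ = ((a' : ℤ) - b') - ((a : ℤ) - b) := by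
      have e1 := hcc k
      have e0 := hcc 0
      rw [hv, hab] at e1
      rw [hv, hab0] at e0
      have : (v k χ : ℂ) - v 0 χ = ((a' : ℂ) - b') - ((a : ℂ) - b) := by
        linear_combination e1 - e0
      exact_mod_cast this
    rw [h1]
    omega

/-- The additive characters detect the identity of the unipotent subgroup. -/
theorem sum_cc_XU (χ : Cfsg.IrrCharacter G) :
    ∑ a : F, D.cc (XU a) χ = (χ : G → ℂ) D.t := by
  classical
  letI : Fintype (uGrp F) := Fintype.ofFinite _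
  have hq : (Fintype.card F : ℂ) ≠ 0 := Nat.cast_ne_zero.2 Fintype.card_pos.ne'
  simp only [XU, D.cc_indFun, card_uGrp, ← Finset.sum_div]
  rw [Finset.sum_comm, Fintype.sum_eq_single (1 : uGrp F)]
  · simp only [map_one, Units.val_one, OneMemClass.coe_one, mul_one, one_mul, Finset.sum_const,
      Finset.card_univ, nsmul_eq_mul]
    field_simp
  · intro s hs
    rw [← Finset.sum_mul]
    have hs0 : uPar s ≠ 0 := by
      intro h
      refine hs ?_
      obtain ⟨_, b, rfl⟩ := s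
      have hb : b.toAdd = 0 := (uPar_mk b.toAdd _).symm.trans h
      refine Subtype.ext ?_
      show uppHom F b = 1
      rw [show b = Multiplicative.ofAdd (0 : F) from hb, ofAdd_zero, map_one]
    rw [Finset.sum_congr rfl fun a _ => (thU_apply a s).trans (by rw [mul_comm]),
      sum_ech D.card_F, if_neg hs0, zero_mul]

/-- Orthogonality to the product of the three vectors. -/
def Perp (w : Cfsg.IrrCharacter G → ℤ) (f : PSL2 F → ℂ) : Prop :=
  ∑ χ : Cfsg.IrrCharacter G, (w χ : ℂ) * D.cc f χ = 0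

theorem perp_cc {w : Cfsg.IrrCharacter G → ℤ} {f g : PSL2 F → ℂ}
    (h : ∀ χ, D.cc f χ = D.cc g χ) (hg : D.Perp w g) : D.Perp w f := by
  unfold Perp at hg ⊢
  simpa only [h] using hg

theorem perp_sum {w : Cfsg.IrrCharacter G → ℤ} {ι : Type*} (s : Finset ι) (f : ι → PSL2 F → ℂ)
    (h : ∀ i ∈ s, D.Perp w (f i)) : D.Perp w (∑ i ∈ s, f i) := by
  show ∑ χ, (w χ : ℂ) * D.cc (∑ i ∈ s, f i) χ = 0
  simp only [D.cc_sum, Finset.mul_sum]
  rw [Finset.sum_comm]
  exact Finset.sum_eq_zero h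

theorem mu_sq_ne_one {μ : sqs F →* ℂˣ} (hμ : μ ≠ 1) : μ * μ ≠ 1 := by
  intro h
  refine hμ (MonoidHom.ext fun a => ?_)
  have h1 : μ a * μ a = 1 := DFunLike.congr_fun h a
  have h2 : μ a ^ Nat.card (sqs F) = 1 := by rw [← map_pow, pow_card_eq_one', map_one]
  obtain ⟨k, hk⟩ : Odd (Nat.card (sqs F)) := Nat.odd_iff.2 (by
    have := two_mul_card_sqs D.card_F
    have := D.torus.card_eq
    omega)
  rw [hk, pow_succ, pow_mul, pow_two, h1, one_pow, one_mul] at h2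
  exact h2

theorem nu_sq_ne_one {α : D.torus.A →* ℂˣ} (hα : α ≠ 1) : α * α ≠ 1 :=
  fun h => hα (D.pow_eq_one_iff' h)

theorem cc_PP_inv {α β : D.torus.A →* ℂˣ} (hα : α ≠ 1) (hab : α * β = 1)
    (χ : Cfsg.IrrCharacter G) : D.cc (D.torus.PP α) χ = D.cc (D.torus.PP β) χ := by
  classical
  have hne : α ≠ β := fun h => D.nu_sq_ne_one hα (by rw [← h] at hab; exact hab)
  have hβ : β ≠ 1 := fun h => hα (MonoidHom.ext fun x => by
    have := DFunLike.congr_fun hab x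
    rw [h] at this
    simpa using this)
  refine D.cc_eq_of_norm (D.intCC_PP α) (D.intCC_PP β) ?_ χ
  simp only [D.torus.BB_PP D.card_F, if_neg hne, if_neg (D.nu_sq_ne_one hα),
    if_neg (D.nu_sq_ne_one hβ), if_pos hab, if_true]
  ring

theorem cc_IB_inv {μ : sqs F →* ℂˣ} (hμ : μ ≠ 1) (χ : Cfsg.IrrCharacter G) :
    D.cc (IB μ⁻¹) χ = D.cc (IB μ) χ := by
  classical
  have hab : μ * μ⁻¹ = 1 := MonoidHom.ext fun x => mul_inv_cancel _
  have hba : μ⁻¹ ≠ μ := fun h => D.mu_sq_ne_one hμ (by nth_rw 2 [← h]; exact hab)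
  refine (D.cc_eq_of_norm (D.intCC_IB μ) (D.intCC_IB μ⁻¹) ?_ χ).symm
  rw [BB_BB D.card_F, BB_BB D.card_F, BB_BB D.card_F, if_pos rfl, if_pos rfl, if_neg hba.symm,
    if_pos hab, if_neg (D.mu_sq_ne_one hμ), if_neg (D.mu_sq_ne_one fun h => hμ (hom_inv_eq_one h))]
  ring

theorem card_sqs_cast : (Nat.card (sqs F) : ℂ) = 2 * m - 1 := by
  have h := two_mul_card_sqs D.card_F
  have := D.torus.card_eq
  rw [eq_sub_iff_add_eq]
  have : Nat.card (sqs F) + 1 = 2 * m := by omega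
  exact_mod_cast this

theorem card_homA : Nat.card (D.torus.A →* ℂˣ) = m := by
  letI : CommGroup D.torus.A :=
    { (inferInstance : Group D.torus.A) with
      mul_comm := fun a b => Subtype.ext (D.torus.T_comm (D.torus.A_le_T a.2) (D.torus.A_le_T b.2)) }
  haveI : NeZero ((Monoid.exponent D.torus.A : ℕ) : ℂ) :=
    ⟨Nat.cast_ne_zero.2 Monoid.exponent_ne_zero_of_finite⟩
  exact (CommGroup.card_monoidHom_of_hasEnoughRootsOfUnity D.torus.A ℂ).trans D.torus.card_A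

theorem card_homB : Nat.card (sqs F →* ℂˣ) = Nat.card (sqs F) := by
  haveI : NeZero ((Monoid.exponent (sqs F) : ℕ) : ℂ) :=
    ⟨Nat.cast_ne_zero.2 Monoid.exponent_ne_zero_of_finite⟩
  exact CommGroup.card_monoidHom_of_hasEnoughRootsOfUnity (sqs F) ℂ

variable (d : Cfsg.IrrCharacter G → ℕ) (hd : ∀ χ : Cfsg.IrrCharacter G, (χ : G → ℂ) 1 = d χ)
  (ν : Fin 3 → (D.torus.A →* ℂˣ)) (v : Fin 3 → Cfsg.IrrCharacter G → ℤ)
  (T : Triple (fun χ => (d χ : ℤ)) v) (hv : ∀ k χ, D.cc (D.torus.PP (ν k)) χ = v k χ)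
include hd T hv

theorem perp_short {f : PSL2 F → ℂ} {r : ℕ} (hf : D.IntCC f) (hr : BB f f = (r : ℂ)) (hr2 : r ≤ 2)
    (hk : ∀ k, BB f (D.torus.PP (ν k)) = 0) : D.Perp (tprod v) f := by
  choose z hz using hf.2
  have h := T.prod_dot_eq_zero (x := z) (fun k => ?_) ?_ ?_
  · show ∑ χ, (tprod v χ : ℂ) * D.cc f χ = 0
    simp only [hz]
    exact_mod_cast h
  · have e := D.sum_cc_mul hf.1 (D.intCC_PP (ν k)).1
    simp only [hz, hk k, mul_zero, hv] at e
    rw [Finset.sum_congr rfl fun χ _ => mul_comm (v k χ) (z χ)]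
    exact_mod_cast e
  · have e := D.sum_deg_cc f d hd
    simp only [hz] at e
    exact_mod_cast e
  · have e := D.sum_cc_mul hf.1 hf.1
    simp only [hz, hr] at e
    have e' : ∑ χ, z χ * z χ = 2 * (r : ℤ) := by exact_mod_cast e
    rw [e']
    omega

theorem perp_PP {α : D.torus.A →* ℂˣ} (hα : α ≠ 1) : D.Perp (tprod v) (D.torus.PP α) := by
  classical
  have hself : ∀ k, D.Perp (tprod v) (D.torus.PP (ν k)) := by
    intro k
    show ∑ χ, (tprod v χ : ℂ) * D.cc (D.torus.PP (ν k)) χ = 0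
    simp only [hv]
    have := T.prod_dot k
    rw [Finset.sum_congr rfl fun χ _ => mul_comm (v k χ) (tprod v χ)] at this
    exact_mod_cast this
  by_cases h : ∃ k, α = ν k ∨ α * ν k = 1
  · obtain ⟨k, rfl | hk⟩ := h
    · exact hself k
    · exact D.perp_cc (D.cc_PP_inv hα hk) (hself k)
  · push Not at h
    refine D.perp_short d hd ν v T hv (r := 2) (D.intCC_PP α) ?_ le_rfl fun k => ?_
    · rw [D.torus.BB_PP D.card_F, if_pos rfl, if_neg (D.nu_sq_ne_one hα)]; norm_num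
    · rw [D.torus.BB_PP D.card_F, if_neg (h k).1, if_neg (h k).2]; norm_num

theorem perp_IB (μ : sqs F →* ℂˣ) : D.Perp (tprod v) (IB μ) := by
  classical
  refine D.perp_short d hd ν v T hv (r := 1 + if μ * μ = 1 then 1 else 0) (D.intCC_IB μ) ?_ ?_
    fun k => D.torus.BB_BP D.card_F μ (ν k)
  · rw [BB_BB D.card_F, if_pos rfl]; push_cast; rfl
  · split_ifs <;> omega

set_option maxHeartbeats 1000000 in
theorem perp_XU (hν1 : ∀ k, ν k ≠ 1) (a : F) : D.Perp (tprod v) (XU a) := by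
  classical
  have hF := D.card_F
  haveI : Finite (D.torus.A →* ℂˣ) :=
    Nat.finite_of_card_ne_zero (by rw [D.card_homA]; exact D.torus.m_pos.ne')
  haveI : Finite (sqs F →* ℂˣ) :=
    Nat.finite_of_card_ne_zero (by rw [D.card_homB]; exact Nat.card_pos.ne')
  letI : Fintype (D.torus.A →* ℂˣ) := Fintype.ofFinite _
  letI : Fintype (sqs F →* ℂˣ) := Fintype.ofFinite _
  have hq := D.torus.q_eq hF
  have hm7 := D.torus.m_ge
  have hcard : ((Finset.univ : Finset (sqs F →* ℂˣ)).card : ℂ) = 2 * m - 1 := by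
    rw [Finset.card_univ, Fintype.card_eq_nat_card, D.card_homB, D.card_sqs_cast]
  have hBBiff : ∀ (β α : sqs F →* ℂˣ), α * β = 1 ↔ α = β⁻¹ := fun _ _ => hom_mul_eq_one_iff
  by_cases ha : a = 0
  · subst ha
    refine D.perp_cc (g := ∑ μ : sqs F →* ℂˣ, IB μ) (fun χ => ?_)
      (D.perp_sum _ _ fun μ _ => D.perp_IB d hd ν v T hv μ)
    refine D.cc_eq_of_norm (D.intCC_XU 0) (D.intCC_sum _ fun μ _ => D.intCC_IB μ) ?_ χ
    have hB : 2 * (Nat.card (brl F) : ℂ) = Fintype.card F * ((Fintype.card F : ℂ) - 1) := by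
      have h := congrArg (fun k : ℕ => (k : ℂ)) (two_mul_card_brl hF)
      push_cast [Nat.cast_sub (Fintype.card_pos (α := F))] at h
      exact h
    have hq0 : (Fintype.card F : ℂ) ≠ 0 := Nat.cast_ne_zero.2 Fintype.card_pos.ne'
    have e1 : BB (XU (0 : F)) (XU 0) = (Fintype.card F : ℂ) - 1 := by
      rw [BB_XX hF, scaleCount_zero_zero]
      field_simp
      linear_combination hB
    have e2 : BB (XU (0 : F)) (∑ μ : sqs F →* ℂˣ, IB μ) = 2 * (2 * m - 1) := by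
      rw [BB_sum_right, Finset.sum_congr rfl fun μ _ => (BB_XB hF 0 μ).trans (if_pos rfl),
        Finset.sum_const, nsmul_eq_mul, hcard]
      ring
    have e3 : BB (∑ μ : sqs F →* ℂˣ, IB μ) (∑ μ : sqs F →* ℂˣ, IB μ) = 2 * (2 * m - 1) := by
      have hin : ∀ β : sqs F →* ℂˣ, BB (∑ μ : sqs F →* ℂˣ, IB μ) (IB β) = 2 := by
        intro β
        rw [BB_sum_left, Finset.sum_congr rfl fun μ _ => BB_BB hF μ β]
        simp only [hBBiff β]
        exact sum_ite_pair (Finset.mem_univ _) (Finset.mem_univ _)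
      rw [BB_sum_right, Finset.sum_congr rfl fun β _ => hin β, Finset.sum_const, nsmul_eq_mul, hcard]
      ring
    rw [e1, e2, e3, hq]
    ring
  set sA := (Finset.univ : Finset (D.torus.A →* ℂˣ)).erase 1 with hsA
  set sB := (Finset.univ : Finset (sqs F →* ℂˣ)).erase 1 with hsB
  have cardsA : (sA.card : ℂ) = m - 1 := by
    rw [hsA, Finset.card_erase_of_mem (Finset.mem_univ _), Finset.card_univ, Fintype.card_eq_nat_card,
      D.card_homA, Nat.cast_sub (by omega), Nat.cast_one]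
  have cardsB : (sB.card : ℂ) = 2 * m - 2 := by
    rw [hsB, Finset.card_erase_of_mem (Finset.mem_univ _), Finset.card_univ, Fintype.card_eq_nat_card,
      D.card_homB, Nat.cast_sub Nat.card_pos, Nat.cast_one, D.card_sqs_cast]
    ring
  set SP := ∑ α ∈ sA, D.torus.PP α with hSP
  set SB := ∑ μ ∈ sB, IB μ with hSB
  have evenA : ∀ χ, ∃ e : ℤ, D.cc SP χ = 2 * (e : ℂ) := by
    intro χ
    choose z hz using fun α => (D.intCC_PP α).2 χ
    obtain ⟨e, he⟩ := even_sum_of_involution sA (fun α => α⁻¹) z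
      (fun a ha => Finset.mem_erase.2 ⟨fun h => (Finset.mem_erase.1 ha).1 (hom_inv_eq_one h),
        Finset.mem_univ _⟩)
      (fun a ha h => D.nu_sq_ne_one (Finset.mem_erase.1 ha).1 (by
        nth_rw 1 [← h]; exact MonoidHom.ext fun x => inv_mul_cancel _))
      (fun a _ => hom_inv_inv a) (fun a ha => by
        have := D.cc_PP_inv (β := a⁻¹) (Finset.mem_erase.1 ha).1
          (MonoidHom.ext fun x => mul_inv_cancel _) χ
        rw [hz, hz] at this
        exact_mod_cast this.symm)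
    refine ⟨e, ?_⟩
    rw [hSP, D.cc_sum, Finset.sum_congr rfl fun α _ => hz α, ← Int.cast_sum, he]
    push_cast; ring
  have evenB : ∀ χ, ∃ e : ℤ, D.cc SB χ = 2 * (e : ℂ) := by
    intro χ
    choose z hz using fun μ => (D.intCC_IB μ).2 χ
    obtain ⟨e, he⟩ := even_sum_of_involution sB (fun μ => μ⁻¹) z
      (fun a ha => Finset.mem_erase.2 ⟨fun h => (Finset.mem_erase.1 ha).1 (hom_inv_eq_one h),
        Finset.mem_univ _⟩)
      (fun a ha h => D.mu_sq_ne_one (Finset.mem_erase.1 ha).1 (by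
        nth_rw 1 [← h]; exact MonoidHom.ext fun x => inv_mul_cancel _))
      (fun a _ => hom_inv_inv a) (fun a ha => by
        have := D.cc_IB_inv (Finset.mem_erase.1 ha).1 χ
        rw [hz, hz] at this
        exact_mod_cast this)
    refine ⟨e, ?_⟩
    rw [hSB, D.cc_sum, Finset.sum_congr rfl fun α _ => hz α, ← Int.cast_sum, he]
    push_cast; ring
  have pairA : ∀ β : D.torus.A →* ℂˣ, β ≠ 1 → BB SP (D.torus.PP β) = 4 := by
    intro β hβ
    rw [hSP, BB_sum_left]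
    simp only [D.torus.BB_PP hF, ← Finset.mul_sum]
    have : ∀ α : D.torus.A →* ℂˣ, α * β = 1 ↔ α = β⁻¹ := fun α => hom_mul_eq_one_iff
    simp only [this]
    rw [sum_ite_pair (Finset.mem_erase.2 ⟨hβ, Finset.mem_univ _⟩)
      (Finset.mem_erase.2 ⟨fun h => hβ (hom_inv_eq_one h), Finset.mem_univ _⟩)]
    norm_num
  have pairB : ∀ β : sqs F →* ℂˣ, β ≠ 1 → BB SB (IB β) = 2 := by
    intro β hβ
    rw [hSB, BB_sum_left, Finset.sum_congr rfl fun μ _ => BB_BB hF μ β]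
    simp only [hBBiff β]
    exact sum_ite_pair (Finset.mem_erase.2 ⟨hβ, Finset.mem_univ _⟩)
      (Finset.mem_erase.2 ⟨fun h => hβ (hom_inv_eq_one h), Finset.mem_univ _⟩)
  have hPB : BB SP SB = 0 := by
    rw [hSB, BB_sum_right]
    refine Finset.sum_eq_zero fun μ _ => ?_
    rw [hSP, BB_sum_left]
    refine Finset.sum_eq_zero fun α _ => ?_
    rw [BB_comm, D.torus.BB_BP hF]
  set Φ := XU a - (2⁻¹ : ℂ) • (SP + SB) with hΦ
  have hint : D.IntCC Φ := by
    refine ⟨(oddClass_XU hF a).sub (((D.intCC_sum _ fun α _ => D.intCC_PP α).1.add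
      (D.intCC_sum _ fun μ _ => D.intCC_IB μ).1).smul _), fun χ => ?_⟩
    obtain ⟨x, hx⟩ := (D.intCC_XU a).2 χ
    obtain ⟨e, he⟩ := evenA χ
    obtain ⟨f, hf⟩ := evenB χ
    refine ⟨x - (e + f), ?_⟩
    rw [hΦ, D.cc_sub, D.cc_smul, D.cc_add, hx, he, hf]
    push_cast; ring
  have h1 : BB (XU a) SP = 2 * (m - 1) := by
    rw [hSP, BB_sum_right, Finset.sum_congr rfl fun α _ => (D.torus.BB_XP hF (a := a) α).trans (if_neg ha),
      Finset.sum_const, nsmul_eq_mul, cardsA]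
    ring
  have h2 : BB (XU a) SB = 2 * m - 2 := by
    rw [hSB, BB_sum_right, Finset.sum_congr rfl fun μ _ => (BB_XB hF a μ).trans (if_neg ha),
      Finset.sum_const, nsmul_eq_mul, cardsB, mul_one]
  have h3 : BB SP SP = 4 * (m - 1) := by
    nth_rw 2 [hSP]
    rw [BB_sum_right, Finset.sum_congr rfl fun β hβ => pairA β (Finset.mem_erase.1 hβ).1,
      Finset.sum_const, nsmul_eq_mul, cardsA]
    ring
  have h4 : BB SB SB = 2 * (2 * m - 2) := by
    nth_rw 2 [hSB]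
    rw [BB_sum_right, Finset.sum_congr rfl fun β hβ => pairB β (Finset.mem_erase.1 hβ).1,
      Finset.sum_const, nsmul_eq_mul, cardsB]
    ring
  have h5 : BB (XU a) (XU a) = 2 * m := by
    rw [BB_XX hF, scaleCount_self ha, div_self (Nat.cast_ne_zero.2 Fintype.card_pos.ne'), hq]
    ring
  have hperpΦ : D.Perp (tprod v) Φ := by
    refine D.perp_short d hd ν v T hv (r := 2) hint ?_ le_rfl fun k => ?_
    · simp only [hΦ, BB_sub_left, BB_sub_right, BB_smul_left, BB_smul_right, BB_add_left,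
        BB_add_right, BB_comm SP (XU a), BB_comm SB (XU a), BB_comm SB SP, h1, h2, h3, h4, h5, hPB]
      norm_num
      ring
    · have h6 : BB SB (D.torus.PP (ν k)) = 0 := by
        rw [hSB, BB_sum_left]
        exact Finset.sum_eq_zero fun μ _ => D.torus.BB_BP hF μ _
      rw [hΦ, BB_sub_left, BB_smul_left, BB_add_left, D.torus.BB_XP hF, if_neg ha,
        pairA (ν k) (hν1 k), h6]
      norm_num
  show ∑ χ, (tprod v χ : ℂ) * D.cc (XU a) χ = 0
  have hp1 : D.Perp (tprod v) SP :=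
    D.perp_sum _ _ fun α hα => D.perp_PP d hd ν v T hv (Finset.mem_erase.1 hα).1
  have hp2 : D.Perp (tprod v) SB := D.perp_sum _ _ fun μ _ => D.perp_IB d hd ν v T hv μ
  have e : ∀ χ, (tprod v χ : ℂ) * D.cc (XU a) χ = (tprod v χ : ℂ) * D.cc Φ χ +
      (2⁻¹ * ((tprod v χ : ℂ) * D.cc SP χ) + 2⁻¹ * ((tprod v χ : ℂ) * D.cc SB χ)) := fun χ => by
    rw [hΦ, D.cc_sub, D.cc_smul, D.cc_add]; ring
  rw [Finset.sum_congr rfl fun χ _ => e χ, Finset.sum_add_distrib, Finset.sum_add_distrib,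
    ← Finset.mul_sum, ← Finset.mul_sum,
    show ∑ χ, (tprod v χ : ℂ) * D.cc Φ χ = 0 from hperpΦ,
    show ∑ χ, (tprod v χ : ℂ) * D.cc SP χ = 0 from hp1,
    show ∑ χ, (tprod v χ : ℂ) * D.cc SB χ = 0 from hp2]
  ring

omit hd T hv

set_option maxHeartbeats 1000000 in
/-- A group of Ree type involves `S₃`. -/
theorem contradiction : False := by
  classical
  obtain ⟨j, hj3, hj1, hj⟩ := D.exists_twist
  obtain ⟨ν₀, hν⟩ := D.exists_nu hj3 hj1
  choose d hd using fun χ : Cfsg.IrrCharacter G =>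
    CharCore.IsCharacter.exists_degree (CharCore.irr_isCharacter χ)
  obtain ⟨v, T, hv⟩ := D.exists_triple hj3 hj d hd ν₀ hν
  set ν : Fin 3 → (D.torus.A →* ℂˣ) := fun k => ν₀ ^ (j ^ (k : ℕ)) with hνdef
  have hν1 : ∀ k, ν k ≠ 1 := fun k h => (hν k k).2 (by
    show ν k * ν k = 1
    rw [h]
    exact MonoidHom.ext fun x => one_mul _)
  have hv' : ∀ k χ, D.cc (D.torus.PP (ν k)) χ = v k χ := hv
  have perpX : ∀ a : F, D.Perp (tprod v) (XU a) := D.perp_XU d hd ν v T hv' hν1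
  have hF := D.card_F
  have hq := D.torus.q_eq hF
  have hm7 := D.torus.m_ge
  -- the value at the involution
  choose z hz using fun (a : F) => (D.intCC_XU a).2
  set x : Cfsg.IrrCharacter G → ℤ := fun χ => ∑ a : F, z a χ with hxdef
  have hx : ∀ χ, (x χ : ℂ) = (χ : G → ℂ) D.t := by
    intro χ
    rw [← D.sum_cc_XU χ, hxdef]
    push_cast
    exact Finset.sum_congr rfl fun a _ => (hz a χ).symm
  have hvx : ∀ k, ∑ χ, v k χ * x χ = 4 * ((Fintype.card F : ℤ) - 1) := by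
    intro k
    have e : ∑ χ, D.cc (D.torus.PP (ν k)) χ * ∑ a : F, D.cc (XU a) χ =
        4 * ((Fintype.card F : ℂ) - 1) := by
      simp only [Finset.mul_sum]
      rw [Finset.sum_comm, Finset.sum_congr rfl fun a _ =>
        D.sum_cc_mul (D.intCC_PP (ν k)).1 (D.intCC_XU a).1]
      simp only [BB_comm (D.torus.PP (ν k)), D.torus.BB_XP hF, ← Finset.mul_sum]
      rw [Finset.sum_ite, Finset.sum_const_zero, zero_add, Finset.sum_const, nsmul_eq_mul,
        Finset.filter_ne', Finset.card_erase_of_mem (Finset.mem_univ _), Finset.card_univ,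
        Nat.cast_sub Fintype.card_pos, Nat.cast_one]
      ring
    simp only [hv', hz] at e
    simp only [hxdef]
    exact_mod_cast e
  have hwx : ∑ χ, tprod v χ * x χ = 0 := by
    have e : ∑ χ, (tprod v χ : ℂ) * (x χ : ℂ) = 0 := by
      simp only [hx, ← D.sum_cc_XU, Finset.mul_sum]
      rw [Finset.sum_comm]
      exact Finset.sum_eq_zero fun a _ => perpX a
    exact_mod_cast e
  obtain ⟨d₀, σ, hd0, hσ, hmain⟩ := T.exists_weighted hvx hwx
  set L := (Nat.card (PSL2 F) : ℂ) with hL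
  have hL0 : L ≠ 0 := Nat.cast_ne_zero.2 Nat.card_pos.ne'
  have hG0 : (Nat.card G : ℂ) ≠ 0 := Nat.cast_ne_zero.2 Nat.card_pos.ne'
  have hlhs : ∑ χ, (v 0 χ : ℂ) * (x χ : ℂ) ^ 2 / ((d χ : ℤ) : ℂ) =
      8 * L / (Nat.card G : ℂ) * (L * (4 * m - 1) / m) := by
    have e1 : ∀ χ, (v 0 χ : ℂ) * (x χ : ℂ) ^ 2 / ((d χ : ℤ) : ℂ) =
        ∑ y : PSL2 F, D.torus.PP (ν 0) y / L *
          ((χ : G → ℂ) D.t ^ 2 * (χ : G → ℂ) (D.t * D.ψ y) / (χ : G → ℂ) 1) := by
      intro χ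
      rw [← hv' 0 χ, hx χ, Int.cast_natCast, ← hd χ, cc, ← hL, Finset.sum_div, Finset.sum_mul,
        Finset.sum_div]
      exact Finset.sum_congr rfl fun y _ => by ring
    rw [Finset.sum_congr rfl fun χ _ => e1 χ, Finset.sum_comm]
    simp only [← Finset.mul_sum]
    rw [Finset.sum_congr rfl fun y _ => show _ =
        8 * L / (Nat.card G : ℂ) * (D.torus.PP (ν 0) y * (invCount y : ℂ)) from ?_,
      ← Finset.mul_sum, D.torus.sum_PP_invCount hF (ν 0) (hν1 0)]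
    by_cases h0 : D.torus.PP (ν 0) y = 0
    · rw [h0]; ring
    · rw [D.sum_sq_div ((D.intCC_PP (ν 0)).1.2 y h0), ← hL]
      field_simp
      ring
  rw [hlhs] at hmain
  have hm0 : (m : ℂ) ≠ 0 := Nat.cast_ne_zero.2 D.torus.m_pos.ne'
  have hd0' : (d₀ : ℂ) ≠ 0 := Int.cast_ne_zero.2 hd0.ne'
  have hq2 : (4 * m - 2 : ℂ) ^ 2 ≠ 0 := by
    refine pow_ne_zero _ ?_
    rw [sub_ne_zero]
    have : 4 * m ≠ 2 := by omega
    exact_mod_cast this
  push_cast at hmain
  rw [hq, hL, D.torus.card_psl hF] at hmain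
  field_simp at hmain
  have hkey : 4 * (m : ℂ) * (Fintype.card F : ℂ) ^ 3 * d₀ = σ * Nat.card G := by
    rw [hq]
    refine mul_left_cancel₀ hq2 ?_
    refine mul_left_cancel₀ hm0 ?_
    linear_combination (m : ℂ) * hmain
  have hkey' : 4 * (m : ℤ) * (Fintype.card F : ℤ) ^ 3 * d₀ = σ * Nat.card G := by exact_mod_cast hkey
  refine D.not_three_pow_dvd ((pow_dvd_pow 3 (show 2 * n + 2 ≤ (2 * n + 1) * 3 by omega)).trans ?_)
  rw [pow_mul, ← D.card_F]
  refine Int.natCast_dvd_natCast.1 ⟨σ * (4 * m * d₀), ?_⟩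
  push_cast
  linear_combination (-(σ : ℤ)) * hkey' + (-(Nat.card G : ℤ)) * hσ

end Ree

end Cfsg.Agent.GoldGroups11
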