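import Cfsg.Agent.GoldGroups11.Local
import Cfsg.Agent.InvChar68.CharTools
import Cfsg.Agent.Lib.CharInd.Basic
import Cfsg.Agent.Lib.CharCore.Basic

/-!
Coefficients on the section of the involution of a group of Ree type.
-/

set_option autoImplicit false
set_option linter.style.haveILetI false
set_option linter.unusedSectionVars false

open scoped ComplexConjugate

namespace Cfsg.Agent.GoldGroups11

open Cfsg.Agent.Dickson CharInd
open scoped MatrixGroups

section Linear

variable {S : Type*} [Group S]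

theorem isCharacter_linear [Finite S] (f : S →* ℂˣ) :
    Cfsg.IsCharacter S (fun s => ((f s : ℂˣ) : ℂ)) := by
  let ρ : Representation ℂ S ℂ :=
    ((algebraMap ℂ (Module.End ℂ ℂ)).toMonoidHom.comp (Units.coeHom ℂ)).comp f
  have h := CharCore.isCharacter_character ρ
  convert h using 1
  funext s
  show ((f s : ℂˣ) : ℂ) = LinearMap.trace ℂ ℂ (algebraMap ℂ (Module.End ℂ ℂ) ((f s : ℂˣ) : ℂ))
  rw [Algebra.algebraMap_eq_smul_one, map_smul, LinearMap.trace_one]
  simp

theorem conj_linear [Finite S] (f : S →* ℂˣ) (s : S) :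
    conj ((f s : ℂˣ) : ℂ) = ((f s⁻¹ : ℂˣ) : ℂ) :=
  (CharCore.IsCharacter.apply_inv (isCharacter_linear f) s).symm

/-- Orthogonality for a linear character. -/
theorem sum_linear [Fintype S] (f : S →* ℂˣ) [Decidable (f = 1)] :
    ∑ s : S, ((f s : ℂˣ) : ℂ) = if f = 1 then (Nat.card S : ℂ) else 0 := by
  split_ifs with h
  · subst h
    simp [Nat.card_eq_fintype_card]
  · obtain ⟨a, ha⟩ : ∃ a, f a ≠ 1 := by
      by_contra! hh
      exact h (MonoidHom.ext hh)
    have e : ((f a : ℂˣ) : ℂ) * ∑ s : S, ((f s : ℂˣ) : ℂ) = ∑ s : S, ((f s : ℂˣ) : ℂ) := by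
      rw [Finset.mul_sum]
      exact Fintype.sum_equiv (Equiv.mulLeft a) _ _ fun s => by simp
    have : (((f a : ℂˣ) : ℂ) - 1) * ∑ s : S, ((f s : ℂˣ) : ℂ) = 0 := by linear_combination e
    exact (mul_eq_zero.1 this).resolve_left (sub_ne_zero.2 fun h1 => ha (Units.ext h1))

end Linear

section Induced

variable {L : Type*} [Group L] [Fintype L]

/-- The symmetric pairing of functions. -/
noncomputable def BB (f g : L → ℂ) : ℂ := (∑ y : L, f y * g y⁻¹) / Nat.card L

theorem BB_add_left (f f' g : L → ℂ) : BB (f + f') g = BB f g + BB f' g := by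
  simp only [BB, Pi.add_apply, add_mul, Finset.sum_add_distrib, add_div]

theorem BB_smul_left (c : ℂ) (f g : L → ℂ) : BB (c • f) g = c * BB f g := by
  simp only [BB, Pi.smul_apply, smul_eq_mul, mul_assoc, ← Finset.mul_sum, mul_div_assoc]

theorem BB_comm (f g : L → ℂ) : BB f g = BB g f := by
  simp only [BB]
  congr 1
  exact Fintype.sum_equiv (Equiv.inv L) _ _ fun y => by simp [mul_comm]

theorem BB_neg_left (f g : L → ℂ) : BB (-f) g = -BB f g := by
  rw [← neg_one_smul ℂ f, BB_smul_left, neg_one_mul]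

theorem BB_sub_left (f f' g : L → ℂ) : BB (f - f') g = BB f g - BB f' g := by
  rw [sub_eq_add_neg, BB_add_left, BB_neg_left, ← sub_eq_add_neg]

theorem BB_add_right (f g g' : L → ℂ) : BB f (g + g') = BB f g + BB f g' := by
  rw [BB_comm, BB_add_left, BB_comm, BB_comm g' f]

theorem BB_sub_right (f g g' : L → ℂ) : BB f (g - g') = BB f g - BB f g' := by
  rw [BB_comm, BB_sub_left, BB_comm, BB_comm g' f]

theorem BB_smul_right (c : ℂ) (f g : L → ℂ) : BB f (c • g) = c * BB f g := by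
  rw [BB_comm, BB_smul_left, BB_comm]

theorem BB_sum_left {ι : Type*} (s : Finset ι) (f : ι → L → ℂ) (g : L → ℂ) :
    BB (∑ i ∈ s, f i) g = ∑ i ∈ s, BB (f i) g := by
  classical
  induction s using Finset.induction_on with
  | empty => simp [BB]
  | insert a s ha ih => rw [Finset.sum_insert ha, Finset.sum_insert ha, BB_add_left, ih]

theorem BB_sum_right {ι : Type*} (s : Finset ι) (f : L → ℂ) (g : ι → L → ℂ) :
    BB f (∑ i ∈ s, g i) = ∑ i ∈ s, BB f (g i) := by
  rw [BB_comm, BB_sum_left]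
  exact Finset.sum_congr rfl fun i _ => BB_comm _ _

theorem sum_indFun_mul (S : Subgroup L) [Fintype S] (θ : S → ℂ) {g : L → ℂ}
    (hg : Cfsg.IsClassFunction L g) :
    ∑ y : L, Cfsg.indFun S θ y * g y =
      (Nat.card L : ℂ) / Nat.card S * ∑ s : S, θ s * g s := by
  simp only [indFun_apply]
  rw [Finset.sum_congr rfl fun y _ => mul_assoc _ (∑ x : L, _) (g y), ← Finset.mul_sum,
    Finset.sum_congr rfl fun y _ => Finset.sum_mul _ _ (g y), Finset.sum_comm]
  have h : ∀ x : L, ∑ y : L, Cfsg.extendByZero S θ (x⁻¹ * y * x) * g y = ∑ s : S, θ s * g s := by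
    intro x
    rw [← sum_extendByZero_mul S θ g]
    refine Fintype.sum_equiv (MulAut.conj x⁻¹).toEquiv _ _ fun y => ?_
    simp only [MulEquiv.toEquiv_eq_coe, EquivLike.coe_coe, MulAut.conj_apply, inv_inv]
    congr 1
    have := hg y x⁻¹
    rw [inv_inv] at this
    exact this.symm
  simp only [h, Finset.sum_const, Finset.card_univ, nsmul_eq_mul, Fintype.card_eq_nat_card]
  field_simp

theorem BB_indFun (S : Subgroup L) [Fintype S] (θ : S → ℂ) {g : L → ℂ}
    (hg : Cfsg.IsClassFunction L g) :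
    BB (Cfsg.indFun S θ) g = (∑ s : S, θ s * g (s : L)⁻¹) / Nat.card S := by
  have hg' : Cfsg.IsClassFunction L fun y => g y⁻¹ := fun a b => by
    show g (b * a * b⁻¹)⁻¹ = g a⁻¹
    rw [show (b * a * b⁻¹)⁻¹ = b * a⁻¹ * b⁻¹ by group]
    exact hg a⁻¹ b
  rw [BB, sum_indFun_mul S θ hg']
  have : (Nat.card L : ℂ) ≠ 0 := Nat.cast_ne_zero.2 Nat.card_pos.ne'
  field_simp

/-- A class function supported on elements of odd order. -/
def OddClass (f : L → ℂ) : Prop :=
  Cfsg.IsClassFunction L f ∧ ∀ y, f y ≠ 0 → Odd (orderOf y)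

theorem oddClass_indFun (S : Subgroup L) (hS : Odd (Nat.card S)) (θ : S → ℂ) :
    OddClass (Cfsg.indFun S θ) := by
  refine ⟨isClassFunction_indFun S θ, fun y hy => ?_⟩
  by_contra hodd
  refine hy (indFun_eq_zero_of_forall_notMem S θ fun x hx => hodd ?_)
  have h1 : orderOf (x⁻¹ * y * x) ∣ Nat.card S := by
    rw [show orderOf (x⁻¹ * y * x) = orderOf (⟨_, hx⟩ : S) from Subgroup.orderOf_coe ⟨_, hx⟩]
    exact orderOf_dvd_natCard _
  rw [show x⁻¹ * y * x = MulAut.conj x⁻¹ y by simp, MulEquiv.orderOf_eq] at h1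
  exact hS.of_dvd_nat h1

theorem OddClass.add {f g : L → ℂ} (hf : OddClass f) (hg : OddClass g) : OddClass (f + g) :=
  ⟨fun a b => by simp only [Pi.add_apply, hf.1 a b, hg.1 a b], fun y hy => by
    by_contra h
    have h1 : f y = 0 := by_contra fun h' => h (hf.2 y h')
    have h2 : g y = 0 := by_contra fun h' => h (hg.2 y h')
    exact hy (by simp [h1, h2])⟩

theorem OddClass.smul {f : L → ℂ} (hf : OddClass f) (c : ℂ) : OddClass (c • f) :=
  ⟨fun a b => by simp only [Pi.smul_apply, hf.1 a b],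
    fun y hy => hf.2 y fun h => hy (by simp [h])⟩

theorem OddClass.sub {f g : L → ℂ} (hf : OddClass f) (hg : OddClass g) : OddClass (f - g) := by
  rw [sub_eq_add_neg, ← neg_one_smul ℂ g]
  exact hf.add (hg.smul _)

theorem oddClass_zero : OddClass (0 : L → ℂ) :=
  ⟨fun _ _ => rfl, fun _ h => absurd rfl h⟩

theorem OddClass.sum {ι : Type*} (s : Finset ι) {f : ι → L → ℂ} (hf : ∀ i ∈ s, OddClass (f i)) :
    OddClass (∑ i ∈ s, f i) :=
  Finset.sum_induction _ OddClass (fun _ _ => OddClass.add) oddClass_zero hf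

/-- The number of involutions inverting an element. -/
noncomputable def invCount (y : L) : ℕ :=
  Nat.card {k : L // orderOf k = 2 ∧ k * y * k⁻¹ = y⁻¹}

theorem invCount_inv (y : L) : invCount y⁻¹ = invCount y := by
  refine Nat.card_congr (Equiv.subtypeEquivRight fun k => and_congr_right fun _ => ?_)
  rw [← conj_inv, inv_inj]

theorem isClassFunction_invCount : Cfsg.IsClassFunction L fun y => (invCount y : ℂ) := by
  intro a b
  show ((invCount (b * a * b⁻¹) : ℕ) : ℂ) = invCount a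
  norm_cast
  refine Nat.card_congr (Equiv.subtypeEquiv (MulAut.conj b⁻¹).toEquiv fun k => ?_)
  simp only [MulEquiv.toEquiv_eq_coe, EquivLike.coe_coe, MulAut.conj_apply, inv_inv]
  refine and_congr ?_ ?_
  · rw [show b⁻¹ * k * b = MulAut.conj b⁻¹ k by simp, MulEquiv.orderOf_eq]
  constructor <;> intro h
  · calc b⁻¹ * k * b * a * (b⁻¹ * k * b)⁻¹ = b⁻¹ * (k * (b * a * b⁻¹) * k⁻¹) * b := by group
      _ = a⁻¹ := by rw [h]; group
  · calc k * (b * a * b⁻¹) * k⁻¹ = b * (b⁻¹ * k * b * a * (b⁻¹ * k * b)⁻¹) * b⁻¹ := by group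
      _ = (b * a * b⁻¹)⁻¹ := by rw [h]; group

end Induced

namespace Ree

variable {G : Type*} [Group G] [Fintype G] {F : Type*} [Field F] [Fintype F] {n m : ℕ}
  (D : Ree G F n m)
include D

theorem mul_tψ (a b : PSL2 F) : (D.t * D.ψ a) * (D.t * D.ψ b) = D.ψ (a * b) := by
  rw [mul_assoc, ← mul_assoc (D.ψ a), ← D.comm, mul_assoc, ← mul_assoc D.t, D.t_sq, one_mul, map_mul]

theorem ψ_mul_tψ (a b : PSL2 F) : D.ψ a * (D.t * D.ψ b) = D.t * D.ψ (a * b) := by
  rw [← mul_assoc, ← D.comm, mul_assoc, map_mul]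

/-- The coefficient of a character on the section of `t`. -/
noncomputable def cc [Fintype (PSL2 F)] (f : PSL2 F → ℂ) (χ : Cfsg.IrrCharacter G) : ℂ :=
  (∑ y : PSL2 F, f y * (χ : G → ℂ) (D.t * D.ψ y)) / Nat.card (PSL2 F)

variable [Fintype (PSL2 F)]

theorem cc_add (f g : PSL2 F → ℂ) (χ : Cfsg.IrrCharacter G) :
    D.cc (f + g) χ = D.cc f χ + D.cc g χ := by
  simp only [cc, Pi.add_apply, add_mul, Finset.sum_add_distrib, add_div]

theorem cc_smul (c : ℂ) (f : PSL2 F → ℂ) (χ : Cfsg.IrrCharacter G) :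
    D.cc (c • f) χ = c * D.cc f χ := by
  simp only [cc, Pi.smul_apply, smul_eq_mul, mul_assoc, ← Finset.mul_sum, mul_div_assoc]

theorem cc_sub (f g : PSL2 F → ℂ) (χ : Cfsg.IrrCharacter G) :
    D.cc (f - g) χ = D.cc f χ - D.cc g χ := by
  rw [sub_eq_add_neg, ← neg_one_smul ℂ g, cc_add, cc_smul, neg_one_mul, ← sub_eq_add_neg]

theorem cc_sum {ι : Type*} (s : Finset ι) (f : ι → PSL2 F → ℂ) (χ : Cfsg.IrrCharacter G) :
    D.cc (∑ i ∈ s, f i) χ = ∑ i ∈ s, D.cc (f i) χ := by
  classical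
  induction s using Finset.induction_on with
  | empty => simp [cc]
  | insert a s ha ih => rw [Finset.sum_insert ha, Finset.sum_insert ha, cc_add, ih]

theorem tψ_inv (y : PSL2 F) : (D.t * D.ψ y)⁻¹ = D.t * D.ψ y⁻¹ := by
  rw [mul_inv_rev, D.t_inv, map_inv, ← map_inv, D.comm]

theorem tψ_ne_one (y : PSL2 F) : D.t * D.ψ y ≠ 1 := fun h =>
  D.tψ_not_range (h.trans (map_one D.ψ).symm)

theorem conj_t_of_conj {a b : PSL2 F} (ha : Odd (orderOf a)) (hb : Odd (orderOf b)) {x : G}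
    (hx : x * (D.t * D.ψ a) * x⁻¹ = D.t * D.ψ b) : x * D.t * x⁻¹ = D.t := by
  have hk : Odd (orderOf a * orderOf b) := ha.mul hb
  have e := congrArg (· ^ (orderOf a * orderOf b)) hx
  simp only [conj_pow, D.tψ_pow_odd hk] at e
  rwa [orderOf_dvd_iff_pow_eq_one.1 (dvd_mul_right (orderOf a) (orderOf b)),
    orderOf_dvd_iff_pow_eq_one.1 (dvd_mul_left (orderOf b) (orderOf a)), map_one, mul_one] at e

theorem isConj_tψ_iff {a b : PSL2 F} (ha : Odd (orderOf a)) (hb : Odd (orderOf b)) :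
    IsConj (D.t * D.ψ a) (D.t * D.ψ b) ↔ IsConj a b := by
  constructor
  · intro h
    obtain ⟨x, hx⟩ := isConj_iff.1 h
    have hxt := D.conj_t_of_conj ha hb hx
    obtain ⟨y, hy | hy⟩ := D.cent x (mul_inv_eq_iff_eq_mul.1 hxt)
    · refine isConj_iff.2 ⟨y, D.inj (mul_left_cancel (a := D.t) ?_)⟩
      rw [← hx, hy, map_mul, map_mul, map_inv, ← mul_assoc (D.ψ y), ← D.comm]
      group
    · refine isConj_iff.2 ⟨y, D.inj (mul_left_cancel (a := D.t) ?_)⟩
      have hz : D.t * D.ψ y * (D.t * D.ψ a) * (D.t * D.ψ y)⁻¹ =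
          D.t * (D.t * (D.ψ y * D.ψ a * (D.ψ y)⁻¹)) * D.t⁻¹ := by
        rw [← mul_assoc (D.t * D.ψ y) D.t, mul_assoc D.t (D.ψ y) D.t, ← D.comm]
        group
      rw [← hx, hy, hz, map_mul, map_mul, map_inv]
      have hc : Commute D.t (D.ψ y * D.ψ a * (D.ψ y)⁻¹) := by
        rw [← map_inv, ← map_mul, ← map_mul]; exact D.comm _
      rw [mul_assoc D.t (D.t * _) D.t⁻¹, mul_assoc D.t (D.ψ y * D.ψ a * (D.ψ y)⁻¹) D.t⁻¹,
        hc.inv_left.symm.eq, ← mul_assoc D.t D.t⁻¹, mul_inv_cancel, one_mul]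
  · intro h
    obtain ⟨y, hy⟩ := isConj_iff.1 h
    refine isConj_iff.2 ⟨D.ψ y, ?_⟩
    rw [← hy, map_mul, map_mul, map_inv, ← mul_assoc (D.ψ y), ← D.comm]
    group

theorem card_centralizer_tψ {a : PSL2 F} (ha : Odd (orderOf a)) :
    Nat.card (Subgroup.centralizer ({D.t * D.ψ a} : Set G)) =
      2 * Nat.card (Subgroup.centralizer ({a} : Set (PSL2 F))) := by
  classical
  have hmem : ∀ y ∈ Subgroup.centralizer ({a} : Set (PSL2 F)),
      D.ψ y ∈ Subgroup.centralizer ({D.t * D.ψ a} : Set G) ∧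
      D.t * D.ψ y ∈ Subgroup.centralizer ({D.t * D.ψ a} : Set G) := by
    intro y hy
    have h1 : Commute (D.ψ y) (D.t * D.ψ a) :=
      Commute.mul_right (D.comm y).symm
        ((show Commute y a from Subgroup.mem_centralizer_singleton_iff.1 hy).map D.ψ)
    have h2 : Commute D.t (D.t * D.ψ a) := (Commute.refl D.t).mul_right (D.comm a)
    exact ⟨Subgroup.mem_centralizer_singleton_iff.2 h1,
      Subgroup.mem_centralizer_singleton_iff.2 (h2.mul_left h1)⟩
  have hb : Function.Bijective (fun p : Fin 2 × Subgroup.centralizer ({a} : Set (PSL2 F)) =>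
      (⟨if p.1 = 0 then D.ψ p.2 else D.t * D.ψ p.2, by
        split_ifs
        · exact (hmem _ p.2.2).1
        · exact (hmem _ p.2.2).2⟩ : Subgroup.centralizer ({D.t * D.ψ a} : Set G))) := by
    constructor
    · rintro ⟨i, y⟩ ⟨j, z⟩ h
      have h' := congrArg Subtype.val h
      fin_cases i <;> fin_cases j <;> simp only [Fin.zero_eta, Fin.mk_one, if_pos,
        if_neg (show ¬ (1 : Fin 2) = 0 by decide)] at h'
      · rw [Subtype.ext (D.inj h')]
      · exact absurd h'.symm D.tψ_not_range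
      · exact absurd h' D.tψ_not_range
      · rw [Subtype.ext (D.inj (mul_left_cancel h'))]
    · rintro ⟨x, hx⟩
      have hx' := Subgroup.mem_centralizer_singleton_iff.1 hx
      have hxt := D.conj_t_of_conj ha ha (x := x) (by rw [hx', mul_inv_cancel_right])
      have hxtc : Commute x D.t := mul_inv_eq_iff_eq_mul.1 hxt
      have hxa : Commute x (D.ψ a) := by
        have := hxtc.inv_right.mul_right (show Commute x (D.t * D.ψ a) from hx')
        rwa [inv_mul_cancel_left] at this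
      obtain ⟨y, hy | hy⟩ := D.cent x hxtc
      · refine ⟨(0, ⟨y, Subgroup.mem_centralizer_singleton_iff.2 (D.inj ?_)⟩),
          Subtype.ext (by simp [hy])⟩
        rw [map_mul, map_mul, ← hy]; exact hxa
      · refine ⟨(1, ⟨y, Subgroup.mem_centralizer_singleton_iff.2 (D.inj ?_)⟩),
          Subtype.ext (by simp [hy])⟩
        rw [map_mul, map_mul]
        have hca : Commute D.t (D.ψ a) := D.comm a
        have := hca.inv_left.mul_left (hy ▸ hxa)
        rwa [inv_mul_cancel_left] at this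
  rw [← Nat.card_eq_of_bijective _ hb, Nat.card_prod]
  simp

/-- The isometry. -/
theorem sum_cc_mul {f g : PSL2 F → ℂ} (hf : OddClass f) (hg : OddClass g) :
    ∑ χ : Cfsg.IrrCharacter G, D.cc f χ * D.cc g χ = 2 * BB f g := by
  classical
  set c := (Nat.card (PSL2 F) : ℂ) with hc
  have hc0 : c ≠ 0 := Nat.cast_ne_zero.2 Nat.card_pos.ne'
  have key : ∀ a : PSL2 F, f a ≠ 0 →
      ∑ b : PSL2 F, g b * ∑ χ : Cfsg.IrrCharacter G,
        (χ : G → ℂ) (D.t * D.ψ a) * (χ : G → ℂ) (D.t * D.ψ b) = 2 * c * g a⁻¹ := by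
    intro a ha
    have hao := hf.2 a ha
    have hone : ∀ b : PSL2 F, g b * ∑ χ : Cfsg.IrrCharacter G,
        (χ : G → ℂ) (D.t * D.ψ a) * (χ : G → ℂ) (D.t * D.ψ b) =
        if IsConj a b⁻¹ then
          g a⁻¹ * (2 * (Nat.card (Subgroup.centralizer ({a} : Set (PSL2 F))) : ℂ)) else 0 := by
      intro b
      by_cases hb : g b = 0
      · rw [hb, zero_mul]
        split_ifs with h
        · obtain ⟨k, hk⟩ := isConj_iff.1 h
          have : g a⁻¹ = 0 := by
            rw [← hg.1 a⁻¹ k, show k * a⁻¹ * k⁻¹ = (k * a * k⁻¹)⁻¹ by group, hk, inv_inv, hb]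
          rw [this, zero_mul]
        · rfl
      have hbo : Odd (orderOf b⁻¹) := by rw [orderOf_inv]; exact hg.2 b hb
      have hval : ∀ χ : Cfsg.IrrCharacter G,
          (χ : G → ℂ) (D.t * D.ψ b) = conj ((χ : G → ℂ) (D.t * D.ψ b⁻¹)) := by
        intro χ
        rw [← D.tψ_inv, CharCore.irr_apply_inv, Complex.conj_conj]
      rw [Finset.sum_congr rfl fun χ _ => by rw [hval χ]]
      split_ifs with h
      · obtain ⟨k, hk⟩ := isConj_iff.1 h
        have hgab : g b = g a⁻¹ := by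
          rw [← hg.1 a⁻¹ k, show k * a⁻¹ * k⁻¹ = (k * a * k⁻¹)⁻¹ by group, hk, inv_inv]
        obtain ⟨x, hx⟩ := isConj_iff.1 ((D.isConj_tψ_iff hao hbo).2 h)
        have hsame : ∀ χ : Cfsg.IrrCharacter G,
            (χ : G → ℂ) (D.t * D.ψ b⁻¹) = (χ : G → ℂ) (D.t * D.ψ a) := fun χ => by
          rw [← hx]; exact CharCore.irr_isClassFunction χ _ _
        rw [Finset.sum_congr rfl fun χ _ => by rw [hsame χ], InvChar68.sum_mul_conj_self, hgab,
          D.card_centralizer_tψ hao]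
        push_cast
        ring
      · rw [InvChar68.sum_mul_conj_eq_zero fun h' => h ((D.isConj_tψ_iff hao hbo).1 h'), mul_zero]
    rw [Finset.sum_congr rfl fun b _ => hone b, ← Finset.sum_filter, Finset.sum_const, nsmul_eq_mul]
    have hcard : (Finset.univ.filter fun b : PSL2 F => IsConj a b⁻¹).card =
        Nat.card {z : PSL2 F // IsConj a z} := by
      rw [← Fintype.card_subtype, ← Nat.card_eq_fintype_card]
      exact Nat.card_congr (Equiv.subtypeEquiv (Equiv.inv _) fun b => Iff.rfl)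
    have h2 := InvChar68.card_isConj_mul_card_centralizer a
    have h2' : (Nat.card {z : PSL2 F // IsConj a z} : ℂ) *
        (Nat.card (Subgroup.centralizer ({a} : Set (PSL2 F))) : ℂ) = c := by
      rw [hc, ← h2, Nat.cast_mul]
    rw [hcard]
    linear_combination (2 * g a⁻¹) * h2'
  have hexp : ∑ χ : Cfsg.IrrCharacter G, D.cc f χ * D.cc g χ =
      (∑ a : PSL2 F, f a * ∑ b : PSL2 F, g b * ∑ χ : Cfsg.IrrCharacter G,
        (χ : G → ℂ) (D.t * D.ψ a) * (χ : G → ℂ) (D.t * D.ψ b)) / c ^ 2 := by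
    have h1 : ∀ χ : Cfsg.IrrCharacter G, D.cc f χ * D.cc g χ =
        (∑ a : PSL2 F, ∑ b : PSL2 F,
          f a * (g b * ((χ : G → ℂ) (D.t * D.ψ a) * (χ : G → ℂ) (D.t * D.ψ b)))) / c ^ 2 := by
      intro χ
      rw [cc, cc, ← hc, div_mul_div_comm, Finset.sum_mul_sum, pow_two]
      congr 1
      exact Finset.sum_congr rfl fun a _ => Finset.sum_congr rfl fun b _ => by ring
    rw [Finset.sum_congr rfl fun χ _ => h1 χ, ← Finset.sum_div]
    congr 1
    rw [Finset.sum_comm]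
    refine Finset.sum_congr rfl fun a _ => ?_
    rw [Finset.sum_comm, Finset.mul_sum]
    refine Finset.sum_congr rfl fun b _ => ?_
    rw [Finset.mul_sum, Finset.mul_sum]
  rw [hexp, BB, ← hc]
  have : ∀ a : PSL2 F, f a * ∑ b : PSL2 F, g b * ∑ χ : Cfsg.IrrCharacter G,
      (χ : G → ℂ) (D.t * D.ψ a) * (χ : G → ℂ) (D.t * D.ψ b) = 2 * c * (f a * g a⁻¹) := by
    intro a
    by_cases ha : f a = 0
    · simp [ha]
    · rw [key a ha]; ring
  rw [Finset.sum_congr rfl fun a _ => this a, ← Finset.mul_sum]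
  field_simp

/-- The degrees are orthogonal to every coefficient vector. -/
theorem sum_deg_cc (f : PSL2 F → ℂ) (d : Cfsg.IrrCharacter G → ℕ)
    (hd : ∀ χ : Cfsg.IrrCharacter G, (χ : G → ℂ) 1 = d χ) :
    ∑ χ : Cfsg.IrrCharacter G, (d χ : ℂ) * D.cc f χ = 0 := by
  simp only [cc, ← mul_div_assoc, Finset.mul_sum, ← Finset.sum_div]
  rw [Finset.sum_comm, Finset.sum_eq_zero, zero_div]
  intro y _
  rw [Finset.sum_congr rfl fun χ _ => mul_left_comm (d χ : ℂ) (f y) _, ← Finset.mul_sum,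
    InvChar68.sum_degree_mul_eq_zero d hd (D.tψ_ne_one y), mul_zero]

theorem isClassFunction_section (χ : Cfsg.IrrCharacter G) :
    Cfsg.IsClassFunction (PSL2 F) fun y => (χ : G → ℂ) (D.t * D.ψ y) := by
  intro a b
  show (χ : G → ℂ) (D.t * D.ψ (b * a * b⁻¹)) = _
  rw [show D.t * D.ψ (b * a * b⁻¹) = D.ψ b * (D.t * D.ψ a) * (D.ψ b)⁻¹ by
    rw [map_mul, map_mul, map_inv, ← mul_assoc (D.ψ b) D.t, ← D.comm]; group]
  exact CharCore.irr_isClassFunction χ _ _

theorem cc_indFun (S : Subgroup (PSL2 F)) [Fintype S] (θ : S → ℂ) (χ : Cfsg.IrrCharacter G) :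
    D.cc (Cfsg.indFun S θ) χ =
      (∑ s : S, θ s * (χ : G → ℂ) (D.t * D.ψ s)) / Nat.card S := by
  rw [cc, sum_indFun_mul S θ (D.isClassFunction_section χ)]
  have : (Nat.card (PSL2 F) : ℂ) ≠ 0 := Nat.cast_ne_zero.2 Nat.card_pos.ne'
  field_simp

/-- The multiplicities of a linear character on the two eigenspaces of `t`. -/
theorem exists_multiplicities (S : Subgroup (PSL2 F)) [Fintype S] (θ : S →* ℂˣ)
    (χ : Cfsg.IrrCharacter G) :
    ∃ a b : ℕ, (∑ s : S, ((θ s : ℂˣ) : ℂ) * (χ : G → ℂ) (D.t * D.ψ s)) / Nat.card S = (a : ℂ) - b ∧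
      (∑ s : S, ((θ s : ℂˣ) : ℂ) * (χ : G → ℂ) (D.ψ s)) / Nat.card S = (a : ℂ) + b := by
  classical
  let ε : ℤˣ →* G := MonoidHom.mk' (fun u => if u = 1 then 1 else D.t) fun u v => by
    rcases Int.units_eq_one_or u with rfl | rfl <;> rcases Int.units_eq_one_or v with rfl | rfl <;>
      simp [D.t_sq]
  let Φ : ℤˣ × S →* G := MonoidHom.noncommCoprod ε (D.ψ.comp S.subtype) fun u s => by
    show ε u * D.ψ s = D.ψ s * ε u
    rcases Int.units_eq_one_or u with rfl | rfl
    · simp [ε]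
    · simpa [ε] using D.comm s
  have hΦ : Cfsg.IsCharacter (ℤˣ × S) (fun p => (χ : G → ℂ) (Φ p)) :=
    CharCore.isCharacter_comp (CharCore.irr_isCharacter χ) Φ
  let sgn : ℤˣ →* ℂˣ := Units.map (Int.castRingHom ℂ).toMonoidHom
  let f0 : ℤˣ × S →* ℂˣ := θ⁻¹.comp (MonoidHom.snd ℤˣ S)
  let f1 : ℤˣ × S →* ℂˣ := (sgn.comp (MonoidHom.fst ℤˣ S)) * f0
  obtain ⟨a, ha⟩ := CharCore.IsCharacter.exists_classInner_eq_natCast hΦ (isCharacter_linear f0)
  obtain ⟨b, hb⟩ := CharCore.IsCharacter.exists_classInner_eq_natCast hΦ (isCharacter_linear f1)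
  have hS : (Nat.card S : ℂ) ≠ 0 := Nat.cast_ne_zero.2 Nat.card_pos.ne'
  have huniv : (Finset.univ : Finset ℤˣ) = {1, -1} := by decide
  have h0 : ∀ p : ℤˣ × S, conj ((f0 p : ℂˣ) : ℂ) = ((θ p.2 : ℂˣ) : ℂ) := fun p => by
    rw [conj_linear]; simp [f0]
  have h1 : ∀ p : ℤˣ × S, conj ((f1 p : ℂˣ) : ℂ) = ((p.1 : ℤ) : ℂ) * ((θ p.2 : ℂˣ) : ℂ) := fun p => by
    rw [conj_linear]
    rcases Int.units_eq_one_or p.1 with h | h <;> simp [f1, f0, sgn, h]
  have hv1 : ∀ s : S, Φ (1, s) = D.ψ s := fun s => by simp [Φ, ε]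
  have hvm : ∀ s : S, Φ (-1, s) = D.t * D.ψ s := fun s => by simp [Φ, ε]
  rw [CharCore.classInner_def] at ha hb
  have hcd : (Nat.card (ℤˣ × S) : ℂ) = 2 * (Nat.card S : ℂ) := by
    rw [Nat.card_prod, Nat.card_eq_fintype_card, Fintype.card_units_int]; push_cast; ring
  rw [hcd] at ha hb
  simp only [h0, h1, Fintype.sum_prod_type, huniv, Finset.sum_pair (show (1 : ℤˣ) ≠ -1 by decide),
    hv1, hvm,
    Units.val_one, Units.val_neg, Int.cast_one, Int.cast_neg, one_mul, neg_mul, mul_neg,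
    Finset.sum_neg_distrib] at ha hb
  refine ⟨a, b, ?_, ?_⟩
  · rw [← ha, ← hb, Finset.sum_congr rfl fun s _ => mul_comm ((θ s : ℂˣ) : ℂ) _]
    push_cast
    field_simp
    ring
  · rw [← ha, ← hb, Finset.sum_congr rfl fun s _ => mul_comm ((θ s : ℂˣ) : ℂ) _]
    push_cast
    field_simp
    ring

/-- Coefficient vectors of generalised characters are integral. -/
theorem exists_int_cc_indFun (S : Subgroup (PSL2 F)) (θ : S →* ℂˣ) (χ : Cfsg.IrrCharacter G) :
    ∃ z : ℤ, D.cc (Cfsg.indFun S fun s => ((θ s : ℂˣ) : ℂ)) χ = z := by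
  letI : Fintype S := Fintype.ofFinite S
  obtain ⟨a, b, h1, -⟩ := D.exists_multiplicities S θ χ
  exact ⟨(a : ℤ) - b, by rw [D.cc_indFun, h1]; push_cast; ring⟩

/-- The class multiplication coefficient. -/
theorem sum_sq_div {y : PSL2 F} (hy : Odd (orderOf y)) :
    ∑ χ : Cfsg.IrrCharacter G, (χ : G → ℂ) D.t ^ 2 * (χ : G → ℂ) (D.t * D.ψ y) / (χ : G → ℂ) 1 =
      2 * (invCount y : ℂ) * (2 * (Nat.card (PSL2 F) : ℂ)) ^ 2 / Nat.card G := by
  classical
  have hy' : Odd (orderOf y⁻¹) := by rw [orderOf_inv]; exact hy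
  set g := D.t * D.ψ y⁻¹ with hg
  have hN : Nat.card {p : G × G // IsConj D.t p.1 ∧ IsConj D.t p.2 ∧ p.1 * p.2 = g} =
      2 * invCount y := by
    rw [← invCount_inv y, invCount]
    have hord : ∀ x : G, IsConj D.t x ↔ orderOf x = 2 := fun x => ⟨fun h => by
      obtain ⟨c, hc⟩ := isConj_iff.1 h
      rw [← hc, D.orderOf_conj, D.t_order], D.isConj_t⟩
    have ho2 : ∀ {x : G}, x * x = 1 → x ≠ 1 → orderOf x = 2 := fun h h' =>
      orderOf_eq_prime (by rw [pow_two, h]) h'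
    have hkk : ∀ k : {k : PSL2 F // orderOf k = 2 ∧ k * y⁻¹ * k⁻¹ = y⁻¹⁻¹},
        (k.1 * k.1 = 1 ∧ (k.1 * y⁻¹) * (k.1 * y⁻¹) = 1 ∧ k.1 * y⁻¹ ≠ 1) := by
      rintro ⟨k, hk2, hk⟩
      have h2 : k * k = 1 := by rw [← pow_two]; exact orderOf_dvd_iff_pow_eq_one.1 hk2.dvd
      refine ⟨h2, ?_, fun e => ?_⟩
      · calc k * y⁻¹ * (k * y⁻¹) = (k * y⁻¹ * k⁻¹) * (k * k) * y⁻¹ := by group
          _ = 1 := by rw [hk, h2]; group
      · have e' : k = y⁻¹⁻¹ := eq_inv_of_mul_eq_one_left e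
        rw [e', inv_inv] at hk2
        rw [hk2] at hy
        exact absurd hy (by decide)
    let f : Fin 2 × {k : PSL2 F // orderOf k = 2 ∧ k * y⁻¹ * k⁻¹ = y⁻¹⁻¹} →
        {p : G × G // IsConj D.t p.1 ∧ IsConj D.t p.2 ∧ p.1 * p.2 = g} := fun a =>
      ⟨(if a.1 = 0 then D.ψ a.2 else D.t * D.ψ a.2,
        if a.1 = 0 then D.t * D.ψ (a.2.1 * y⁻¹) else D.ψ (a.2.1 * y⁻¹)), by
        obtain ⟨h2, h3, h4⟩ := hkk a.2
        have n1 : D.ψ a.2.1 ≠ 1 := fun e => by
          have := a.2.2.1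
          rw [D.inj (e.trans (map_one D.ψ).symm), orderOf_one] at this
          omega
        have n3 : D.ψ (a.2.1 * y⁻¹) ≠ 1 := fun e => h4 (D.inj (e.trans (map_one D.ψ).symm))
        have hct : D.ψ a.2.1 * D.t = D.t * D.ψ a.2.1 := (D.comm _).symm
        have hk2 : D.ψ a.2.1 * D.ψ a.2.1 = 1 := by rw [← map_mul, h2, map_one]
        split_ifs with hi
        · refine ⟨(hord _).2 (ho2 hk2 n1),
            (hord _).2 (ho2 (by rw [D.mul_t, h3, map_one]) (D.tψ_ne_one _)), ?_⟩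
          show D.ψ a.2.1 * (D.t * D.ψ (a.2.1 * y⁻¹)) = g
          rw [← mul_assoc, hct, mul_assoc, ← map_mul, ← mul_assoc, h2, one_mul]
        · refine ⟨(hord _).2 (ho2 (by rw [D.mul_t, h2, map_one]) (D.tψ_ne_one _)),
            (hord _).2 (ho2 (by rw [← map_mul, h3, map_one]) n3), ?_⟩
          show D.t * D.ψ a.2.1 * D.ψ (a.2.1 * y⁻¹) = g
          rw [mul_assoc, ← map_mul, ← mul_assoc a.2.1, h2, one_mul]⟩
    have hb : Function.Bijective f := by
      constructor
      · rintro ⟨i, k⟩ ⟨j, k'⟩ h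
        have h' := congrArg (fun p : {p : G × G // _} => p.1.1) h
        fin_cases i <;> fin_cases j <;> simp only [f, Fin.zero_eta, Fin.mk_one, if_pos,
          if_neg (show ¬ (1 : Fin 2) = 0 by decide)] at h'
        · rw [Subtype.ext (D.inj h')]
        · exact absurd h'.symm D.tψ_not_range
        · exact absurd h' D.tψ_not_range
        · rw [Subtype.ext (D.inj (mul_left_cancel h'))]
      · rintro ⟨⟨u, v⟩, hu, hv, huv⟩
        have hu2 : u * u = 1 := by rw [← pow_two]; exact orderOf_dvd_iff_pow_eq_one.1 ((hord u).1 hu).dvd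
        have hv2 : v * v = 1 := by rw [← pow_two]; exact orderOf_dvd_iff_pow_eq_one.1 ((hord v).1 hv).dvd
        have hvg : v = u * g := by rw [← huv, ← mul_assoc, hu2, one_mul]
        have hug : u * g * u⁻¹ = g⁻¹ := by
          refine eq_inv_of_mul_eq_one_left ?_
          rw [inv_eq_of_mul_eq_one_left hu2, mul_assoc (u * g), ← hvg]
          exact hv2
        have hut : u * D.t * u⁻¹ = D.t := by
          refine D.conj_t_of_conj hy' (b := y) hy ?_
          rw [hug, hg, D.tψ_inv, inv_inv]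
        obtain ⟨k, hk | hk⟩ := D.cent u (mul_inv_eq_iff_eq_mul.1 hut)
        · have hk2 : k * k = 1 := D.inj (by rw [map_mul, ← hk, hu2, map_one])
          have hk1 : k ≠ 1 := fun e => by
            have := (hord u).1 hu
            rw [hk, e, map_one, orderOf_one] at this
            omega
          have hinv : k * y⁻¹ * k⁻¹ = y⁻¹⁻¹ := by
            refine D.inj (mul_left_cancel (a := D.t) ?_)
            rw [← D.tψ_inv, ← hg, ← hug, hk, hg, map_mul, map_mul, map_inv D.ψ k,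
              ← mul_assoc (D.ψ k), ← D.comm]
            group
          refine ⟨(0, ⟨k, orderOf_eq_prime (by rw [pow_two, hk2]) hk1, hinv⟩), ?_⟩
          refine Subtype.ext (Prod.ext ?_ ?_)
          · simp [f, hk]
          · simp only [f, if_pos]
            rw [hvg, hk, hg, ← mul_assoc, ← D.comm, mul_assoc, map_mul]
        · have hk2 : k * k = 1 := D.inj (by
            rw [← D.mul_t, ← hk, hu2, map_one])
          have hinv : k * y⁻¹ * k⁻¹ = y⁻¹⁻¹ := by
            refine D.inj (mul_left_cancel (a := D.t) ?_)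
            rw [← D.tψ_inv, ← hg, ← hug, hk, hg, D.mul_tψ, D.tψ_inv, D.ψ_mul_tψ]
          have hk1 : k ≠ 1 := fun e => by
            rw [e, inv_one, mul_one, one_mul, inv_inv] at hinv
            have hy2 : orderOf y ∣ 2 := orderOf_dvd_of_pow_eq_one (by
              rw [pow_two]; nth_rw 1 [← hinv]; exact inv_mul_cancel y)
            have hy1 : y = 1 := by
              rcases (Nat.dvd_prime Nat.prime_two).1 hy2 with h | h
              · exact orderOf_eq_one_iff.1 h
              · rw [h] at hy; exact absurd hy (by decide)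
            have hv1 : v = 1 := by
              rw [hvg, hk, hg, hy1, e, inv_one, map_one, mul_one, D.t_sq]
            have := (hord v).1 hv
            rw [hv1, orderOf_one] at this
            omega
          refine ⟨(1, ⟨k, orderOf_eq_prime (by rw [pow_two, hk2]) hk1, hinv⟩), ?_⟩
          refine Subtype.ext (Prod.ext ?_ ?_)
          · simp [f, hk]
          · simp only [f, if_neg (show ¬ (1 : Fin 2) = 0 by decide)]
            rw [hvg, hk, hg, mul_assoc D.t (D.ψ k), ← mul_assoc (D.ψ k) D.t, ← D.comm, mul_assoc,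
              ← mul_assoc D.t, D.t_sq, one_mul, map_mul]
    rw [← Nat.card_eq_of_bijective f hb, Nat.card_prod]
    simp
  have h := InvChar68.card_pairs_mul_card D.t g
  rw [hN] at h
  have hval : ∀ χ : Cfsg.IrrCharacter G, conj ((χ : G → ℂ) g) = (χ : G → ℂ) (D.t * D.ψ y) := by
    intro χ
    rw [hg, ← D.tψ_inv, CharCore.irr_apply_inv, Complex.conj_conj]
  simp only [hval] at h
  have hcl := InvChar68.card_isConj_mul_card_centralizer D.t
  rw [D.card_C] at hcl
  have hG0 : (Nat.card G : ℂ) ≠ 0 := Nat.cast_ne_zero.2 Nat.card_pos.ne'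
  have hcl' : (Nat.card {x : G // IsConj D.t x} : ℂ) * (2 * (Nat.card (PSL2 F) : ℂ)) = Nat.card G := by
    rw [← hcl]; push_cast; ring
  set S := ∑ χ : Cfsg.IrrCharacter G,
    (χ : G → ℂ) D.t ^ 2 * (χ : G → ℂ) (D.t * D.ψ y) / (χ : G → ℂ) 1
  set κ := (Nat.card {x : G // IsConj D.t x} : ℂ)
  set c := (Nat.card (PSL2 F) : ℂ)
  push_cast at h
  rw [eq_div_iff hG0]
  have h3 : S * (Nat.card G : ℂ) ^ 2 = 2 * (invCount y : ℂ) * (2 * c) ^ 2 * Nat.card G := by
    linear_combination (-(S * ((Nat.card G : ℂ) + κ * (2 * c)))) * hcl' - (2 * c) ^ 2 * h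
  refine mul_right_cancel₀ hG0 ?_
  linear_combination h3

end Ree

end Cfsg.Agent.GoldGroups11
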