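import Cfsg.Agent.GoldGroups11.Basic
import Cfsg.Agent.LocalEven61.UnitaryQdFree
import Cfsg.Agent.Lib.Unitary.Center
import Mathlib.LinearAlgebra.Matrix.Permutation

/-!
The sections `S₃` and `S₄` in `SU₃(q)` and `PSU₃(q)` in characteristic two.
-/

set_option autoImplicit false
set_option linter.style.haveILetI false

namespace Cfsg.Agent.GoldGroups11

open Matrix Cfsg.Agent.Unitary Cfsg.Agent.LocalEven61
open Cfsg.Agent.AutPSU (HPair Orth2 prj eq_prj orth2_prj piU)
open Cfsg.Agent.LocalEven61.UnitaryQdFree (exists_third exists_iso_fixed fixed_iso_unique)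
open scoped MatrixGroups

universe u

variable {q : ℕ} {F : Type u} [Field F] [Fintype F] (hF : Fintype.card F = q ^ 2)

include hF

theorem su_not_involves_perm4 [CharP F 2] :
    ¬ Cfsg.Involves (Equiv.Perm (Fin 4)) (SU 3 F q) := by
  classical
  haveI : Fact (Nat.Prime 2) := ⟨Nat.prime_two⟩
  intro hinv
  obtain ⟨H, φ, hφ⟩ := exists_surjective_of_involves hinv
  set V := pairingHom.ker with hV
  have hVp : IsPGroup 2 V := isPGroup_pairingHom_ker
  set E₀ := V.comap φ with hE₀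
  haveI : E₀.Normal := Subgroup.Normal.comap inferInstance φ
  obtain ⟨P⟩ : Nonempty (Sylow 2 E₀) := inferInstance
  let P' : Subgroup H := (P : Subgroup E₀).map E₀.subtype
  have hsup : Subgroup.normalizer (P' : Set H) ⊔ E₀ = ⊤ := Sylow.normalizer_sup_eq_top P
  let ψ : E₀ →* V := φ.subgroupComap V
  have hψ : Function.Surjective ψ := fun v => by
    obtain ⟨x, hx⟩ := hφ (v : Equiv.Perm (Fin 4))
    exact ⟨⟨x, show φ x ∈ V from hx ▸ v.2⟩, Subtype.ext hx⟩
  have hPV : ((P.mapSurjective hψ : Sylow 2 V) : Subgroup V) = ⊤ :=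
    ((P.mapSurjective hψ).3 (hVp.of_injective (⊤ : Subgroup V).subtype (⊤ : Subgroup V).subtype_injective)
      le_top).symm
  have hVim : ∀ v ∈ V, ∃ x ∈ P', φ x = v := fun v hv => by
    obtain ⟨y, hy, hyv⟩ : (⟨v, hv⟩ : V) ∈ (P : Subgroup E₀).map ψ :=
      (show (P : Subgroup E₀).map ψ = ⊤ from hPV) ▸ Subgroup.mem_top _
    exact ⟨_, ⟨y, hy, rfl⟩, congrArg Subtype.val hyv⟩
  have hsurjN : ∀ y, ∃ x ∈ Subgroup.normalizer (P' : Set H), φ x = y := fun y => by
    obtain ⟨h, rfl⟩ := hφ y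
    obtain ⟨a, ha, b, hb, rfl⟩ := Subgroup.mem_sup_of_normal_right.1
      (show h ∈ Subgroup.normalizer (P' : Set H) ⊔ E₀ from hsup ▸ Subgroup.mem_top h)
    obtain ⟨x, hx, hxb⟩ := hVim _ hb
    exact ⟨a * x, mul_mem ha (Subgroup.le_normalizer hx), by rw [map_mul, hxb, map_mul]⟩
  set E : Subgroup (SU 3 F q) := P'.map H.subtype with hE
  have hEp : IsPGroup 2 E := (P.2.map E₀.subtype).map H.subtype
  have hEne : E ≠ ⊥ := fun h0 => by
    have hw : Equiv.swap (0 : Fin 4) 1 * Equiv.swap 2 3 ∈ V := by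
      refine MonoidHom.mem_ker.2 (Equiv.ext ?_)
      show ∀ i, pairingFun (Equiv.swap (0 : Fin 4) 1 * Equiv.swap 2 3) i = i
      decide +kernel
    obtain ⟨x, hx, hxv⟩ := hVim _ hw
    have h1 : (x : SU 3 F q) ∈ E := Subgroup.mem_map_of_mem H.subtype hx
    rw [h0, Subgroup.mem_bot, OneMemClass.coe_eq_one] at h1
    rw [h1, map_one] at hxv
    exact absurd hxv.symm (by decide +kernel)
  obtain ⟨e, he0, he, hfix⟩ := exists_iso_fixed hF hEp
  have hline : ∀ x : H, x ∈ Subgroup.normalizer (P' : Set H) →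
      ∃ a : F, (x : SU 3 F q) • e = a • e := fun x hx => by
    refine fixed_iso_unique hF hEp hEne he0 he (by rw [herm_smul_SU]; exact he) hfix fun g hg => ?_
    obtain ⟨y, hy, rfl⟩ := hg
    have h1 : x⁻¹ * y * x ∈ P' := by
      have := (Subgroup.mem_normalizer_iff.1 (inv_mem hx) y).1 hy
      rwa [inv_inv] at this
    have h2 := hfix _ (Subgroup.mem_map_of_mem H.subtype h1)
    rw [map_mul, map_mul, map_inv, mul_smul, mul_smul, inv_smul_eq_iff] at h2
    exact h2
  obtain ⟨f, -, hf, hef⟩ := exists_partner hF (S := ∅) (u := e) (by simp [supp_empty]) he he0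
  have h : HPair q e f := ⟨he, hf, hef⟩
  obtain ⟨w₀, hw₀, hw0, hthird⟩ := exists_third hF h
  have hne0 : w₀ ≠ 0 := fun z => hw0 (by rw [z, herm_zero_left])
  have hpe : prj q e f e = 0 := by simp [prj, h.ef, h.ee]
  have htri : ∀ x : H, x ∈ Subgroup.normalizer (P' : Set H) →
      ∃ a μ al : F, a ≠ 0 ∧ μ ≠ 0 ∧ (x : SU 3 F q) • e = a • e ∧
        (x : SU 3 F q) • w₀ = al • e + μ • w₀ := fun x hx => by
    obtain ⟨a, ha⟩ := hline x hx
    have ha0 : a ≠ 0 := fun z => he0 (by rwa [z, zero_smul, smul_eq_zero_iff_eq] at ha)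
    have h1 : herm q ((x : SU 3 F q) • w₀) e = 0 := by
      have h2 := herm_smul_SU (x : SU 3 F q) w₀ e
      rw [ha, herm_smul_right hF, hw₀.1] at h2
      exact (mul_eq_zero.1 h2).resolve_left (mt (pow_q_eq_zero_iff hF).1 ha0)
    obtain ⟨μ, hμ⟩ := hthird _ (orth2_prj hF h ((x : SU 3 F q) • w₀))
    have h3 := eq_prj (q := q) e f ((x : SU 3 F q) • w₀)
    rw [h1, zero_smul, add_zero, hμ] at h3
    refine ⟨a, μ, _, ha0, fun z => ?_, ha, h3⟩
    rw [z, zero_smul, add_zero] at h3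
    have h4 := herm_smul_SU (x : SU 3 F q) w₀ w₀
    rw [h3, herm_smul_left, herm_smul_right hF, he, mul_zero, mul_zero] at h4
    exact hw0 h4.symm
  obtain ⟨x, hx, hxA⟩ := hsurjN (Equiv.swap (0 : Fin 4) 1)
  obtain ⟨y, hy, hyB⟩ := hsurjN (Equiv.swap (1 : Fin 4) 2)
  obtain ⟨c, hcd⟩ : ∃ c, c = x * y * (y * x)⁻¹ := ⟨_, rfl⟩
  have hc : c ∈ Subgroup.normalizer (P' : Set H) :=
    hcd ▸ mul_mem (mul_mem hx hy) (inv_mem (mul_mem hy hx))
  have hcxy : (c : SU 3 F q) * ((y : SU 3 F q) * x) = (x : SU 3 F q) * y :=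
    congrArg Subtype.val (show c * (y * x) = x * y by rw [hcd, inv_mul_cancel_right])
  obtain ⟨ax, μx, lx, hax, hμx, hxe, hxw⟩ := htri x hx
  obtain ⟨ay, μy, ly, hay, hμy, hye, hyw⟩ := htri y hy
  obtain ⟨ac, μc, lc, -, -, hce, hcw⟩ := htri c hc
  have sc : ∀ (g : SU 3 F q) (a : F) (v : Fin 3 → F), g • a • v = a • g • v := fun g a v => smul_comm g a v
  have E1 := congrArg (fun g : SU 3 F q => g • e) hcxy
  simp only [mul_smul, sc, hxe, hye, hce] at E1
  simp only [smul_smul] at E1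
  have hac : ac = 1 := by
    have := smul_left_injective F he0 E1
    refine mul_left_cancel₀ (mul_ne_zero hax hay) ?_
    linear_combination this
  have E2 := congrArg (fun g : SU 3 F q => herm q (g • w₀) w₀) hcxy
  simp only [mul_smul, smul_add, sc, hxw, hyw, hcw, hxe, hye, hce, herm_add_left, herm_smul_left,
    (hw₀.left hF).1, mul_zero, zero_add] at E2
  have hμc : μc = 1 := by
    refine mul_left_cancel₀ (mul_ne_zero (mul_ne_zero hμx hμy) hw0) ?_
    linear_combination E2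
  have hU : piU 3 F q (c : SU 3 F q) ∈ AutPSU.Ugrp hF h :=
    AutPSU.mem_Ugrp_of_trivial hF (by norm_num) h (a := 1) (by simp) (by rw [hce, hac])
      fun w hw => by
        obtain ⟨d, rfl⟩ := hthird w hw
        rw [one_smul, smul_comm, hcw, hμc, one_smul, AutPSU.prj_smul, AutPSU.prj_add hF,
          AutPSU.prj_smul, hpe, smul_zero, zero_add, AutPSU.prj_of_orth2 hw₀]
  obtain ⟨k, hk⟩ := AutPSU.isPGroup_Ugrp hF 2 h ⟨_, hU⟩
  have hk' : piU 3 F q ((c : SU 3 F q) ^ 2 ^ k) = piU 3 F q 1 := by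
    rw [map_pow, map_one]; exact congrArg Subtype.val hk
  obtain ⟨r, hr⟩ := (AutPSU.piU_eq_iff hF (by norm_num)).1 hk'
  have hce' : ((c : SU 3 F q) ^ 2 ^ k) • e = e := by
    rw [AutPSU.pow_smul_eigen hce, hac, one_pow, one_smul]
  have hr1 : r = 1 := by
    have h1 := hr e
    rw [hce', one_smul] at h1
    exact smul_left_injective F he0 (h1.symm.trans (one_smul F e).symm)
  have hck : c ^ 2 ^ k = 1 := Subtype.ext (eq_of_smul_eq_SU fun v => by
    rw [SubgroupClass.coe_pow, OneMemClass.coe_one, one_smul]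
    simpa [hr1] using (hr v).symm)
  have hfc := congrArg φ hck
  simp only [map_pow, map_one, hcd, map_mul, map_inv, hxA, hyB] at hfc
  set τ : Equiv.Perm (Fin 4) := Equiv.swap 0 1 * Equiv.swap 1 2 *
    (Equiv.swap 1 2 * Equiv.swap 0 1)⁻¹ with hτ
  have h3 : τ ^ 3 = 1 := by rw [hτ]; decide +kernel
  have hne : τ ≠ 1 := by rw [hτ]; decide +kernel
  have h1 := pow_gcd_eq_one.2 ⟨hfc, h3⟩
  rw [(Nat.Coprime.pow_left k (by norm_num : Nat.Coprime 2 3)).gcd_eq_one, pow_one] at h1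
  exact hne h1

theorem psu_not_involves_perm4 [CharP F 2] :
    ¬ Cfsg.Involves (Equiv.Perm (Fin 4)) (PSU 3 F q) := fun h =>
  su_not_involves_perm4 hF (involves_of_quotient _ h)

theorem permMatrix_mem_SU [CharP F 2] (σ : Equiv.Perm (Fin 3)) :
    ∃ g : SU 3 F q, ∀ v : Fin 3 → F, g • v = v ∘ σ := by
  have hd : (σ.permMatrix F).det = 1 := by
    rw [Matrix.det_permutation]
    rcases Int.units_eq_one_or σ.sign with h | h <;> simp [h, CharTwo.neg_eq]
  refine ⟨⟨⟨σ.permMatrix F, hd⟩, fun u v => ?_⟩, fun v => Matrix.permMatrix_mulVec σ⟩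
  show herm q (σ.permMatrix F *ᵥ u) (σ.permMatrix F *ᵥ v) = herm q u v
  rw [Matrix.permMatrix_mulVec, Matrix.permMatrix_mulVec]
  exact Equiv.sum_comp σ (fun i => u i * v i ^ q)

/-- The monomial copy of `S₃`. -/
theorem psu_involves_perm3 [CharP F 2] :
    Cfsg.Involves (Equiv.Perm (Fin 3)) (PSU 3 F q) := by
  choose g hg using permMatrix_mem_SU hF
  let f : Equiv.Perm (Fin 3) →* SU 3 F q :=
    MonoidHom.mk' (fun σ => g σ⁻¹) fun σ τ => eq_of_smul_eq_SU fun v => by
      rw [mul_smul, hg, hg, hg]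
      funext i
      simp
  refine involves_of_hom (MonoidHom.id _) Function.surjective_id
    ((QuotientGroup.mk' (Subgroup.center (SU 3 F q))).comp f) ?_
  rw [injective_iff_map_eq_one]
  intro σ hσ
  have hz : f σ ∈ Subgroup.center (SU 3 F q) := (QuotientGroup.eq_one_iff _).1 hσ
  obtain ⟨r, hr⟩ := (Unitary.mem_center_iff hF (by norm_num)).1 hz
  refine inv_eq_one.1 (Equiv.ext fun i => ?_)
  by_contra hne
  have h1 := congrFun ((hg σ⁻¹ _).symm.trans (hr (Pi.single (σ⁻¹ i) (1 : F)))) i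
  simp only [Equiv.Perm.coe_one, id_eq] at hne
  simp [Pi.single_apply] at h1
  rw [if_neg (show ¬ i = σ.symm i from fun h => hne h.symm)] at h1
  exact one_ne_zero h1

end Cfsg.Agent.GoldGroups11
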