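import Cfsg.Agent.GoldGroups11.Char
import Cfsg.Agent.GoldGroups11.Unitary

/-!
The sections `S₃` and `S₄` of the Goldschmidt groups.
-/

set_option autoImplicit false
set_option linter.style.haveILetI false
set_option linter.unusedSectionVars false

namespace Cfsg.Agent.GoldGroups11

open Cfsg.Agent.Dickson Equiv
open scoped MatrixGroups

variable {G : Type*} [Group G] [Finite G]

/-- The order of `PSL₂(q)` is four times an odd number. -/
theorem psl_two_part {F : Type*} [Field F] [Fintype F] {n : ℕ}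
    (hF : Fintype.card F = 3 ^ (2 * n + 1)) : ∃ o, Odd o ∧ Nat.card (PSL2 F) = 4 * o := by
  have h1 := two_mul_card_psl hF
  have h2 := card_mod_four hF
  obtain ⟨i, hi⟩ : ∃ i, Fintype.card F = 4 * i + 3 := ⟨Fintype.card F / 4, by omega⟩
  rw [hi, show 4 * i + 3 + 1 = 4 * (i + 1) by ring, show 4 * i + 3 - 1 = 2 * (2 * i + 1) by omega] at h1
  refine ⟨(i + 1) * (4 * i + 3) * (2 * i + 1), ?_, ?_⟩
  · obtain ⟨k, hk⟩ : ∃ k, i = 2 * k := by
      have h8 : Fintype.card F % 8 = 3 := by
        rw [hF, pow_succ, pow_mul, Nat.mul_mod, Nat.pow_mod]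
        norm_num
      exact ⟨i / 2, by omega⟩
    exact ((show Odd (i + 1) from ⟨k, by omega⟩).mul ⟨2 * i + 1, by omega⟩).mul ⟨i, rfl⟩
  · refine Nat.eq_of_mul_eq_mul_left (show 0 < 2 by norm_num) ?_
    rw [h1]; ring

/-- A group of Ree type involves `S₃` and not `S₄`. -/
theorem ree_facts (h : Cfsg.IsReeType G) :
    Cfsg.Involves (Perm (Fin 3)) G ∧ ¬ Cfsg.Involves (Perm (Fin 4)) G := by
  classical
  obtain ⟨hs, hna, t, K, n, hn, ht, hodd, ⟨htC, hKC, hcomm, hinf, hsup⟩, F, _, _, hF, ⟨φ⟩⟩ := h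
  set C := Subgroup.centralizer ({t} : Set G) with hC
  let ψ : PSL2 F →* G := K.subtype.comp φ.symm.toMonoidHom
  have hψK : ∀ y, ψ y ∈ K := fun y => (φ.symm y).2
  have hinj : Function.Injective ψ := K.subtype_injective.comp φ.symm.injective
  have hc : ∀ y, t * ψ y = ψ y * t := fun y => hcomm t (Subgroup.mem_zpowers t) _ (hψK y)
  have htne : t ≠ 1 := fun e => by
    rw [e, orderOf_one] at ht
    omega
  have hnot : ∀ y, ψ y ≠ t := fun y e => htne (by
    rw [← Subgroup.mem_bot, ← hinf]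
    exact ⟨Subgroup.mem_zpowers t, e ▸ hψK y⟩)
  have ht2 : t * t = 1 := by rw [← pow_two]; exact orderOf_dvd_iff_pow_eq_one.1 ht.dvd
  let ε : ℤˣ →* G := MonoidHom.mk' (fun u => if u = 1 then 1 else t) fun u v => by
    rcases Int.units_eq_one_or u with rfl | rfl <;> rcases Int.units_eq_one_or v with rfl | rfl <;>
      simp [ht2]
  let Φ : ℤˣ × PSL2 F →* G := MonoidHom.noncommCoprod ε ψ fun u y => by
    show ε u * ψ y = ψ y * ε u
    rcases Int.units_eq_one_or u with rfl | rfl
    · simp [ε]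
    · simpa [ε] using hc y
  have hΦ1 : ∀ y, Φ (1, y) = ψ y := fun y => by simp [Φ, ε]
  have hΦm : ∀ y, Φ (-1, y) = t * ψ y := fun y => by simp [Φ, ε]
  have hΦinj : Function.Injective Φ := by
    rw [injective_iff_map_eq_one]
    rintro ⟨u, y⟩ e
    rcases Int.units_eq_one_or u with rfl | rfl
    · rw [hΦ1] at e
      rw [hinj (e.trans (map_one ψ).symm)]
      rfl
    · rw [hΦm, mul_eq_one_iff_eq_inv] at e
      exact absurd (by rw [map_inv]; exact e.symm) (hnot y⁻¹)
  have hrange : Φ.range = C := by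
    refine le_antisymm ?_ ?_
    · rintro _ ⟨⟨u, y⟩, rfl⟩
      rcases Int.units_eq_one_or u with rfl | rfl
      · rw [hΦ1]; exact hKC (hψK y)
      · rw [hΦm]; exact mul_mem (htC (Subgroup.mem_zpowers t)) (hKC (hψK y))
    · rw [← hsup]
      refine sup_le (Subgroup.zpowers_le.2 ⟨(-1, 1), by rw [hΦm, map_one, mul_one]⟩) fun k hk => ?_
      exact ⟨(1, φ ⟨k, hk⟩), by rw [hΦ1]; show ((φ.symm (φ ⟨k, hk⟩) : K) : G) = k; rw [φ.symm_apply_apply]⟩
  constructor
  · by_contra hfree
    obtain ⟨m, ⟨T⟩⟩ := exists_torusData hF hn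
    haveI : Fintype G := Fintype.ofFinite G
    letI : Fintype (PSL2 F) := Fintype.ofFinite _
    refine Ree.contradiction (G := G) (F := F) (n := n) (m := m)
      { simple := hs, not_comm := hna, free := hfree, t := t, ψ := ψ, inj := hinj, t_order := ht,
        comm := hc, t_not := hnot, cent := fun x hx => ?_, odd_index := hodd, card_F := hF, n_pos := hn,
        torus := T }
    obtain ⟨⟨u, y⟩, rfl⟩ : x ∈ Φ.range := hrange ▸ Subgroup.mem_centralizer_singleton_iff.2 hx
    rcases Int.units_eq_one_or u with rfl | rfl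
    · exact ⟨y, Or.inl (hΦ1 y)⟩
    · exact ⟨y, Or.inr (hΦm y)⟩
  · haveI : Fact (Nat.Prime 2) := ⟨Nat.prime_two⟩
    obtain ⟨o, ho, hL⟩ := psl_two_part hF
    obtain ⟨i, hi⟩ := hodd
    have hcardC : Nat.card C = 8 * o := by
      rw [← hrange, ← Nat.card_congr (MonoidHom.ofInjective hΦinj).toEquiv, Nat.card_prod, hL,
        Nat.card_eq_fintype_card, Fintype.card_units_int]
      ring
    have hG : Nat.card G = 8 * (o * (2 * i + 1)) := by
      rw [← C.card_mul_index, hcardC, hi]; ring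
    have hfac : ∀ {N e : ℕ}, Odd N → ((2 ^ e) * N).factorization 2 = e := by
      intro N e hN
      rw [Nat.factorization_mul (pow_ne_zero _ (by norm_num)) (by rintro rfl; simp at hN),
        Finsupp.add_apply, Nat.Prime.factorization_pow Nat.prime_two, Finsupp.single_eq_same,
        Nat.factorization_eq_zero_of_not_dvd (fun h => Nat.not_even_iff_odd.2 hN (even_iff_two_dvd.2 h)),
        add_zero]
    let Q : Sylow 2 (PSL2 F) := Classical.arbitrary _
    have hQ : Nat.card (Q : Subgroup (PSL2 F)) = 2 ^ 2 := by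
      rw [Q.card_eq_multiplicity, hL, show (4 : ℕ) = 2 ^ 2 from rfl, hfac ho]
    let Ψ : ℤˣ × (Q : Subgroup (PSL2 F)) →* G :=
      Φ.comp ((MonoidHom.id ℤˣ).prodMap (Q : Subgroup (PSL2 F)).subtype)
    have hΨinj : Function.Injective Ψ :=
      hΦinj.comp (Function.Injective.prodMap Function.injective_id (Subgroup.subtype_injective _))
    have hP : Nat.card Ψ.range = 2 ^ ((Nat.card G).factorization 2) := by
      rw [← Nat.card_congr (MonoidHom.ofInjective hΨinj).toEquiv, Nat.card_prod, hQ,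
        Nat.card_eq_fintype_card, Fintype.card_units_int, hG, show (8 : ℕ) = 2 ^ 3 from rfl,
        hfac (ho.mul ⟨i, rfl⟩)]
      rfl
    refine not_involves_perm4_of_abelian (Sylow.ofCard Ψ.range hP) ?_
    rintro _ ⟨⟨u, a⟩, rfl⟩ _ ⟨⟨v, b⟩, rfl⟩
    rw [← map_mul, ← map_mul]
    congr 1
    refine Prod.ext (mul_comm u v) ?_
    exact IsPGroup.commutative_of_card_eq_prime_sq hQ a b

theorem free_of_target (h : Cfsg.IsSuzukiOrPSL2OddPowerThree G) :
    ¬ Cfsg.Involves (Perm (Fin 3)) G := by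
  rcases h with h | ⟨F, _, _, n, hF, ⟨e⟩⟩
  · exact (suzuki_free h).1
  · exact not_involves_of_equiv e (psl_not_involves_perm3 hF)

theorem goldschmidt_facts (hG : Cfsg.IsGoldschmidtGroup G) :
    ¬ Cfsg.Involves (Perm (Fin 4)) G ∧
      (¬ Cfsg.Involves (Perm (Fin 3)) G ↔ Cfsg.IsSuzukiOrPSL2OddPowerThree G) := by
  rcases hG with h | ⟨F, _, _, n, hn, hF, ⟨e⟩⟩ | h | ⟨F, _, _, n, hn, hF, ⟨e⟩⟩ |
    ⟨F, _, _, q, hF, h5, hq8, ⟨e⟩⟩ | h
  · obtain ⟨h3, h4⟩ := ree_facts h
    exact ⟨h4, iff_of_false (not_not_intro h3) fun ht => free_of_target ht h3⟩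
  · have h3 : Cfsg.Involves (Perm (Fin 3)) G := by
      refine involves_of_equiv e (psl_involves_perm3 ?_ ?_)
      · rw [hF]; intro h
        exact absurd (Nat.prime_three.dvd_of_dvd_pow h) (by norm_num)
      · rw [hF]; exact le_trans (by norm_num) (Nat.pow_le_pow_right (by norm_num) hn)
    exact ⟨not_involves_of_equiv e (psl_even_not_involves_perm4 (by omega) hF),
      iff_of_false (not_not_intro h3) fun ht => free_of_target ht h3⟩
  · exact ⟨(suzuki_free h).2, iff_of_true (suzuki_free h).1 (Or.inl h)⟩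
  · haveI : Fact (Nat.Prime 2) := ⟨Nat.prime_two⟩
    have hF2 : Fintype.card F = 2 ^ (2 * n) := by rw [hF, pow_mul]; norm_num
    haveI : CharP F 2 := charP_of_card_eq_prime_pow (f := 2 * n) hF2
    have hq : Fintype.card F = (2 ^ n) ^ 2 := by rw [hF2, ← pow_mul, mul_comm]
    have h3 : Cfsg.Involves (Perm (Fin 3)) G := involves_of_equiv e (psu_involves_perm3 hq)
    exact ⟨not_involves_of_equiv e (psu_not_involves_perm4 hq),
      iff_of_false (not_not_intro h3) fun ht => free_of_target ht h3⟩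
  · refine ⟨not_involves_of_equiv e (psl_odd_not_involves_perm4 (by rw [hF]; exact hq8)), ?_,
      free_of_target⟩
    intro hfree
    by_cases h3 : 3 ∣ Fintype.card F
    · obtain ⟨p, hp⟩ := CharP.exists F
      obtain ⟨f, hpp, hf⟩ := FiniteField.card F p
      obtain rfl : p = 3 :=
        ((Nat.prime_dvd_prime_iff_eq Nat.prime_three hpp).1
          (Nat.prime_three.dvd_of_dvd_pow (hf ▸ h3))).symm
      rcases Nat.even_or_odd (f : ℕ) with ⟨k, hk⟩ | ⟨k, hk⟩
      · exfalso
        have h8 : Fintype.card F % 8 = 1 := by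
          rw [hf, hk, ← two_mul, pow_mul, Nat.pow_mod]
          norm_num
        omega
      · exact Or.inr ⟨F, inferInstance, inferInstance, k, by rw [hf, hk], ⟨e⟩⟩
    · exact absurd (involves_of_equiv e (psl_involves_perm3 h3 (by omega))) hfree
  · obtain ⟨h3, h4⟩ := janko_facts h
    exact ⟨h4, iff_of_false (not_not_intro h3) fun ht => free_of_target ht h3⟩

end Cfsg.Agent.GoldGroups11
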