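import Cfsg.Agent.GoldGroups11.CharBase

/-!
The pairings of the induced linear characters of `PSL₂(3^(2n+1))`.
-/

set_option autoImplicit false
set_option linter.style.haveILetI false
set_option linter.unusedSectionVars false

open scoped ComplexConjugate

namespace Cfsg.Agent.GoldGroups11

open Cfsg.Agent.Dickson CharInd MulAction OnePoint
open scoped MatrixGroups

attribute [local instance] Cfsg.Agent.PLocalB.lineAction pslLine

variable {F : Type*} [Field F] [Fintype F]

/-- The range of the unipotent parametrisation. -/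
noncomputable abbrev uGrp (F : Type*) [Field F] [Fintype F] : Subgroup (PSL2 F) := (uppHom F).range

/-- A primitive additive character. -/
noncomputable abbrev ech (F : Type*) [Field F] [Fintype F] : AddChar F ℂ :=
  AddChar.FiniteField.primitiveChar_to_Complex F

/-- The parameter of a unipotent element. -/
noncomputable def uPar (s : uGrp F) : F := ((MonoidHom.ofInjective uppHom_injective).symm s).toAdd

theorem uPar_mk (b : F) (h : upp b ∈ uGrp F) : uPar ⟨upp b, h⟩ = b := by
  have : (MonoidHom.ofInjective (uppHom_injective (F := F))).symm ⟨upp b, h⟩ = Multiplicative.ofAdd b :=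
    (MulEquiv.symm_apply_eq _).2 rfl
  rw [uPar, this]
  rfl

/-- The linear characters of the unipotent subgroup. -/
noncomputable def thU (a : F) : uGrp F →* ℂˣ :=
  MonoidHom.toHomUnits
    { toFun := fun s => ech F (a * uPar s)
      map_one' := by
        rw [uPar, map_one, toAdd_one, mul_zero, AddChar.map_zero_eq_one]
      map_mul' := fun s t => by
        have e : uPar (s * t) = uPar s + uPar t := by simp only [uPar, map_mul, toAdd_mul]
        rw [e, mul_add, AddChar.map_add_eq_mul] }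

theorem thU_apply (a : F) (s : uGrp F) : ((thU a s : ℂˣ) : ℂ) = ech F (a * uPar s) := rfl

/-- The equivalence with the parameters. -/
noncomputable def uEquiv : F ≃ uGrp F :=
  Multiplicative.ofAdd.trans (MonoidHom.ofInjective uppHom_injective).toEquiv

theorem uEquiv_coe (b : F) : ((uEquiv b : uGrp F) : PSL2 F) = upp b := rfl

theorem thU_uEquiv (a b : F) : ((thU a (uEquiv b) : ℂˣ) : ℂ) = ech F (a * b) := by
  rw [thU_apply]
  congr 2
  exact uPar_mk b _

theorem card_uGrp : Nat.card (uGrp F) = Fintype.card F := by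
  rw [← Nat.card_congr uEquiv, Nat.card_eq_fintype_card]

/-- Induced from the unipotent subgroup. -/
noncomputable def XU (a : F) [Fintype (PSL2 F)] : PSL2 F → ℂ :=
  Cfsg.indFun (uGrp F) fun s => ((thU a s : ℂˣ) : ℂ)

/-- The character of the Borel subgroup attached to a character of the squares. -/
noncomputable def thB (μ : sqs F →* ℂˣ) : brl F →* ℂˣ := μ.comp (piB F).rangeRestrict

/-- Induced from the Borel subgroup. -/
noncomputable def IB (μ : sqs F →* ℂˣ) [Fintype (PSL2 F)] : PSL2 F → ℂ :=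
  Cfsg.indFun (brl F) fun s => ((thB μ s : ℂˣ) : ℂ)

/-- The number of Borel elements scaling `a` to `a'`. -/
noncomputable def scaleCount (a a' : F) : ℕ :=
  Nat.card {x : brl F // a * ((piB F x : Fˣ) : F) = a'}

theorem scaleCount_of_exists {a a' : F} (ha : a ≠ 0) {x₀ : brl F}
    (h : a * ((piB F x₀ : Fˣ) : F) = a') : scaleCount a a' = Fintype.card F := by
  rw [← card_piB_ker (F := F)]
  refine Nat.card_congr (Equiv.subtypeEquiv (Equiv.mulLeft x₀⁻¹) fun x => ?_)
  simp only [Equiv.coe_mulLeft, MonoidHom.mem_ker, map_mul, map_inv, inv_mul_eq_one]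
  rw [← h]
  constructor
  · intro hx; exact (Units.ext (mul_left_cancel₀ ha hx)).symm
  · intro hx; rw [hx]

theorem scaleCount_eq_zero {a a' : F} (h : ∀ x : brl F, a * ((piB F x : Fˣ) : F) ≠ a') :
    scaleCount a a' = 0 := by
  have : IsEmpty {x : brl F // a * ((piB F x : Fˣ) : F) = a'} := ⟨fun x => h x.1 x.2⟩
  exact Nat.card_of_isEmpty

theorem scaleCount_self {a : F} (ha : a ≠ 0) : scaleCount a a = Fintype.card F :=
  scaleCount_of_exists ha (x₀ := 1) (by simp)

theorem scaleCount_zero_left {a' : F} (ha : a' ≠ 0) : scaleCount 0 a' = 0 :=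
  scaleCount_eq_zero fun x => by rw [zero_mul]; exact ha.symm

theorem scaleCount_zero_right {a : F} (ha : a ≠ 0) : scaleCount a 0 = 0 :=
  scaleCount_eq_zero fun x => mul_ne_zero ha (Units.ne_zero _)

theorem scaleCount_zero_zero : scaleCount (0 : F) 0 = Nat.card (brl F) :=
  Nat.card_congr (Equiv.subtypeUnivEquiv fun x => zero_mul _)

section Odd

variable {n : ℕ} (hF : Fintype.card F = 3 ^ (2 * n + 1))
include hF

theorem scaleCount_pm {a : F} (ha : a ≠ 0) :
    scaleCount a 1 + scaleCount a (-1) = Fintype.card F := by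
  classical
  set u : Fˣ := Units.mk0 a ha
  have hcover : u⁻¹ ∈ sqs F ∨ -u⁻¹ ∈ sqs F := by
    let S1 : Finset Fˣ := Finset.univ.filter (· ∈ sqs F)
    let S2 : Finset Fˣ := Finset.univ.filter (fun c => -c ∈ sqs F)
    have hdisj : Disjoint S1 S2 := by
      rw [Finset.disjoint_filter]
      rintro c - ⟨x, hx⟩ ⟨y, hy⟩
      refine piB_ne_neg_one hF (y * x⁻¹) ?_
      rw [map_mul, map_inv, hx, hy, neg_mul, mul_inv_cancel]
      simp
    have h1 : S1.card = Nat.card (sqs F) := by
      rw [← Fintype.card_subtype, ← Nat.card_eq_fintype_card]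
    have h2 : S2.card = Nat.card (sqs F) := by
      rw [← Fintype.card_subtype, ← Nat.card_eq_fintype_card]
      exact Nat.card_congr (Equiv.subtypeEquiv (Equiv.neg Fˣ) fun c => Iff.rfl)
    have huniv : S1 ∪ S2 = Finset.univ := by
      apply Finset.eq_univ_of_card
      rw [Finset.card_union_of_disjoint hdisj, h1, h2, ← two_mul, two_mul_card_sqs hF,
        Fintype.card_units]
    have := Finset.mem_univ u⁻¹
    rw [← huniv, Finset.mem_union, Finset.mem_filter, Finset.mem_filter] at this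
    exact this.imp And.right And.right
  rcases hcover with ⟨x, hx⟩ | ⟨x, hx⟩
  · rw [scaleCount_of_exists ha (x₀ := x) (by rw [hx]; simp [u, ha]),
      scaleCount_eq_zero (a' := (-1 : F)) fun y hy => piB_ne_neg_one hF (y * x⁻¹) ?_, add_zero]
    rw [map_mul, map_inv, hx, inv_inv, Units.val_mul, mul_comm]
    exact hy
  · rw [scaleCount_of_exists ha (a' := (-1 : F)) (x₀ := x) (by rw [hx]; simp [u, ha]),
      scaleCount_eq_zero (a' := (1 : F)) fun y hy => piB_ne_neg_one hF (y * x⁻¹) ?_, zero_add]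
    have : ((piB F (y * x⁻¹) : Fˣ) : F) = -(a * ((piB F y : Fˣ) : F)) := by
      rw [map_mul, map_inv, hx, inv_neg, inv_inv]
      simp [u, mul_comm]
    rw [this, hy]

theorem scaleCount_one_neg_one : scaleCount (1 : F) (-1) = 0 :=
  scaleCount_eq_zero fun x => by rw [one_mul]; exact piB_ne_neg_one hF x

theorem odd_card_brl : Odd (Nat.card (brl F)) := by
  have h1 := two_mul_card_sqs hF
  have h4 := card_mod_four hF
  rw [← card_sqs_mul]
  refine Odd.mul (Nat.odd_iff.2 (by omega)) (Nat.odd_iff.2 ?_)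
  omega

variable [Fintype (PSL2 F)]

theorem oddClass_XU (a : F) : OddClass (XU a) :=
  oddClass_indFun _ (by
    rw [card_uGrp]; have := card_mod_four hF; exact Nat.odd_iff.2 (by omega)) _

theorem oddClass_IB (μ : sqs F →* ℂˣ) : OddClass (IB μ) := oddClass_indFun _ (odd_card_brl hF) _

theorem sum_brl_eq (f : PSL2 F → ℂ) [Fintype (brl F)] (hf : ∀ x ∉ brl F, f x = 0) :
    ∑ x : PSL2 F, f x = ∑ x : brl F, f x := by
  classical
  rw [← Finset.sum_subset (Finset.subset_univ (Finset.univ.filter fun g : PSL2 F => g ∈ brl F))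
    (fun g _ hg => hf g (by simpa using hg))]
  exact Finset.sum_subtype _ (fun g => by simp) _

theorem XU_upp {a c : F} (hc : c ≠ 0) [Fintype (brl F)] :
    XU a (upp c) =
      (∑ x : brl F, ech F (a * (((piB F x)⁻¹ : Fˣ) : F) * c)) / Fintype.card F := by
  rw [XU, indFun_apply, card_uGrp, sum_brl_eq hF, inv_mul_eq_div]
  · congr 1
    refine Finset.sum_congr rfl fun x _ => ?_
    have hconj : (x : PSL2 F)⁻¹ * upp c * (x : PSL2 F) = upp ((((piB F x)⁻¹ : Fˣ) : F) * c) := by
      have h := conj_upp x⁻¹ c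
      rw [map_inv, Subgroup.coe_inv, inv_inv] at h
      exact h
    rw [hconj, extendByZero_mem _ (show upp ((((piB F x)⁻¹ : Fˣ) : F) * c) ∈ uGrp F from ⟨_, rfl⟩),
      thU_apply, uPar_mk, mul_assoc]
  · intro x hx
    refine extendByZero_notMem _ fun ⟨b, hb⟩ => hx (mem_brl_of_conj hc ?_)
    rw [← hb]
    exact upp_mem_brl _

theorem sum_ech (c : F) [Decidable (c = 0)] :
    ∑ b : F, ech F (c * b) = if c = 0 then (Fintype.card F : ℂ) else 0 := by
  classical
  have h := AddChar.sum_mulShift c (AddChar.FiniteField.primitiveChar_to_Complex_isPrimitive F)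
  rw [Finset.sum_congr rfl fun b _ => show ech F (c * b) = ech F (b * c) by rw [mul_comm], h]
  split_ifs with hc <;> simp

theorem BB_XX (a a' : F) :
    BB (XU a) (XU a') =
      ((Fintype.card F : ℂ) - 1) / 2 + (scaleCount a a' : ℂ) / Fintype.card F := by
  classical
  letI : Fintype (brl F) := Fintype.ofFinite _
  letI : Fintype (uGrp F) := Fintype.ofFinite _
  set q := (Fintype.card F : ℂ) with hq
  have hq0 : q ≠ 0 := Nat.cast_ne_zero.2 Fintype.card_pos.ne'
  rw [XU, BB_indFun _ _ (oddClass_XU hF a').1, card_uGrp, ← hq]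
  have e1 : ∑ s : uGrp F, ((thU a s : ℂˣ) : ℂ) * XU a' (s : PSL2 F)⁻¹ =
      ∑ b : F, ech F (a * b) * XU a' (upp (-b)) :=
    (Fintype.sum_equiv uEquiv _ _ fun b => by rw [thU_uEquiv, uEquiv_coe, upp_neg]).symm
  rw [e1]
  have hval : ∀ b : F, ech F (a * b) * XU a' (upp (-b)) =
      (∑ x : brl F, ech F ((a - a' * (((piB F x)⁻¹ : Fˣ) : F)) * b)) / q +
        if b = 0 then ((Nat.card (PSL2 F) : ℂ) - Nat.card (brl F)) / q else 0 := by
    intro b
    by_cases hb : b = 0
    · subst hb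
      rw [if_pos rfl, neg_zero, upp_zero, XU, indFun_apply_one, map_one, mul_zero,
        AddChar.map_zero_eq_one, Units.val_one, one_mul, mul_one]
      simp only [mul_zero, AddChar.map_zero_eq_one, Finset.sum_const, Finset.card_univ, nsmul_eq_mul,
        mul_one]
      rw [← add_div, ← Nat.card_eq_fintype_card, add_sub_cancel,
        ← (uGrp F).card_mul_index, card_uGrp, Nat.cast_mul, ← hq]
      field_simp
    · rw [if_neg hb, add_zero, XU_upp hF (neg_ne_zero.2 hb), ← mul_div_assoc, Finset.mul_sum]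
      congr 1
      refine Finset.sum_congr rfl fun x _ => ?_
      rw [← AddChar.map_add_eq_mul]
      congr 1
      ring
  rw [Finset.sum_congr rfl fun b _ => hval b, Finset.sum_add_distrib, Finset.sum_ite_eq',
    if_pos (Finset.mem_univ _), ← Finset.sum_div, Finset.sum_comm,
    Finset.sum_congr rfl fun x _ => sum_ech hF _]
  have hcount : ∑ x : brl F, (if a - a' * (((piB F x)⁻¹ : Fˣ) : F) = 0 then q else 0) =
      (scaleCount a a' : ℂ) * q := by
    rw [← Finset.sum_filter, Finset.sum_const, nsmul_eq_mul, scaleCount, Nat.card_eq_fintype_card,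
      Fintype.card_subtype]
    congr 3
    refine Finset.filter_congr fun x _ => ?_
    rw [sub_eq_zero, Units.val_inv_eq_inv_val, eq_mul_inv_iff_mul_eq₀ (Units.ne_zero _)]
  rw [hcount]
  have h2L : (2 : ℂ) * Nat.card (PSL2 F) = (q + 1) * (q * (q - 1)) := by
    have h := congrArg (fun k : ℕ => (k : ℂ)) (two_mul_card_psl hF)
    push_cast [Nat.cast_sub (Fintype.card_pos (α := F))] at h
    exact h
  have h2B : (2 : ℂ) * Nat.card (brl F) = q * (q - 1) := by
    have h := congrArg (fun k : ℕ => (k : ℂ)) (two_mul_card_brl hF)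
    push_cast [Nat.cast_sub (Fintype.card_pos (α := F))] at h
    exact h
  field_simp
  linear_combination h2L - h2B

theorem IB_upp (μ : sqs F →* ℂˣ) {c : F} (hc : c ≠ 0) : IB μ (upp c) = 1 := by
  classical
  letI : Fintype (brl F) := Fintype.ofFinite _
  rw [IB, indFun_apply, sum_brl_eq hF]
  · have h1 : ∀ x : brl F, Cfsg.extendByZero (brl F) (fun s => ((thB μ s : ℂˣ) : ℂ))
        ((x : PSL2 F)⁻¹ * upp c * x) = 1 := fun x => by
      rw [extendByZero_mem _ (mul_mem (mul_mem (inv_mem x.2) (upp_mem_brl c)) x.2)]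
      have h0 : (piB F).rangeRestrict
          (⟨_, mul_mem (mul_mem (inv_mem x.2) (upp_mem_brl c)) x.2⟩ : brl F) = 1 := by
        refine Subtype.ext ((piB_eq_one_iff _).2 ⟨(((piB F x⁻¹) : Fˣ) : F) * c, ?_⟩)
        have h := conj_upp x⁻¹ c
        rw [Subgroup.coe_inv, inv_inv] at h
        exact h
      rw [thB, MonoidHom.comp_apply, h0, map_one, Units.val_one]
    rw [Finset.sum_congr rfl fun x _ => h1 x, Finset.sum_const, Finset.card_univ, nsmul_eq_mul, mul_one,
      ← Nat.card_eq_fintype_card, inv_mul_cancel₀ (natCard_subgroup_ne_zero _)]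
  · intro x hx
    exact extendByZero_notMem _ fun h => hx (mem_brl_of_conj hc h)

theorem index_brl : ((brl F).index : ℂ) = Fintype.card F + 1 := by
  have := index_stabilizer_point (∞ : OnePoint F)
  rw [show (brl F).index = Fintype.card F + 1 from this]
  push_cast; ring

theorem BB_XB (a : F) (μ : sqs F →* ℂˣ) [Decidable (a = 0)] :
    BB (XU a) (IB μ) = if a = 0 then 2 else 1 := by
  classical
  letI : Fintype (uGrp F) := Fintype.ofFinite _
  rw [XU, BB_indFun _ _ (oddClass_IB hF μ).1, card_uGrp]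
  have e1 : ∑ s : uGrp F, ((thU a s : ℂˣ) : ℂ) * IB μ (s : PSL2 F)⁻¹ =
      ∑ b : F, (ech F (a * b) + if b = 0 then (Fintype.card F : ℂ) else 0) := by
    refine (Fintype.sum_equiv uEquiv _ _ fun b => ?_).symm
    rw [thU_uEquiv, uEquiv_coe, ← upp_neg]
    by_cases hb : b = 0
    · subst hb
      rw [if_pos rfl, neg_zero, upp_zero, mul_zero, AddChar.map_zero_eq_one, IB, indFun_apply_one,
        index_brl hF, map_one, Units.val_one]
      ring
    · rw [if_neg hb, add_zero, IB_upp hF μ (neg_ne_zero.2 hb), mul_one]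
  rw [e1, Finset.sum_add_distrib, sum_ech hF, Finset.sum_ite_eq', if_pos (Finset.mem_univ _)]
  have hq0 : (Fintype.card F : ℂ) ≠ 0 := Nat.cast_ne_zero.2 Fintype.card_pos.ne'
  split_ifs <;> field_simp <;> ring

theorem BB_BB (μ μ' : sqs F →* ℂˣ) [Decidable (μ = μ')] [Decidable (μ * μ' = 1)] :
    BB (IB μ) (IB μ') = (if μ = μ' then 1 else 0) + (if μ * μ' = 1 then 1 else 0) := by
  classical
  letI : Fintype (brl F) := Fintype.ofFinite _
  set B := (Nat.card (brl F) : ℂ) with hB
  set s := (Nat.card (sqs F) : ℂ) with hs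
  have hB0 : B ≠ 0 := natCard_subgroup_ne_zero _
  rw [IB, BB_indFun _ _ (oddClass_IB hF μ').1]
  have hinner : ∀ x : PSL2 F, ∑ b : brl F, ((thB μ b : ℂˣ) : ℂ) *
      Cfsg.extendByZero (brl F) (fun c => ((thB μ' c : ℂˣ) : ℂ)) (x⁻¹ * (b : PSL2 F)⁻¹ * x) =
      if x ∈ brl F then (if μ = μ' then B else 0) else (if μ * μ' = 1 then s else 0) := by
    intro x
    by_cases hx : x ∈ brl F
    · rw [if_pos hx]
      have h1 : ∀ b : brl F, ((thB μ b : ℂˣ) : ℂ) *
          Cfsg.extendByZero (brl F) (fun c => ((thB μ' c : ℂˣ) : ℂ)) (x⁻¹ * (b : PSL2 F)⁻¹ * x) =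
          (((thB μ * (thB μ')⁻¹ : brl F →* ℂˣ) b : ℂˣ) : ℂ) := by
        intro b
        rw [extendByZero_mem _ (mul_mem (mul_mem (inv_mem hx) (inv_mem b.2)) hx)]
        have : thB μ' ⟨_, mul_mem (mul_mem (inv_mem hx) (inv_mem b.2)) hx⟩ = (thB μ' b)⁻¹ := by
          show thB μ' ((⟨x, hx⟩ : brl F)⁻¹ * b⁻¹ * ⟨x, hx⟩) = _
          rw [map_mul, map_mul, map_inv, map_inv, mul_comm, mul_inv_cancel_left]
        rw [this]
        rfl
      rw [Finset.sum_congr rfl fun b _ => h1 b, sum_linear]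
      have hiff : thB μ * (thB μ')⁻¹ = 1 ↔ μ = μ' := by
        refine Iff.trans ⟨fun h => MonoidHom.ext fun x => mul_inv_eq_one.1 (DFunLike.congr_fun h x),
          fun h => by rw [h]; exact MonoidHom.ext fun x => mul_inv_cancel _⟩
          (MonoidHom.cancel_right (piB F).rangeRestrict_surjective)
      simp only [hiff, hB]
    · rw [if_neg hx]
      have h1 : ∀ b : brl F, ((thB μ b : ℂˣ) : ℂ) *
          Cfsg.extendByZero (brl F) (fun c => ((thB μ' c : ℂˣ) : ℂ)) (x⁻¹ * (b : PSL2 F)⁻¹ * x) =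
          if x⁻¹ * (b : PSL2 F) * x ∈ brl F then
            (((μ * μ' : sqs F →* ℂˣ) ⟨piB F b, ⟨b, rfl⟩⟩ : ℂˣ) : ℂ) else 0 := by
        intro b
        have hinv : x⁻¹ * (b : PSL2 F)⁻¹ * x = (x⁻¹ * (b : PSL2 F) * x)⁻¹ := by group
        by_cases hm : x⁻¹ * (b : PSL2 F) * x ∈ brl F
        · rw [if_pos hm, extendByZero_mem _ (hinv ▸ inv_mem hm)]
          have e : (piB F).rangeRestrict ⟨_, hinv ▸ inv_mem hm⟩ = (⟨piB F b, ⟨b, rfl⟩⟩ : sqs F) := by
            refine Subtype.ext ?_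
            show piB F ⟨x⁻¹ * (b : PSL2 F)⁻¹ * x, _⟩ = piB F b
            rw [show (⟨x⁻¹ * (b : PSL2 F)⁻¹ * x, hinv ▸ inv_mem hm⟩ : brl F) = (⟨_, hm⟩ : brl F)⁻¹ from
              Subtype.ext hinv, map_inv, piB_conj hx b hm, inv_inv]
          simp only [thB, MonoidHom.comp_apply, e, MonoidHom.mul_apply, Units.val_mul]
          rfl
        · rw [if_neg hm, extendByZero_notMem _ (fun h => hm (by
            rw [hinv] at h
            simpa using inv_mem h)), mul_zero]
      rw [Finset.sum_congr rfl fun b _ => h1 b, ← Finset.sum_filter,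
        Finset.sum_subtype (p := fun b : brl F => x⁻¹ * (b : PSL2 F) * x ∈ brl F) _ (fun b => by simp)]
      rw [Fintype.sum_bijective _ (bijective_two_point hx) _
        (fun r : sqs F => (((μ * μ' : sqs F →* ℂˣ) r : ℂˣ) : ℂ)) (fun b => rfl), sum_linear]
  have hexp : ∀ b : brl F, ((thB μ b : ℂˣ) : ℂ) * IB μ' (b : PSL2 F)⁻¹ = B⁻¹ * ∑ x : PSL2 F,
      ((thB μ b : ℂˣ) : ℂ) *
        Cfsg.extendByZero (brl F) (fun c => ((thB μ' c : ℂˣ) : ℂ)) (x⁻¹ * (b : PSL2 F)⁻¹ * x) := by
    intro b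
    rw [IB, indFun_apply, ← hB, mul_left_comm, Finset.mul_sum]
  rw [Finset.sum_congr rfl fun b _ => hexp b, ← Finset.mul_sum, Finset.sum_comm,
    Finset.sum_congr rfl fun x _ => hinner x, Finset.sum_ite, Finset.sum_const, Finset.sum_const,
    nsmul_eq_mul, nsmul_eq_mul]
  have hc1 : (Finset.univ.filter fun x : PSL2 F => x ∈ brl F).card = Nat.card (brl F) := by
    rw [← Fintype.card_subtype, ← Nat.card_eq_fintype_card]
  have hc2 : ((Finset.univ.filter fun x : PSL2 F => x ∉ brl F).card : ℂ) =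
      (Nat.card (PSL2 F) : ℂ) - B := by
    rw [eq_sub_iff_add_eq, hB, ← hc1, ← Nat.cast_add, add_comm, Finset.card_filter_add_card_filter_not,
      Finset.card_univ, Nat.card_eq_fintype_card]
  rw [hc1, hc2, ← hB]
  have hqs : (Fintype.card F : ℂ) * s = B := by
    rw [hs, hB, ← card_sqs_mul, Nat.cast_mul]
  have hL : (Nat.card (PSL2 F) : ℂ) = B * ((Fintype.card F : ℂ) + 1) := by
    rw [hB, ← index_brl hF, ← Nat.cast_mul, Subgroup.card_mul_index]
  rw [hL]
  split_ifs <;> field_simp <;>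
    first
      | ring1
      | linear_combination hqs
      | linear_combination B * hqs

end Odd

/-- Coprime subgroups pair through the identity only. -/
theorem BB_coprime [Fintype (PSL2 F)] (S S' : Subgroup (PSL2 F)) [Fintype S]
    (h : Nat.Coprime (Nat.card S) (Nat.card S')) (θ : S →* ℂˣ) (θ' : S' →* ℂˣ) :
    BB (Cfsg.indFun S fun s => ((θ s : ℂˣ) : ℂ)) (Cfsg.indFun S' fun s => ((θ' s : ℂˣ) : ℂ)) =
      (S'.index : ℂ) / Nat.card S := by
  rw [BB_indFun _ _ (isClassFunction_indFun _ _), Fintype.sum_eq_single (1 : S)]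
  · rw [map_one, OneMemClass.coe_one, inv_one, indFun_apply_one, map_one, Units.val_one, one_mul,
      mul_one]
  · intro s hs
    rw [indFun_eq_zero_of_forall_notMem, mul_zero]
    intro x hx
    refine hs ?_
    have h1 : orderOf (x⁻¹ * (s : PSL2 F)⁻¹ * x) ∣ Nat.card S' := by
      rw [show orderOf (x⁻¹ * (s : PSL2 F)⁻¹ * x) = orderOf (⟨_, hx⟩ : S') from
        Subgroup.orderOf_coe ⟨_, hx⟩]
      exact orderOf_dvd_natCard _
    rw [show x⁻¹ * (s : PSL2 F)⁻¹ * x = MulAut.conj x⁻¹ (s : PSL2 F)⁻¹ by simp, MulEquiv.orderOf_eq,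
      orderOf_inv, Subgroup.orderOf_coe] at h1
    have h2 := Nat.dvd_gcd (orderOf_dvd_natCard s) h1
    rw [h.gcd_eq_one, Nat.dvd_one] at h2
    exact orderOf_eq_one_iff.1 h2

namespace TorusData

variable {m : ℕ} (T : TorusData F m) [Fintype (PSL2 F)]

/-- Induced from the torus. -/
noncomputable def IA (ν : T.A →* ℂˣ) : PSL2 F → ℂ :=
  Cfsg.indFun T.A fun s => ((ν s : ℂˣ) : ℂ)

/-- The norm two class function attached to a character of the torus. -/
noncomputable def PP (ν : T.A →* ℂˣ) : PSL2 F → ℂ :=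
  (2 : ℂ) • (XU (1 : F) + XU (-1)) - T.IA ν

theorem oddClass_IA (ν : T.A →* ℂˣ) : OddClass (T.IA ν) :=
  oddClass_indFun _ (by rw [T.card_A]; exact T.m_odd) _

theorem BB_AA (ν ν' : T.A →* ℂˣ) [Decidable (ν = ν')] [Decidable (ν * ν' = 1)] :
    BB (T.IA ν) (T.IA ν') = ((Nat.card (PSL2 F) : ℂ) - 4 * m) / (m : ℂ) ^ 2 +
      2 * ((if ν = ν' then 1 else 0) + (if ν * ν' = 1 then 1 else 0)) := by
  classical
  letI : Fintype T.A := Fintype.ofFinite _
  have hm0 : (m : ℂ) ≠ 0 := Nat.cast_ne_zero.2 T.m_pos.ne'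
  rw [IA, BB_indFun _ _ (T.oddClass_IA ν').1, T.card_A]
  have hval : ∀ a : T.A, a ≠ 1 → T.IA ν' (a : PSL2 F)⁻¹ =
      2 * (((ν' a : ℂˣ) : ℂ) + (((ν' a)⁻¹ : ℂˣ) : ℂ)) := by
    intro a ha
    have ha' : (a : PSL2 F)⁻¹ ∈ T.A := inv_mem a.2
    have ha1 : (a : PSL2 F)⁻¹ ≠ 1 := fun e => ha (Subtype.ext (inv_eq_one.1 e))
    have hterm : ∀ x : PSL2 F,
        Cfsg.extendByZero T.A (fun s => ((ν' s : ℂˣ) : ℂ)) (x⁻¹ * (a : PSL2 F)⁻¹ * x) =
          (if x ∈ T.T then (((ν' a)⁻¹ : ℂˣ) : ℂ) else 0) +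
            (if x ∈ T.R ∧ x ∉ T.T then ((ν' a : ℂˣ) : ℂ) else 0) := by
      intro x
      by_cases hx : x⁻¹ * (a : PSL2 F)⁻¹ * x ∈ T.A
      · rw [extendByZero_mem _ hx]
        rcases T.conj_A ha' ha1 (x := x⁻¹) (by rwa [inv_inv]) with ⟨h1, h2⟩ | ⟨h1, h2, h3⟩
        · rw [inv_inv] at h2
          have hxT : x ∈ T.T := by simpa using inv_mem h1
          rw [if_pos hxT, if_neg fun h => h.2 hxT, add_zero,
            show (⟨_, hx⟩ : T.A) = a⁻¹ from Subtype.ext h2, map_inv]
        · rw [inv_inv] at h3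
          have hxT : x ∉ T.T := fun h => h2 (inv_mem h)
          rw [if_neg hxT, if_pos ⟨by simpa using inv_mem h1, hxT⟩, zero_add,
            show (⟨_, hx⟩ : T.A) = a from Subtype.ext (h3.trans (inv_inv _))]
      · rw [extendByZero_notMem _ hx, if_neg, if_neg, add_zero]
        · rintro ⟨hR, hT⟩
          have h1 := (T.inverts (inv_mem hR) fun h => hT (by simpa using inv_mem h)).2 _ (T.A_le_T ha')
          rw [inv_inv] at h1
          exact hx (by rw [h1]; exact inv_mem ha')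
        · intro hT
          refine hx ?_
          rw [T.T_comm (inv_mem hT) (T.A_le_T ha'), inv_mul_cancel_right]
          exact ha'
    rw [IA, indFun_apply, T.card_A, Finset.sum_congr rfl fun x _ => hterm x, Finset.sum_add_distrib,
      ← Finset.sum_filter, ← Finset.sum_filter, Finset.sum_const, Finset.sum_const, nsmul_eq_mul,
      nsmul_eq_mul, ← Fintype.card_subtype, ← Fintype.card_subtype, ← Nat.card_eq_fintype_card,
      ← Nat.card_eq_fintype_card, show Nat.card {x // x ∈ T.T} = 2 * m from T.card_T, T.card_refl]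
    push_cast
    field_simp
    ring
  have hall : ∀ a : T.A, ((ν a : ℂˣ) : ℂ) * T.IA ν' (a : PSL2 F)⁻¹ =
      2 * (((ν * ν' : T.A →* ℂˣ) a : ℂˣ) : ℂ) + 2 * (((ν * ν'⁻¹ : T.A →* ℂˣ) a : ℂˣ) : ℂ) +
        if a = 1 then (T.A.index : ℂ) - 4 else 0 := by
    intro a
    by_cases ha : a = 1
    · subst ha
      rw [if_pos rfl, map_one, OneMemClass.coe_one, inv_one, IA, indFun_apply_one, map_one, map_one,
        map_one]
      simp
      ring
    · rw [if_neg ha, add_zero, hval a ha]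
      simp only [MonoidHom.mul_apply, MonoidHom.inv_apply, Units.val_mul]
      ring
  rw [Finset.sum_congr rfl fun a _ => hall a, Finset.sum_add_distrib, Finset.sum_add_distrib,
    Finset.sum_ite_eq', if_pos (Finset.mem_univ _), ← Finset.mul_sum, ← Finset.mul_sum, sum_linear,
    sum_linear, T.card_A]
  have hidx : (m : ℂ) * (T.A.index : ℂ) = Nat.card (PSL2 F) := by
    rw [← T.A.card_mul_index, T.card_A, Nat.cast_mul]
  have hiff : ν * ν'⁻¹ = 1 ↔ ν = ν' :=
    ⟨fun h => MonoidHom.ext fun x => mul_inv_eq_one.1 (DFunLike.congr_fun h x),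
      fun h => by rw [h]; exact MonoidHom.ext fun x => mul_inv_cancel _⟩
  simp only [hiff]
  rw [← hidx]
  split_ifs <;> field_simp <;> ring

theorem coprime_card {n : ℕ} (hF : Fintype.card F = 3 ^ (2 * n + 1)) :
    Nat.Coprime (Nat.card T.A) (Fintype.card F) ∧ Nat.Coprime (Nat.card T.A) (Nat.card (brl F)) := by
  rw [T.card_A]
  have h := T.card_eq
  have h1 : Nat.Coprime m (Fintype.card F) := by
    refine Nat.coprime_of_dvd' fun p hp hpm hpq => ?_
    have h2 : p ∣ Fintype.card F + 1 := h ▸ dvd_mul_of_dvd_right hpm 4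
    exact (Nat.dvd_add_right hpq).1 h2
  refine ⟨h1, ?_⟩
  rw [← card_sqs_mul]
  refine h1.mul_right (Nat.coprime_of_dvd' fun p hp hpm hps => ?_)
  have h3 := two_mul_card_sqs hF
  have h4 : p ∣ 4 * m := dvd_mul_of_dvd_right hpm 4
  have h5 : p ∣ 2 * Nat.card (sqs F) := dvd_mul_of_dvd_right hps 2
  rw [h3] at h5
  have h6 : p ∣ 2 := by
    have := Nat.dvd_sub h4 h5
    rwa [← h, show Fintype.card F + 1 - (Fintype.card F - 1) = 2 by
      have := Fintype.card_pos (α := F); omega] at this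
  have hp2 := (Nat.prime_dvd_prime_iff_eq hp Nat.prime_two).1 h6
  subst hp2
  exact absurd T.m_odd (Nat.not_odd_iff_even.2 (even_iff_two_dvd.2 hpm))

variable {n : ℕ} (hF : Fintype.card F = 3 ^ (2 * n + 1))
include hF T

theorem card_psl : (Nat.card (PSL2 F) : ℂ) = 4 * m * ((4 * m - 1) * (2 * m - 1)) := by
  have h := congrArg (fun k : ℕ => (k : ℂ)) (two_mul_card_psl hF)
  have h' : (Fintype.card F : ℂ) = 4 * m - 1 := by
    rw [eq_sub_iff_add_eq]; exact_mod_cast T.card_eq
  push_cast [Nat.cast_sub (Fintype.card_pos (α := F))] at h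
  rw [h'] at h
  linear_combination h / 2

theorem q_eq : (Fintype.card F : ℂ) = 4 * m - 1 := by
  rw [eq_sub_iff_add_eq]; exact_mod_cast T.card_eq

theorem BB_XA (a : F) (ν : T.A →* ℂˣ) : BB (XU a) (T.IA ν) = 2 * ((4 * m : ℂ) - 2) := by
  classical
  letI : Fintype (uGrp F) := Fintype.ofFinite _
  rw [XU, IA, BB_coprime _ _ (by rw [card_uGrp]; exact (T.coprime_card hF).1.symm), card_uGrp,
    T.q_eq hF]
  have hidx : (m : ℂ) * (T.A.index : ℂ) = Nat.card (PSL2 F) := by
    rw [← T.A.card_mul_index, T.card_A, Nat.cast_mul]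
  rw [T.card_psl hF] at hidx
  have hm0 : (m : ℂ) ≠ 0 := Nat.cast_ne_zero.2 T.m_pos.ne'
  have hq0 : (4 * m - 1 : ℂ) ≠ 0 := by
    rw [← T.q_eq hF]; exact Nat.cast_ne_zero.2 Fintype.card_pos.ne'
  field_simp
  refine mul_left_cancel₀ hm0 ?_
  linear_combination hidx

theorem BB_BA (μ : sqs F →* ℂˣ) (ν : T.A →* ℂˣ) : BB (IB μ) (T.IA ν) = 4 := by
  classical
  letI : Fintype (brl F) := Fintype.ofFinite _
  rw [IB, IA, BB_coprime _ _ (T.coprime_card hF).2.symm]
  have hidx : (m : ℂ) * (T.A.index : ℂ) = Nat.card (PSL2 F) := by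
    rw [← T.A.card_mul_index, T.card_A, Nat.cast_mul]
  have hL : (Nat.card (brl F) : ℂ) * ((Fintype.card F : ℂ) + 1) = Nat.card (PSL2 F) := by
    rw [← index_brl hF, ← Nat.cast_mul, Subgroup.card_mul_index]
  rw [T.q_eq hF, ← hidx] at hL
  have hm0 : (m : ℂ) ≠ 0 := Nat.cast_ne_zero.2 T.m_pos.ne'
  have hB0 : (Nat.card (brl F) : ℂ) ≠ 0 := natCard_subgroup_ne_zero _
  field_simp
  refine mul_left_cancel₀ hm0 ?_
  linear_combination -hL

theorem oddClass_PP (ν : T.A →* ℂˣ) : OddClass (T.PP ν) :=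
  (((oddClass_XU hF 1).add (oddClass_XU hF (-1))).smul _).sub (T.oddClass_IA ν)

theorem BB_XP {a : F} (ν : T.A →* ℂˣ) [Decidable (a = 0)] :
    BB (XU a) (T.PP ν) = if a = 0 then 0 else 2 := by
  have hq0 : (Fintype.card F : ℂ) ≠ 0 := Nat.cast_ne_zero.2 Fintype.card_pos.ne'
  rw [PP, BB_sub_right, BB_smul_right, BB_add_right, BB_XX hF, BB_XX hF, T.BB_XA hF]
  split_ifs with ha
  · subst ha
    rw [scaleCount_zero_left one_ne_zero, scaleCount_zero_left (neg_ne_zero.2 one_ne_zero), T.q_eq hF]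
    push_cast
    ring
  · have h := congrArg (fun k : ℕ => (k : ℂ)) (scaleCount_pm hF ha)
    push_cast at h
    have h' : (scaleCount a 1 : ℂ) / Fintype.card F + (scaleCount a (-1) : ℂ) / Fintype.card F = 1 := by
      rw [← add_div, h, div_self hq0]
    linear_combination 2 * h' + 2 * (T.q_eq hF)

theorem BB_BP (μ : sqs F →* ℂˣ) (ν : T.A →* ℂˣ) : BB (IB μ) (T.PP ν) = 0 := by
  classical
  rw [PP, BB_sub_right, BB_smul_right, BB_add_right, BB_comm (IB μ) (XU 1), BB_comm (IB μ) (XU (-1)),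
    BB_XB hF, BB_XB hF, T.BB_BA hF, if_neg one_ne_zero, if_neg (neg_ne_zero.2 one_ne_zero)]
  norm_num

theorem BB_PP (ν ν' : T.A →* ℂˣ) [Decidable (ν = ν')] [Decidable (ν * ν' = 1)] :
    BB (T.PP ν) (T.PP ν') = 2 * ((if ν = ν' then 1 else 0) + (if ν * ν' = 1 then 1 else 0)) := by
  classical
  rw [show T.PP ν = (2 : ℂ) • (XU (1 : F) + XU (-1)) - T.IA ν from rfl]
  rw [BB_sub_left, BB_smul_left, BB_add_left, T.BB_XP hF, T.BB_XP hF, if_neg one_ne_zero,
    if_neg (neg_ne_zero.2 one_ne_zero)]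
  rw [PP, BB_sub_right, BB_smul_right, BB_add_right, BB_comm (T.IA ν) (XU 1),
    BB_comm (T.IA ν) (XU (-1)), T.BB_XA hF, T.BB_XA hF, T.BB_AA, T.card_psl hF]
  have hm0 : (m : ℂ) ≠ 0 := Nat.cast_ne_zero.2 T.m_pos.ne'
  field_simp
  ring

theorem invCount_upp {b : F} (hb : b ≠ 0) : invCount (upp b) = 0 := by
  have : IsEmpty {k : PSL2 F // orderOf k = 2 ∧ k * upp b * k⁻¹ = (upp b)⁻¹} :=
    ⟨fun k => psl_not_involves_perm3 hF (involves_perm3_of_inverted (x := k.1) (y := upp b)
      ⟨1, by rw [k.2.1, pow_one]⟩ ((orderOf_upp hF hb).symm ▸ dvd_rfl) k.2.2)⟩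
  exact Nat.card_of_isEmpty

theorem invCount_A {a : PSL2 F} (ha : a ∈ T.A) (ha1 : a ≠ 1) : invCount a = 2 * m := by
  rw [← T.card_refl]
  exact Nat.card_congr (Equiv.subtypeEquivRight fun k => T.inverts_iff ha ha1)

theorem card_involutions : (invCount (1 : PSL2 F) : ℂ) = (4 * m - 1) * (2 * m - 1) := by
  have h2 : (2 : F) ≠ 0 := by
    intro h
    apply one_ne_zero (α := F)
    linear_combination three_eq_zero hF - h
  have h1 : invCount (1 : PSL2 F) = Nat.card {k : PSL2 F // IsConj T.z k} := by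
    refine Nat.card_congr (Equiv.subtypeEquivRight fun k => ?_)
    constructor
    · rintro ⟨hk, -⟩
      exact isConj_iff.2 (Dickson.isConj_involutions h2 T.z_order hk)
    · intro h
      obtain ⟨c, rfl⟩ := isConj_iff.1 h
      refine ⟨?_, by group⟩
      rw [show c * T.z * c⁻¹ = MulAut.conj c T.z by simp, MulEquiv.orderOf_eq, T.z_order]
  have h := InvChar68.card_isConj_mul_card_centralizer T.z
  rw [← h1, T.card_cent] at h
  have h' : (invCount (1 : PSL2 F) : ℂ) * (4 * m) = Nat.card (PSL2 F) := by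
    rw [← h]; push_cast; ring
  rw [T.card_psl hF] at h'
  have hm0 : (4 * m : ℂ) ≠ 0 := mul_ne_zero (by norm_num) (Nat.cast_ne_zero.2 T.m_pos.ne')
  refine mul_right_cancel₀ hm0 ?_
  linear_combination h'

theorem sum_PP_invCount (ν : T.A →* ℂˣ) (hν : ν ≠ 1) :
    ∑ y : PSL2 F, T.PP ν y * (invCount y : ℂ) =
      (Nat.card (PSL2 F) : ℂ) * (4 * m - 1) / m := by
  classical
  letI : Fintype (uGrp F) := Fintype.ofFinite _
  letI : Fintype T.A := Fintype.ofFinite _
  have hcf : Cfsg.IsClassFunction (PSL2 F) fun y => (invCount y : ℂ) := isClassFunction_invCount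
  have hX : ∀ a : F, ∑ y : PSL2 F, XU a y * (invCount y : ℂ) =
      (Nat.card (PSL2 F) : ℂ) / (4 * m - 1) * ((4 * m - 1) * (2 * m - 1)) := by
    intro a
    rw [XU, sum_indFun_mul _ _ hcf, card_uGrp, T.q_eq hF, Fintype.sum_eq_single (1 : uGrp F)]
    · rw [OneMemClass.coe_one, map_one, Units.val_one, one_mul, T.card_involutions hF]
    · rintro ⟨s, b, rfl⟩ hs
      have hb : b.toAdd ≠ 0 := fun e => hs (Subtype.ext (by
        show uppHom F b = 1
        rw [show b = Multiplicative.ofAdd (0 : F) from e, ofAdd_zero, map_one]))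
      show _ * ((invCount (upp b.toAdd) : ℕ) : ℂ) = 0
      rw [T.invCount_upp hF hb, Nat.cast_zero, mul_zero]
  have hA : ∑ y : PSL2 F, T.IA ν y * (invCount y : ℂ) =
      (Nat.card (PSL2 F) : ℂ) / m * ((4 * m - 1) * (2 * m - 1) - 2 * m) := by
    rw [IA, sum_indFun_mul _ _ hcf, T.card_A]
    congr 1
    have hterm : ∀ a : T.A, ((ν a : ℂˣ) : ℂ) * (invCount (a : PSL2 F) : ℂ) =
        ((ν a : ℂˣ) : ℂ) * (2 * m) + if a = 1 then (4 * m - 1 : ℂ) * (2 * m - 1) - 2 * m else 0 := by
      intro a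
      by_cases ha : a = 1
      · subst ha
        rw [if_pos rfl, OneMemClass.coe_one, T.card_involutions hF, map_one, Units.val_one]
        ring
      · rw [if_neg ha, add_zero, T.invCount_A hF a.2 fun e => ha (Subtype.ext e)]
        push_cast; ring
    rw [Finset.sum_congr rfl fun a _ => hterm a, Finset.sum_add_distrib, ← Finset.sum_mul, sum_linear,
      if_neg hν, zero_mul, zero_add, Finset.sum_ite_eq', if_pos (Finset.mem_univ _)]
  simp only [PP, Pi.sub_apply, Pi.smul_apply, Pi.add_apply, smul_eq_mul, sub_mul, mul_assoc, add_mul,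
    Finset.sum_sub_distrib, ← Finset.mul_sum, Finset.sum_add_distrib]
  rw [hX, hX, hA]
  have hm0 : (m : ℂ) ≠ 0 := Nat.cast_ne_zero.2 T.m_pos.ne'
  have hq0 : (4 * m - 1 : ℂ) ≠ 0 := by
    rw [← T.q_eq hF]; exact Nat.cast_ne_zero.2 Fintype.card_pos.ne'
  field_simp
  ring

end TorusData

end Cfsg.Agent.GoldGroups11
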