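import Cfsg.Agent.GoldGroups11.Basic
import Cfsg.Agent.LocalEven64.SzSub.Normalised
import Cfsg.Agent.Lib.RankOne.SzBridge
import Cfsg.Agent.Recog71.J1Simple
import Cfsg.Prelude.Def_LocalEven
import Mathlib.GroupTheory.Transfer

/-!
The sections `S₃` and `S₄` in the Suzuki groups and in the smallest Janko group.
-/

set_option autoImplicit false
set_option linter.style.haveILetI false

namespace Cfsg.Agent.GoldGroups11

open Equiv

variable {G : Type*} [Group G] [Finite G]

theorem suzuki_not_dvd_three (h : Cfsg.Lie.IsoSuzuki G) : ¬ 3 ∣ Nat.card G := by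
  obtain ⟨F, _, _, m, hm, hF, ⟨e⟩⟩ := h
  rw [Nat.card_congr (e.trans (RankOne.SzBridge.szEquiv hF hm).symm).toEquiv]
  exact LocalEven64.SzSub.not_three_dvd hF hm

theorem suzuki_free (h : Cfsg.Lie.IsoSuzuki G) :
    ¬ Cfsg.Involves (Perm (Fin 3)) G ∧ ¬ Cfsg.Involves (Perm (Fin 4)) G :=
  ⟨not_involves_perm3_of_not_dvd (suzuki_not_dvd_three h),
    not_involves_perm4_of_not_dvd (suzuki_not_dvd_three h)⟩

/-- A simple group with a Sylow `3`-subgroup of order three involves `S₃`. -/
theorem involves_perm3_of_sylow_three [IsSimpleGroup G] (P : Sylow 3 G)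
    (hP : Nat.card (P : Subgroup G) = 3) (hG : Nat.card G ≠ 3) :
    Cfsg.Involves (Perm (Fin 3)) G := by
  haveI : Fact (Nat.Prime 3) := ⟨Nat.prime_three⟩
  by_cases hN : Subgroup.normalizer ((P : Subgroup G) : Set G) ≤
      Subgroup.centralizer ((P : Subgroup G) : Set G)
  · exfalso
    have hc := MonoidHom.ker_transferSylow_isComplement' P hN
    rcases (MonoidHom.transferSylow P hN).normal_ker.eq_bot_or_eq_top with h | h
    · have := hc.card_mul
      rw [h, Subgroup.card_bot, one_mul, hP] at this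
      exact hG this.symm
    · have h1 := hc.disjoint
      rw [h, top_disjoint] at h1
      rw [h1, Subgroup.card_bot] at hP
      omega
  obtain ⟨n, hn, hnc⟩ := SetLike.not_le_iff_exists.1 hN
  haveI : IsCyclic (P : Subgroup G) := isCyclic_of_prime_card hP
  obtain ⟨y, hy⟩ : ∃ y ∈ (P : Subgroup G), n * y ≠ y * n := by
    by_contra! h
    exact hnc (Subgroup.mem_centralizer_iff.2 fun a ha => (h a ha).symm)
  obtain ⟨hy, hny⟩ := hy
  have hy1 : y ≠ 1 := fun h => hny (by rw [h, mul_one, one_mul])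
  have hyo : orderOf y = 3 := by
    have h1 : orderOf (⟨y, hy⟩ : (P : Subgroup G)) ∣ 3 :=
      (orderOf_dvd_natCard _).trans (dvd_of_eq hP)
    rw [← Subgroup.orderOf_coe] at h1
    rcases (Nat.dvd_prime Nat.prime_three).1 h1 with h | h
    · exact absurd (orderOf_eq_one_iff.1 h) hy1
    · exact h
  have hgen : Subgroup.zpowers y = (P : Subgroup G) :=
    Subgroup.eq_of_le_of_card_ge (Subgroup.zpowers_le.2 hy) (by rw [Nat.card_zpowers, hyo, hP])
  have hmem : n * y * n⁻¹ ∈ Subgroup.zpowers y := by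
    rw [hgen]; exact (Subgroup.mem_normalizer_iff.1 hn y).1 hy
  have hpow : ∀ z ∈ Subgroup.zpowers y, z = 1 ∨ z = y ∨ z = y⁻¹ := by
    intro z hz
    classical
    obtain ⟨i, hi, rfl⟩ : ∃ i ∈ Finset.range (orderOf y), y ^ i = z := by
      rwa [← Finset.mem_image, ← mem_powers_iff_mem_range_orderOf, mem_powers_iff_mem_zpowers]
    rw [hyo, Finset.mem_range] at hi
    interval_cases i
    · exact Or.inl (pow_zero y)
    · exact Or.inr (Or.inl (pow_one y))
    · refine Or.inr (Or.inr (eq_inv_of_mul_eq_one_left ?_))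
      rw [← pow_succ, ← orderOf_dvd_iff_pow_eq_one, hyo]
  have hinv : n * y * n⁻¹ = y⁻¹ := by
    rcases hpow _ hmem with h | h | h
    · exact absurd (conj_eq_one_iff.1 h) hy1
    · exact absurd (mul_inv_eq_iff_eq_mul.1 h) hny
    · exact h
  obtain ⟨m, hm, k, hk⟩ := LocalEven61.exists_pow_two_element n
  refine involves_perm3_of_inverted (x := n ^ m) (y := y) ⟨k, hk⟩ (hyo ▸ dvd_rfl) ?_
  obtain ⟨j, rfl⟩ := hm
  have h2 : ∀ i : ℕ, n ^ (2 * i) * y * (n ^ (2 * i))⁻¹ = y := by
    intro i
    induction i with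
    | zero => simp
    | succ i ih =>
      calc n ^ (2 * (i + 1)) * y * (n ^ (2 * (i + 1)))⁻¹
          = n * (n * (n ^ (2 * i) * y * (n ^ (2 * i))⁻¹) * n⁻¹) * n⁻¹ := by
            rw [show 2 * (i + 1) = (2 * i + 1) + 1 by ring, pow_succ', pow_succ']; group
        _ = y := by rw [ih, hinv, ← conj_inv, hinv, inv_inv]
  calc n ^ (2 * j + 1) * y * (n ^ (2 * j + 1))⁻¹
      = n * (n ^ (2 * j) * y * (n ^ (2 * j))⁻¹) * n⁻¹ := by rw [pow_succ']; group
    _ = y⁻¹ := by rw [h2, hinv]

theorem janko_facts (h : Cfsg.Spor.IsoJ1 G) :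
    Cfsg.Involves (Perm (Fin 3)) G ∧ ¬ Cfsg.Involves (Perm (Fin 4)) G := by
  obtain ⟨e⟩ := h
  haveI : Fact (Nat.Prime 2) := ⟨Nat.prime_two⟩
  haveI : Fact (Nat.Prime 3) := ⟨Nat.prime_three⟩
  haveI := Recog71.J1.isSimpleGroup_J1
  have hc : Nat.card Spor.J1 = 175560 := Recog71.J1.card_J1
  constructor
  · refine involves_of_equiv e ?_
    obtain ⟨P⟩ := (inferInstance : Nonempty (Sylow 3 Spor.J1))
    refine involves_perm3_of_sylow_three P ?_ (by rw [hc]; norm_num)
    rw [P.card_eq_multiplicity, hc, show 175560 = 3 ^ 1 * 58520 from rfl,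
      Nat.factorization_mul (by norm_num) (by norm_num), Finsupp.add_apply,
      Nat.Prime.factorization_pow Nat.prime_three, Finsupp.single_eq_same,
      Nat.factorization_eq_zero_of_not_dvd (by norm_num), add_zero, pow_one]
  · refine not_involves_of_equiv e ?_
    obtain ⟨P⟩ := (inferInstance : Nonempty (Sylow 2 Spor.J1))
    have hP : Nat.card (P : Subgroup Spor.J1) = 2 ^ 3 := by
      rw [P.card_eq_multiplicity, hc, show 175560 = 2 ^ 3 * 21945 from rfl,
        Nat.factorization_mul (by norm_num) (by norm_num), Finsupp.add_apply,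
        Nat.Prime.factorization_pow Nat.prime_two, Finsupp.single_eq_same,
        Nat.factorization_eq_zero_of_not_dvd (by norm_num), add_zero]
    have hsq : ∀ a ∈ (P : Subgroup Spor.J1), a * a = 1 := by
      intro a ha
      have h1 : orderOf (⟨a, ha⟩ : (P : Subgroup Spor.J1)) ∣ 2 ^ 3 := hP ▸ orderOf_dvd_natCard _
      rw [← Subgroup.orderOf_coe] at h1
      obtain ⟨i, hi, he⟩ := (Nat.dvd_prime_pow Nat.prime_two).1 h1
      rw [← pow_two, ← orderOf_dvd_iff_pow_eq_one, show orderOf a = 2 ^ i from he]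
      interval_cases i
      · norm_num
      · norm_num
      · exact absurd he (Recog71.J1.orderOf_ne (by decide) a)
      · exact absurd he (Recog71.J1.orderOf_ne (by decide) a)
    refine not_involves_perm4_of_abelian P fun a ha b hb => ?_
    have h1 := hsq _ (mul_mem ha hb)
    calc a * b = (a * b)⁻¹ := eq_inv_of_mul_eq_one_left h1
      _ = b * a := by
        rw [mul_inv_rev, inv_eq_of_mul_eq_one_left (hsq a ha), inv_eq_of_mul_eq_one_left (hsq b hb)]

end Cfsg.Agent.GoldGroups11
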