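import Cfsg.Agent.GoldGroups11.Torus
import Cfsg.Agent.GoldGroups11.Small
import Cfsg.Agent.InvChar68.Eight.Automizer
import Cfsg.Agent.InvChar68.V4Centralizer
import Mathlib.GroupTheory.Perm.Cycle.Type
import Mathlib.GroupTheory.FixedPointFree

/-!
Local analysis of a group of Ree type without a section `S₃`.
-/

set_option autoImplicit false
set_option linter.style.haveILetI false
set_option linter.unusedSectionVars false

namespace Cfsg.Agent.GoldGroups11

open Cfsg.Agent.Dickson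
open scoped MatrixGroups

/-- A group of Ree type without a section `S₃`. -/
structure Ree (G : Type*) [Group G] [Finite G] (F : Type*) [Field F] [Fintype F] (n m : ℕ) : Type _ where
  simple : IsSimpleGroup G
  not_comm : ¬ IsMulCommutative G
  free : ¬ Cfsg.Involves (Equiv.Perm (Fin 3)) G
  /-- the involution -/
  t : G
  /-- the embedding of `PSL₂(q)` -/
  ψ : PSL2 F →* G
  inj : Function.Injective ψ
  t_order : orderOf t = 2
  comm : ∀ y, t * ψ y = ψ y * t
  t_not : ∀ y, ψ y ≠ t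
  cent : ∀ x, x * t = t * x → ∃ y, x = ψ y ∨ x = t * ψ y
  odd_index : Odd (Subgroup.centralizer ({t} : Set G)).index
  card_F : Fintype.card F = 3 ^ (2 * n + 1)
  n_pos : 1 ≤ n
  /-- the torus -/
  torus : TorusData F m

namespace Ree

variable {G : Type*} [Group G] [Finite G] {F : Type*} [Field F] [Fintype F] {n m : ℕ}
  (D : Ree G F n m)
include D

theorem t_sq : D.t * D.t = 1 := by
  rw [← pow_two]; exact orderOf_dvd_iff_pow_eq_one.1 D.t_order.dvd

theorem t_ne_one : D.t ≠ 1 := fun h => by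
  have := D.t_order
  rw [h, orderOf_one] at this
  omega

theorem t_inv : D.t⁻¹ = D.t := inv_eq_of_mul_eq_one_right D.t_sq

theorem mul_t {y : PSL2 F} : (D.t * D.ψ y) * (D.t * D.ψ y) = D.ψ (y * y) := by
  calc D.t * D.ψ y * (D.t * D.ψ y) = D.t * (D.ψ y * D.t) * D.ψ y := by group
    _ = D.ψ (y * y) := by rw [← D.comm, ← mul_assoc, D.t_sq, one_mul, map_mul]

theorem tψ_not_range {y z : PSL2 F} : D.t * D.ψ y ≠ D.ψ z := fun h =>
  D.t_not (z * y⁻¹) (by rw [map_mul, ← h, map_inv, mul_inv_cancel_right])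

theorem tψ_pow_odd {y : PSL2 F} {k : ℕ} (hk : Odd k) : (D.t * D.ψ y) ^ k = D.t * D.ψ (y ^ k) := by
  have hc : Commute D.t (D.ψ y) := D.comm y
  obtain ⟨j, rfl⟩ := hk
  rw [hc.mul_pow, ← map_pow]
  congr 1
  rw [pow_succ, pow_mul, pow_two, D.t_sq, one_pow, one_mul]

theorem range_of_odd {x : G} (hx : x * D.t = D.t * x) (ho : Odd (orderOf x)) :
    ∃ y, x = D.ψ y := by
  obtain ⟨y, hy | hy⟩ := D.cent x hx
  · exact ⟨y, hy⟩
  · exfalso
    have h := pow_orderOf_eq_one x
    rw [hy, D.tψ_pow_odd (hy ▸ ho)] at h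
    rw [← map_one D.ψ] at h
    exact D.tψ_not_range h

theorem q_mod : Fintype.card F % 3 = 0 := by rw [D.card_F, pow_succ, Nat.mul_mod_left]

theorem q_ge : 27 ≤ Fintype.card F := by
  rw [D.card_F]
  exact le_trans (by norm_num : 27 ≤ 3 ^ 3) (Nat.pow_le_pow_right (by norm_num) (by have := D.n_pos; omega))

theorem not_three_R : ¬ 3 ∣ Nat.card D.torus.R :=
  D.torus.not_three_dvd_cent (Nat.dvd_of_mod_eq_zero D.q_mod)

/-- No `2`-element inverts a nontrivial `3`-element. -/
theorem no_inverted {x y : G} (hx : ∃ k : ℕ, orderOf x = 2 ^ k) (hy : ∃ k : ℕ, orderOf y = 3 ^ k)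
    (hy1 : y ≠ 1) : x * y * x⁻¹ ≠ y⁻¹ := fun h =>
  D.free (involves_perm3_iff.2 ⟨x, y, hx, hy, hy1, h⟩)

theorem two_ne_zero' : (2 : F) ≠ 0 := by
  intro h
  apply one_ne_zero (α := F)
  linear_combination three_eq_zero D.card_F - h

/-- Involutions of `PSL₂(q)` are conjugate to the base involution. -/
theorem exists_conj_z {y : PSL2 F} (hy : orderOf y = 2) : ∃ c, c * D.torus.z * c⁻¹ = y :=
  Dickson.isConj_involutions D.two_ne_zero' D.torus.z_order hy

theorem sq_of_two_element {y : PSL2 F} (hy : ∃ k : ℕ, orderOf y = 2 ^ k) : y * y = 1 := by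
  obtain ⟨k, hk⟩ := hy
  rcases Nat.lt_or_ge k 2 with hk2 | hk2
  · rw [← pow_two, ← orderOf_dvd_iff_pow_eq_one, hk]
    exact (pow_dvd_pow 2 (by omega : k ≤ 1)).trans (by rw [pow_one])
  · exfalso
    obtain ⟨j, rfl⟩ := Nat.exists_eq_add_of_le hk2
    set x := y ^ 2 ^ j with hx
    have hxo : orderOf x = 4 := by
      rw [hx, orderOf_pow' _ (pow_ne_zero _ (by norm_num)), hk,
        Nat.gcd_eq_right (pow_dvd_pow 2 (by omega : j ≤ 2 + j)), Nat.pow_div (by omega) (by norm_num)]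
      simp
    have hx2 : orderOf (x * x) = 2 := by
      rw [← pow_two, orderOf_pow' _ (by norm_num), hxo]
      rfl
    obtain ⟨c, hc⟩ := D.exists_conj_z hx2
    have hR : c⁻¹ * x * c ∈ D.torus.R := by
      refine Subgroup.mem_centralizer_singleton_iff.2 ?_
      have h1 : D.torus.z = c⁻¹ * (x * x) * c := by rw [← hc]; group
      rw [h1]; group
    have ho : orderOf (c⁻¹ * x * c) = 4 := by
      rw [show c⁻¹ * x * c = MulAut.conj c⁻¹ x by simp, MulEquiv.orderOf_eq, hxo]
    rcases D.torus.refl _ hR with h | ⟨h, -⟩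
    · have := orderOf_dvd_of_mem_zpowers h
      rw [ho, D.torus.g_order] at this
      obtain ⟨i, hi⟩ := D.torus.m_odd
      omega
    · have := orderOf_dvd_of_pow_eq_one (show (c⁻¹ * x * c) ^ 2 = 1 by rw [pow_two, h])
      rw [ho] at this
      omega

theorem card_C : Nat.card (Subgroup.centralizer ({D.t} : Set G)) = 2 * Nat.card (PSL2 F) := by
  classical
  have hb : Function.Bijective (fun p : Fin 2 × PSL2 F =>
      (⟨if p.1 = 0 then D.ψ p.2 else D.t * D.ψ p.2, by
        refine Subgroup.mem_centralizer_singleton_iff.2 ?_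
        split_ifs
        · exact (D.comm _).symm
        · rw [mul_assoc, ← D.comm]⟩ : Subgroup.centralizer ({D.t} : Set G))) := by
    constructor
    · rintro ⟨i, y⟩ ⟨j, z⟩ h
      have h' := congrArg Subtype.val h
      fin_cases i <;> fin_cases j <;> simp only [Fin.zero_eta, Fin.mk_one, if_pos,
        if_neg (show ¬ (1 : Fin 2) = 0 by decide)] at h'
      · rw [D.inj h']
      · exact absurd h'.symm D.tψ_not_range
      · exact absurd h' D.tψ_not_range
      · rw [D.inj (mul_left_cancel h')]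
    · rintro ⟨x, hx⟩
      obtain ⟨y, hy | hy⟩ := D.cent x (Subgroup.mem_centralizer_singleton_iff.1 hx)
      · exact ⟨(0, y), Subtype.ext (by simp [hy])⟩
      · exact ⟨(1, y), Subtype.ext (by simp [hy])⟩
  rw [← Nat.card_eq_of_bijective _ hb, Nat.card_prod]
  simp

theorem two_part : ∃ o, Odd o ∧ Nat.card G = 8 * o := by
  obtain ⟨j, hj⟩ := D.torus.m_odd
  obtain ⟨i, hi⟩ := D.odd_index
  have h1 := two_mul_card_psl D.card_F
  have h2 := D.torus.card_eq
  have h3 := (Subgroup.centralizer ({D.t} : Set G)).card_mul_index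
  rw [D.card_C, hi, h1, h2, show Fintype.card F - 1 = 2 * (2 * m - 1) by omega] at h3
  refine ⟨(m * (Fintype.card F * (2 * m - 1))) * (2 * i + 1), ?_, by rw [← h3]; ring⟩
  have hq : Odd (Fintype.card F) := ⟨2 * m - 1, by omega⟩
  exact (D.torus.m_odd.mul (hq.mul ⟨2 * j, by omega⟩)).mul ⟨i, rfl⟩

theorem sylow_two_card (P : Sylow 2 G) : Nat.card (P : Subgroup G) = 8 := by
  haveI : Fact (Nat.Prime 2) := ⟨Nat.prime_two⟩
  obtain ⟨o, ho, hG⟩ := D.two_part
  have h2 : ¬ 2 ∣ o := fun h => Nat.not_even_iff_odd.2 ho (even_iff_two_dvd.2 h)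
  rw [P.card_eq_multiplicity, hG, show (8 : ℕ) = 2 ^ 3 from rfl,
    Nat.factorization_mul (by norm_num) (by rintro rfl; exact h2 (dvd_zero 2)), Finsupp.add_apply,
    Nat.Prime.factorization_pow Nat.prime_two, Finsupp.single_eq_same,
    Nat.factorization_eq_zero_of_not_dvd h2, add_zero]

/-- A Sylow `2`-subgroup inside the centraliser of `t`. -/
theorem exists_sylow : ∃ P : Sylow 2 G, D.t ∈ (P : Subgroup G) ∧
    (P : Subgroup G) ≤ Subgroup.centralizer ({D.t} : Set G) ∧ ∀ a ∈ (P : Subgroup G), a * a = 1 := by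
  haveI : Fact (Nat.Prime 2) := ⟨Nat.prime_two⟩
  set C := Subgroup.centralizer ({D.t} : Set G) with hC
  have htC : D.t ∈ C := Subgroup.mem_centralizer_singleton_iff.2 rfl
  obtain ⟨S, hS⟩ := (IsPGroup.of_card (n := 1) (show Nat.card (Subgroup.zpowers (⟨D.t, htC⟩ : C)) = 2 ^ 1 by
    rw [Nat.card_zpowers, ← Subgroup.orderOf_coe, pow_one]; exact D.t_order) :
      IsPGroup 2 (Subgroup.zpowers (⟨D.t, htC⟩ : C))).exists_le_sylow
  have hodd : ¬ 2 ∣ ((S : Subgroup C).map C.subtype).index := by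
    rw [Subgroup.index_map_subtype]
    exact Nat.Prime.not_dvd_mul Nat.prime_two S.not_dvd_index
      fun h => Nat.not_even_iff_odd.2 D.odd_index (even_iff_two_dvd.2 h)
  refine ⟨(S.isPGroup'.map C.subtype).toSylow hodd, ?_, ?_, ?_⟩
  · exact ⟨⟨D.t, htC⟩, hS (Subgroup.mem_zpowers _), rfl⟩
  · exact Subgroup.map_subtype_le _
  · rintro a ⟨a, ha, rfl⟩
    obtain ⟨k, hk⟩ := IsPGroup.iff_orderOf.1 S.isPGroup' ⟨a, ha⟩
    have hka : orderOf (a : G) = 2 ^ k := by
      rw [Subgroup.orderOf_coe, ← hk]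
      exact Subgroup.orderOf_coe (⟨a, ha⟩ : (S : Subgroup C))
    show (a : G) * a = 1
    obtain ⟨y, hy | hy⟩ := D.cent _ (Subgroup.mem_centralizer_singleton_iff.1 a.2)
    · rw [hy, ← map_mul, D.sq_of_two_element ⟨k, ?_⟩, map_one]
      rw [← orderOf_injective D.ψ D.inj, ← hy, hka]
    · have h4 : (y * y) ^ 2 ^ k = 1 := by
        apply D.inj
        rw [map_pow, ← D.mul_t, ← hy, ← pow_two, ← pow_mul, mul_comm, pow_mul, ← hka,
          pow_orderOf_eq_one, one_pow, map_one]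
      obtain ⟨i, -, hi⟩ := (Nat.dvd_prime_pow Nat.prime_two).1
        (orderOf_dvd_of_pow_eq_one (show y ^ 2 ^ (k + 1) = 1 by rw [pow_succ', pow_mul, pow_two, h4]))
      rw [hy, D.mul_t, D.sq_of_two_element ⟨i, hi⟩, map_one]

theorem two_group_comm {S : Subgroup G} (hS : IsPGroup 2 S) {a b : G} (ha : a ∈ S) (hb : b ∈ S) :
    a * b = b * a := by
  haveI : Fact (Nat.Prime 2) := ⟨Nat.prime_two⟩
  obtain ⟨P, -, -, hsq⟩ := D.exists_sylow
  obtain ⟨Q, hQ⟩ := hS.exists_le_sylow
  obtain ⟨g, hg⟩ := MulAction.exists_smul_eq G P Q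
  have h : ∀ x ∈ (Q : Subgroup G), x * x = 1 := by
    intro x hx
    rw [← hg, Sylow.coe_subgroup_smul, Subgroup.mem_pointwise_smul_iff_inv_smul_mem] at hx
    have h2 := congrArg (MulAut.conj g) (hsq _ hx)
    rw [map_mul, map_one] at h2
    simpa [MulAut.smul_def, mul_assoc] using h2
  have h1 := h _ (mul_mem (hQ ha) (hQ hb))
  calc a * b = (a * b)⁻¹ := eq_inv_of_mul_eq_one_left h1
    _ = b * a := by
      rw [mul_inv_rev, inv_eq_of_mul_eq_one_left (h a (hQ ha)),
        inv_eq_of_mul_eq_one_left (h b (hQ hb))]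

theorem orderOf_conj (g x : G) : orderOf (g * x * g⁻¹) = orderOf x := by
  rw [show g * x * g⁻¹ = MulAut.conj g x by simp, MulEquiv.orderOf_eq]

/-- Some element of `PSL₂(q)` of order three moves an involution to a commuting one. -/
theorem exists_four : ∃ u w : PSL2 F, orderOf u = 3 ∧ orderOf w = 2 ∧
    orderOf (u * w * u⁻¹) = 2 ∧ u * w * u⁻¹ ≠ w ∧ Commute w (u * w * u⁻¹) ∧
      u * (u * w * u⁻¹) * u⁻¹ = w * (u * w * u⁻¹) := by
  have h3 := three_eq_zero D.card_F
  let W : SL(2, F) := ⟨!![0, 1; -1, 0], by rw [Matrix.det_fin_two_of]; ring⟩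
  let W' : SL(2, F) := ⟨!![-1, -1; -1, 1], by rw [Matrix.det_fin_two_of]; linear_combination -h3⟩
  have e1 : PLocalB.upper (1 : F) * W = W' * PLocalB.upper 1 := by
    apply Subtype.ext
    rw [Matrix.SpecialLinearGroup.coe_mul, Matrix.SpecialLinearGroup.coe_mul, PLocalB.coe_upper]
    show (!![1, 1; 0, 1] : Matrix (Fin 2) (Fin 2) F) * !![0, 1; -1, 0] =
      !![-1, -1; -1, 1] * !![1, 1; 0, 1]
    rw [Matrix.mul_fin_two, Matrix.mul_fin_two]
    ext i j
    fin_cases i <;> fin_cases j <;> simp <;> linear_combination h3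
  have e2 : W * W' = -(W' * W) := by
    apply Subtype.ext
    rw [Matrix.SpecialLinearGroup.coe_neg, Matrix.SpecialLinearGroup.coe_mul,
      Matrix.SpecialLinearGroup.coe_mul]
    show (!![0, 1; -1, 0] : Matrix (Fin 2) (Fin 2) F) * !![-1, -1; -1, 1] =
      -(!![-1, -1; -1, 1] * !![0, 1; -1, 0])
    rw [Matrix.mul_fin_two, Matrix.mul_fin_two]
    ext i j
    fin_cases i <;> fin_cases j <;> simp
  have hu : upp (1 : F) * (QuotientGroup.mk W : PSL2 F) * (upp 1)⁻¹ = QuotientGroup.mk W' := by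
    rw [mul_inv_eq_iff_eq_mul, upp_eq_mk, ← QuotientGroup.mk_mul, ← QuotientGroup.mk_mul, e1]
  have hw : orderOf (QuotientGroup.mk W : PSL2 F) = 2 := by
    haveI : Fact (Nat.Prime 2) := ⟨Nat.prime_two⟩
    refine orderOf_eq_prime ?_ ?_
    · rw [← QuotientGroup.mk_pow, ← QuotientGroup.mk_one, mk_eq_mk_iff]
      right
      apply Subtype.ext
      rw [pow_two, Matrix.SpecialLinearGroup.coe_neg, Matrix.SpecialLinearGroup.coe_mul,
        Matrix.SpecialLinearGroup.coe_one]
      show (!![0, 1; -1, 0] : Matrix (Fin 2) (Fin 2) F) * !![0, 1; -1, 0] = -1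
      rw [Matrix.mul_fin_two, Matrix.one_fin_two]
      ext i j
      fin_cases i <;> fin_cases j <;> simp
    · rw [← QuotientGroup.mk_one, Ne, mk_eq_mk_iff]
      rintro (h | h) <;>
        · have := congrArg (fun Z : SL(2, F) => Z 0 1) h
          simp [W] at this
  have e3 : PLocalB.upper (1 : F) * W' = -(W * W' * PLocalB.upper 1) := by
    apply Subtype.ext
    rw [Matrix.SpecialLinearGroup.coe_neg, Matrix.SpecialLinearGroup.coe_mul,
      Matrix.SpecialLinearGroup.coe_mul, Matrix.SpecialLinearGroup.coe_mul, PLocalB.coe_upper]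
    show (!![1, 1; 0, 1] : Matrix (Fin 2) (Fin 2) F) * !![-1, -1; -1, 1] =
      -(!![0, 1; -1, 0] * !![-1, -1; -1, 1] * !![1, 1; 0, 1])
    rw [Matrix.mul_fin_two, Matrix.mul_fin_two, Matrix.mul_fin_two]
    ext i j
    fin_cases i <;> fin_cases j <;> simp
    all_goals first | linear_combination h3 | linear_combination -h3 | linear_combination (2 : F) * h3 | linear_combination (-2 : F) * h3
  refine ⟨upp 1, QuotientGroup.mk W, orderOf_upp D.card_F one_ne_zero, hw, ?_, ?_, ?_, ?_⟩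
  pick_goal 4
  · rw [hu, mul_inv_eq_iff_eq_mul, upp_eq_mk, ← QuotientGroup.mk_mul, ← QuotientGroup.mk_mul,
      ← QuotientGroup.mk_mul, e3]
    exact SL2Tor.psl_mk_neg _
  · rw [show upp (1 : F) * (QuotientGroup.mk W : PSL2 F) * (upp 1)⁻¹ =
      MulAut.conj (upp 1) (QuotientGroup.mk W) by simp, MulEquiv.orderOf_eq, hw]
  · rw [hu, Ne, mk_eq_mk_iff]
    rintro (h | h) <;>
      · have h00 : W 0 0 = 0 := rfl
        have h00' : W' 0 0 = -1 := rfl
        have := congrArg (fun Z : SL(2, F) => Z 0 0) h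
        simp [h00, h00'] at this
  · rw [hu]
    show (QuotientGroup.mk W : PSL2 F) * QuotientGroup.mk W' = QuotientGroup.mk W' * QuotientGroup.mk W
    rw [← QuotientGroup.mk_mul, ← QuotientGroup.mk_mul, e2]
    exact SL2Tor.psl_mk_neg _

/-- All involutions are conjugate to `t`. -/
theorem isConj_t {x : G} (hx : orderOf x = 2) : IsConj D.t x := by
  classical
  haveI : Fact (Nat.Prime 2) := ⟨Nat.prime_two⟩
  haveI := D.simple
  obtain ⟨P₀, htP₀, hPC₀, hsq₀⟩ := D.exists_sylow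
  obtain ⟨u, w, -, hw, hw', hne, hcomm, -⟩ := D.exists_four
  set w' := u * w * u⁻¹ with hw'def
  have sq : ∀ {y : PSL2 F}, orderOf y = 2 → y * y = 1 := fun h => by
    rw [← pow_two]; exact orderOf_dvd_iff_pow_eq_one.1 h.dvd
  have hclass : ∀ {y : PSL2 F}, orderOf y = 2 →
      IsConj (D.ψ w) (D.ψ y) ∧ IsConj (D.t * D.ψ w) (D.t * D.ψ y) := by
    intro y hy
    obtain ⟨c, hc⟩ := Dickson.isConj_involutions D.two_ne_zero' hw hy
    refine ⟨isConj_iff.2 ⟨D.ψ c, by rw [← map_inv, ← map_mul, ← map_mul, hc]⟩,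
      isConj_iff.2 ⟨D.ψ c, ?_⟩⟩
    rw [← hc, map_mul, map_mul, map_inv, ← mul_assoc (D.ψ c), ← D.comm]
    group
  have hord : ∀ {y : PSL2 F}, orderOf y = 2 → orderOf (D.t * D.ψ y) = 2 := fun {y} hy =>
    orderOf_eq_prime (by rw [pow_two, D.mul_t, sq hy, map_one])
      (fun h => D.tψ_not_range (h.trans (map_one D.ψ).symm))
  -- every involution commuting with t is one of three kinds
  have hkinds : ∀ y : G, y * D.t = D.t * y → orderOf y = 2 →
      IsConj D.t y ∨ IsConj (D.ψ w) y ∨ IsConj (D.t * D.ψ w) y := by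
    intro y hy hy2
    have hyy : y * y = 1 := by rw [← pow_two]; exact orderOf_dvd_iff_pow_eq_one.1 hy2.dvd
    obtain ⟨v, rfl | rfl⟩ := D.cent y hy
    · exact Or.inr (Or.inl (hclass (by rwa [orderOf_injective D.ψ D.inj] at hy2)).1)
    · by_cases hv : v = 1
      · left; rw [hv, map_one, mul_one]
      · refine Or.inr (Or.inr (hclass (orderOf_eq_prime ?_ hv)).2)
        rw [D.mul_t, ← map_one D.ψ] at hyy
        rw [pow_two]; exact D.inj hyy
  -- conjugate into P₀
  obtain ⟨y, hyP, hxy⟩ : ∃ y ∈ (P₀ : Subgroup G), IsConj x y := by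
    obtain ⟨Q, hQ⟩ := (IsPGroup.of_card (n := 1) (show Nat.card (Subgroup.zpowers x) = 2 ^ 1 by
      rw [Nat.card_zpowers, hx, pow_one]) : IsPGroup 2 (Subgroup.zpowers x)).exists_le_sylow
    obtain ⟨g, hg⟩ := MulAction.exists_smul_eq G P₀ Q
    have hxQ := hQ (Subgroup.mem_zpowers x)
    rw [← hg, Sylow.coe_subgroup_smul, Subgroup.mem_pointwise_smul_iff_inv_smul_mem] at hxQ
    exact ⟨_, hxQ, isConj_iff.2 ⟨g⁻¹, by simp [MulAut.smul_def]⟩⟩
  have hyC : y * D.t = D.t * y := Subgroup.mem_centralizer_singleton_iff.1 (hPC₀ hyP)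
  have hy2 : orderOf y = 2 := by
    obtain ⟨g, hg⟩ := isConj_iff.1 hxy
    rw [← hg, D.orderOf_conj, hx]
  suffices h : IsConj D.t (D.ψ w) ∧ IsConj D.t (D.t * D.ψ w) by
    rcases hkinds y hyC hy2 with h' | h' | h'
    · exact h'.trans hxy.symm
    · exact (h.1.trans h').trans hxy.symm
    · exact (h.2.trans h').trans hxy.symm
  -- a Sylow subgroup containing the four-group
  let V : Subgroup G := Dickson.fourGroup (D.ψ w) (D.ψ w') (by rw [← map_mul, sq hw, map_one])
    (by rw [← map_mul, sq hw', map_one]) (hcomm.map D.ψ)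
  let E : Subgroup G := V ⊔ Subgroup.zpowers D.t
  have hV4 : Nat.card V = 4 := Dickson.card_fourGroup _ _ _
    (fun h => by rw [← orderOf_injective D.ψ D.inj, h, orderOf_one] at hw; omega)
    (fun h => by rw [← orderOf_injective D.ψ D.inj, h, orderOf_one] at hw'; omega)
    (fun h => hne (D.inj h).symm)
  have hVC : ∀ v ∈ V, ∃ y, v = D.ψ y := by
    rintro v (rfl | rfl | rfl | rfl)
    · exact ⟨1, (map_one _).symm⟩
    · exact ⟨_, rfl⟩
    · exact ⟨_, rfl⟩
    · exact ⟨_, (map_mul _ _ _).symm⟩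
  have hEC : E ≤ Subgroup.centralizer ({D.t} : Set G) := by
    refine sup_le (fun v hv => ?_) (Subgroup.zpowers_le.2 (Subgroup.mem_centralizer_singleton_iff.2 rfl))
    obtain ⟨y, rfl⟩ := hVC v hv
    exact Subgroup.mem_centralizer_singleton_iff.2 (D.comm y).symm
  have hE2 : IsPGroup 2 E := by
    refine IsPGroup.to_sup_of_normal_right' (IsPGroup.of_card (n := 2) hV4)
      (IsPGroup.of_card (n := 1) (by rw [Nat.card_zpowers, D.t_order, pow_one])) ?_
    intro v hv
    refine Subgroup.centralizer_le_normalizer _ ?_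
    rw [Subgroup.zpowers_eq_closure, Subgroup.centralizer_closure]
    exact hEC (Subgroup.mem_sup_left hv)
  obtain ⟨P, hP⟩ := hE2.exists_le_sylow
  have hPc : ∀ a ∈ (P : Subgroup G), ∀ b ∈ (P : Subgroup G), a * b = b * a :=
    fun a ha b hb => D.two_group_comm P.isPGroup' ha hb
  have htP : D.t ∈ (P : Subgroup G) := hP (Subgroup.mem_sup_right (Subgroup.mem_zpowers _))
  set p₁ := D.ψ w
  set p₂ := D.ψ w'
  set p₃ := D.ψ w * D.ψ w'
  have hin : p₁ ∈ V ∧ p₂ ∈ V ∧ p₃ ∈ V :=
    ⟨Or.inr (Or.inl rfl), Or.inr (Or.inr (Or.inl rfl)), Or.inr (Or.inr (Or.inr rfl))⟩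
  have hw3 : orderOf (w * w') = 2 := orderOf_eq_prime (by
      rw [hcomm.mul_pow, pow_two, pow_two, sq hw, sq hw', one_mul]) (fun h => hne (by
      rw [eq_inv_of_mul_eq_one_right h, inv_eq_of_mul_eq_one_left (sq hw)]))
  -- the class of t in P
  set O : Set G := {p | p ∈ (P : Subgroup G) ∧ IsConj D.t p} with hO
  have hOodd : Odd O.ncard := by
    set N := Subgroup.normalizer ((P : Subgroup G) : Set G) with hN
    letI : MulAction N G := MulAction.compHom G ((MulAut.conj).comp N.subtype)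
    have hOrb : O = MulAction.orbit N D.t := by
      ext p
      constructor
      · rintro ⟨hp, hc⟩
        obtain ⟨g, hg⟩ := isConj_iff.1 hc
        haveI : IsMulCommutative (P : Subgroup G) :=
          ⟨⟨fun a b => Subtype.ext (hPc a a.2 b b.2)⟩⟩
        have hg' : g⁻¹⁻¹ * D.t * g⁻¹ = p := by rw [inv_inv, hg]
        obtain ⟨k, hk, e⟩ := P.conj_eq_normalizer_conj_of_mem D.t g⁻¹ htP (by rw [hg']; exact hp)
        rw [hg'] at e
        refine ⟨⟨k⁻¹, inv_mem hk⟩, ?_⟩
        show k⁻¹ * D.t * k⁻¹⁻¹ = p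
        rw [inv_inv, e]
      · rintro ⟨⟨k, hk⟩, rfl⟩
        exact ⟨(Subgroup.mem_normalizer_iff.1 hk D.t).1 htP, isConj_iff.2 ⟨k, rfl⟩⟩
    rw [hOrb, ← MulAction.index_stabilizer, ← Nat.not_even_iff_odd, even_iff_two_dvd]
    intro h
    have hle : (P : Subgroup G).subgroupOf N ≤ MulAction.stabilizer N D.t := by
      intro k hk
      show (k : G) * D.t * (k : G)⁻¹ = D.t
      rw [hPc _ (Subgroup.mem_subgroupOf.1 hk) _ htP, mul_inv_cancel_right]
    exact (P.subtype Subgroup.le_normalizer).not_dvd_index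
      ((h.trans (Subgroup.index_dvd_of_le hle)))
  have hnot : ¬ ∀ p ∈ (P : Subgroup G), IsConj D.t p → p = D.t := by
    intro hall
    refine D.t_ne_one (congrArg Subtype.val (InvChar68.Eight.no_fixed_point D.not_comm P hPc
      ⟨D.t, htP⟩ ?_))
    rintro a ⟨k, rfl⟩
    refine Subtype.ext ?_
    exact hall _ ((Subgroup.mem_normalizer_iff.1 k.2 D.t).1 htP) (isConj_iff.2 ⟨k, rfl⟩)
  -- the elements of P
  have hmem : ∀ p ∈ (P : Subgroup G), p = 1 ∨ p = D.t ∨ p = p₁ ∨ p = p₂ ∨ p = p₃ ∨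
      p = D.t * p₁ ∨ p = D.t * p₂ ∨ p = D.t * p₃ := by
    let L : Finset G := {1, D.t, p₁, p₂, p₃, D.t * p₁, D.t * p₂, D.t * p₃}
    have hVinj : ∀ a ∈ V, ∀ b, D.t * b = a → b ∈ V → False := by
      intro a ha b hb hbV
      obtain ⟨y, rfl⟩ := hVC a ha
      obtain ⟨z, rfl⟩ := hVC b hbV
      exact D.tψ_not_range hb
    have hLeq : (L : Set G) = (V : Set G) ∪ (fun v => D.t * v) '' (V : Set G) := by
      ext p
      simp only [L, Finset.coe_insert, Finset.coe_singleton, Set.mem_insert_iff, Set.mem_singleton_iff,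
        Set.mem_union, SetLike.mem_coe, Set.mem_image]
      constructor
      · rintro (rfl | rfl | rfl | rfl | rfl | rfl | rfl | rfl)
        · exact Or.inl (one_mem V)
        · exact Or.inr ⟨1, one_mem V, mul_one _⟩
        · exact Or.inl hin.1
        · exact Or.inl hin.2.1
        · exact Or.inl hin.2.2
        · exact Or.inr ⟨p₁, hin.1, rfl⟩
        · exact Or.inr ⟨p₂, hin.2.1, rfl⟩
        · exact Or.inr ⟨p₃, hin.2.2, rfl⟩
      · rintro (hp | ⟨v, hv, rfl⟩)
        · rcases hp with rfl | rfl | rfl | rfl <;> tauto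
        · rcases hv with rfl | rfl | rfl | rfl
          · rw [mul_one]; tauto
          all_goals tauto
    have hLP : (L : Set G) ⊆ (P : Subgroup G) := by
      rw [hLeq]
      rintro p (hp | ⟨v, hv, rfl⟩)
      · exact hP (Subgroup.mem_sup_left hp)
      · exact mul_mem htP (hP (Subgroup.mem_sup_left hv))
    have hLcard : (L : Set G).ncard = 8 := by
      rw [hLeq, Set.ncard_union_eq ?_ (Set.toFinite _) (Set.toFinite _),
        Set.ncard_image_of_injective _ (mul_right_injective D.t), ← Nat.card_coe_set_eq,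
        show Nat.card ((V : Set G) : Type _) = 4 from hV4]
      rw [Set.disjoint_left]
      rintro p hp ⟨v, hv, rfl⟩
      exact hVinj _ hp v rfl hv
    have heq : (L : Set G) = ((P : Subgroup G) : Set G) := by
      refine Set.eq_of_subset_of_ncard_le hLP ?_
      rw [hLcard, ← Nat.card_coe_set_eq]
      exact (D.sylow_two_card P).le
    intro p hp
    have : p ∈ (L : Set G) := heq ▸ hp
    simpa [L] using this
  have c12 : IsConj p₁ p₂ := (hclass hw').1
  have c13 : IsConj p₁ p₃ := by rw [show p₃ = D.ψ (w * w') from (map_mul _ _ _).symm]; exact (hclass hw3).1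
  have d12 : IsConj (D.t * p₁) (D.t * p₂) := (hclass hw').2
  have d13 : IsConj (D.t * p₁) (D.t * p₃) := by
    rw [show p₃ = D.ψ (w * w') from (map_mul _ _ _).symm]; exact (hclass hw3).2
  by_contra hcon
  -- exactly one of the two classes fuses with t
  have hone : IsConj D.t p₁ ∨ IsConj D.t (D.t * p₁) := by
    by_contra! hno
    apply hnot
    intro p hp hc
    rcases hmem p hp with rfl | rfl | rfl | rfl | rfl | rfl | rfl | rfl
    · exfalso
      obtain ⟨g, hg⟩ := isConj_iff.1 hc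
      exact D.t_ne_one (conj_eq_one_iff.1 hg)
    · rfl
    · exact absurd hc hno.1
    · exact absurd (hc.trans c12.symm) hno.1
    · exact absurd (hc.trans c13.symm) hno.1
    · exact absurd hc hno.2
    · exact absurd (hc.trans d12.symm) hno.2
    · exact absurd (hc.trans d13.symm) hno.2
  have h4 : ∀ q₁ q₂ q₃ : G, q₁ ≠ q₂ → q₁ ≠ q₃ → q₂ ≠ q₃ → D.t ≠ q₁ → D.t ≠ q₂ → D.t ≠ q₃ →
      O = {D.t, q₁, q₂, q₃} → False := by
    intro q₁ q₂ q₃ a b c d e f hO'
    rw [hO', Set.ncard_insert_of_notMem (by simp [d, e, f]), Set.ncard_insert_of_notMem (by simp [a, b]),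
      Set.ncard_pair c] at hOodd
    exact absurd hOodd (by decide)
  have hp12 : p₁ ≠ p₂ := fun h => hne (D.inj h).symm
  have hw'1 : w' ≠ 1 := fun h => by rw [h, orderOf_one] at hw'; omega
  have hw1 : w ≠ 1 := fun h => by rw [h, orderOf_one] at hw; omega
  have hp13 : p₁ ≠ p₃ := fun h => hw'1 (D.inj (by rw [map_one]; exact (mul_eq_left.1 h.symm)))
  have hp23 : p₂ ≠ p₃ := fun h => hw1 (D.inj (by rw [map_one]; exact (mul_eq_right.1 h.symm)))
  rcases hone with h | h
  · refine h4 p₁ p₂ p₃ hp12 hp13 hp23 (fun e => D.t_not _ e.symm) (fun e => D.t_not _ e.symm)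
      (fun e => D.t_not (w * w') (by rw [map_mul]; exact e.symm)) ?_
    ext p
    simp only [hO, Set.mem_setOf_eq, Set.mem_insert_iff, Set.mem_singleton_iff]
    constructor
    · rintro ⟨hp, hc⟩
      have hno : ¬ IsConj D.t (D.t * p₁) := fun h' => hcon ⟨h, h'⟩
      rcases hmem p hp with rfl | rfl | rfl | rfl | rfl | rfl | rfl | rfl
      · obtain ⟨g, hg⟩ := isConj_iff.1 hc
        exact absurd (conj_eq_one_iff.1 hg) D.t_ne_one
      · tauto
      · tauto
      · tauto
      · tauto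
      · exact absurd hc hno
      · exact absurd (hc.trans d12.symm) hno
      · exact absurd (hc.trans d13.symm) hno
    · rintro (rfl | rfl | rfl | rfl)
      · exact ⟨htP, IsConj.refl _⟩
      · exact ⟨hP (Subgroup.mem_sup_left hin.1), h⟩
      · exact ⟨hP (Subgroup.mem_sup_left hin.2.1), h.trans c12⟩
      · exact ⟨hP (Subgroup.mem_sup_left hin.2.2), h.trans c13⟩
  · have hne' : ∀ {v : G}, v ≠ 1 → D.t ≠ D.t * v := fun hv e => hv (mul_eq_left.1 e.symm)
    refine h4 (D.t * p₁) (D.t * p₂) (D.t * p₃) (fun e => hp12 (mul_left_cancel e))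
      (fun e => hp13 (mul_left_cancel e)) (fun e => hp23 (mul_left_cancel e))
      (hne' fun e => hw1 (D.inj (by rw [map_one]; exact e)))
      (hne' fun e => hw'1 (D.inj (by rw [map_one]; exact e)))
      (hne' fun e => hp13 (by
        have h2 : p₂ = p₁ := by
          have h1 : p₁ * p₁ = 1 := by rw [← map_mul, sq hw, map_one]
          exact mul_left_cancel (e.trans h1.symm)
        exact absurd h2.symm hp12)) ?_
    ext p
    simp only [hO, Set.mem_setOf_eq, Set.mem_insert_iff, Set.mem_singleton_iff]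
    constructor
    · rintro ⟨hp, hc⟩
      have hno : ¬ IsConj D.t p₁ := fun h' => hcon ⟨h', h⟩
      rcases hmem p hp with rfl | rfl | rfl | rfl | rfl | rfl | rfl | rfl
      · obtain ⟨g, hg⟩ := isConj_iff.1 hc
        exact absurd (conj_eq_one_iff.1 hg) D.t_ne_one
      · tauto
      · exact absurd hc hno
      · exact absurd (hc.trans c12.symm) hno
      · exact absurd (hc.trans c13.symm) hno
      · tauto
      · tauto
      · tauto
    · rintro (rfl | rfl | rfl | rfl)
      · exact ⟨htP, IsConj.refl _⟩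
      · exact ⟨mul_mem htP (hP (Subgroup.mem_sup_left hin.1)), h⟩
      · exact ⟨mul_mem htP (hP (Subgroup.mem_sup_left hin.2.1)), h.trans d12⟩
      · exact ⟨mul_mem htP (hP (Subgroup.mem_sup_left hin.2.2)), h.trans d13⟩

/-- The element `h` and the involution `e`. -/
theorem exists_cycle : ∃ h : G, orderOf h = 3 ∧
    (h * D.t * h⁻¹ = D.ψ D.torus.z ∨ h * D.t * h⁻¹ = D.t * D.ψ D.torus.z) ∧
    (h * (h * D.t * h⁻¹) * h⁻¹ = D.t * (h * D.t * h⁻¹)) := by
  haveI : Fact (Nat.Prime 2) := ⟨Nat.prime_two⟩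
  obtain ⟨u, w, hu, hw, hw', hne, hcomm, hu3⟩ := D.exists_four
  have hψw : orderOf (D.ψ w) = 2 := by rw [orderOf_injective D.ψ D.inj, hw]
  obtain ⟨g, hg⟩ := isConj_iff.1 (D.isConj_t hψw).symm
  set h₀ := g * D.ψ u * g⁻¹ with hh₀
  set s := h₀ * D.t * h₀⁻¹ with hs
  have hs' : s = g * D.ψ (u * w * u⁻¹) * g⁻¹ := by
    rw [hs, hh₀, ← hg, map_mul, map_mul, map_inv]; group
  have hst : s * D.t = D.t * s := by
    rw [hs', ← hg]
    simp only [conj_mul]
    rw [← map_mul, ← map_mul, hcomm.eq]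
  have hs2 : orderOf s = 2 := by rw [hs, D.orderOf_conj, D.t_order]
  have hsne : s ≠ D.t := fun e => hne (D.inj (by
    rw [hs', ← hg] at e
    exact mul_left_cancel (mul_right_cancel e)))
  -- the involution is ψ y or t ψ y
  obtain ⟨y, hy2, hy⟩ : ∃ y, orderOf y = 2 ∧ (s = D.ψ y ∨ s = D.t * D.ψ y) := by
    obtain ⟨y, hy | hy⟩ := D.cent s hst
    · exact ⟨y, by rw [← orderOf_injective D.ψ D.inj, ← hy, hs2], Or.inl hy⟩
    · refine ⟨y, orderOf_eq_prime ?_ fun e => hsne (by rw [hy, e, map_one, mul_one]), Or.inr hy⟩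
      have h2 : s ^ 2 = 1 := orderOf_dvd_iff_pow_eq_one.1 hs2.dvd
      rw [pow_two, hy, D.mul_t, ← map_one D.ψ] at h2
      rw [pow_two]; exact D.inj h2
  obtain ⟨c, hc⟩ := D.exists_conj_z hy2
  -- move y to z
  set d := D.ψ c⁻¹ with hd
  have hdt : d * D.t * d⁻¹ = D.t := by rw [hd, ← D.comm, mul_inv_cancel_right]
  refine ⟨d * h₀ * d⁻¹, by rw [D.orderOf_conj, hh₀, D.orderOf_conj, orderOf_injective D.ψ D.inj, hu],
    ?_, ?_⟩
  · have e : d * h₀ * d⁻¹ * D.t * (d * h₀ * d⁻¹)⁻¹ = d * s * d⁻¹ := by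
      conv_lhs => rw [← hdt]
      rw [hs]; group
    rw [e]
    have hyz : D.ψ (c⁻¹ * y * c) = D.ψ D.torus.z := by rw [← hc]; group
    rcases hy with hy | hy
    · left
      rw [hy, hd, ← map_inv, inv_inv, ← map_mul, ← map_mul, hyz]
    · right
      rw [hy, hd, ← map_inv, inv_inv, ← mul_assoc (D.ψ c⁻¹), ← D.comm, mul_assoc D.t, mul_assoc D.t,
        ← map_mul, ← map_mul, hyz]
  · -- the third involution
    have e1 : h₀ * s * h₀⁻¹ = D.t * s := by
      have l1 : h₀ * s * h₀⁻¹ = g * D.ψ (u * (u * w * u⁻¹) * u⁻¹) * g⁻¹ := by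
        rw [hs', hh₀]; simp only [map_mul, map_inv]; group
      rw [l1, hu3, hs', ← hg, map_mul]; group
    have e : d * h₀ * d⁻¹ * D.t * (d * h₀ * d⁻¹)⁻¹ = d * s * d⁻¹ := by
      conv_lhs => rw [← hdt]
      rw [hs]; group
    rw [e]
    conv_rhs => rw [← hdt, conj_mul, ← e1]
    group

end Ree

end Cfsg.Agent.GoldGroups11
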