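import Cfsg.Agent.GoldGroups11.Basic
import Cfsg.Agent.Lib.Dickson.Tori
import Cfsg.Agent.Lib.Dickson.Lifts

/-!
The sections `S₃` and `S₄` in the groups `PSL₂(q)`.
-/

set_option autoImplicit false
set_option linter.style.haveILetI false

namespace Cfsg.Agent.GoldGroups11

open Cfsg.Agent.Dickson Equiv
open scoped MatrixGroups

variable {F : Type*} [Field F] [Fintype F]

/-- `PSL₂(q)` has a section `S₃` when three does not divide `q`. -/
theorem psl_involves_perm3 (hq : ¬ 3 ∣ Fintype.card F) (h4 : 4 ≤ Fintype.card F) :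
    Cfsg.Involves (Perm (Fin 3)) (PSL2 F) := by
  set q := Fintype.card F with hqdef
  set d := Nat.gcd 2 (q - 1) with hd
  have hd2 : d = 1 ∨ d = 2 := (Nat.dvd_prime Nat.prime_two).1 (Nat.gcd_dvd_left _ _)
  have hdm : d ∣ q - 1 := Nat.gcd_dvd_right _ _
  have hdp : d ∣ q + 1 := gcd_dvd_succ q (by omega)
  rcases (show q % 3 = 1 ∨ q % 3 = 2 by omega) with h | h
  · obtain ⟨N, -, ⟨e⟩, -, -⟩ := exists_torus_minus (F := F) (by
      show 2 ≤ (q - 1) / d
      rcases hd2 with e | e <;> rw [e] at hdm ⊢ <;> omega)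
    refine involves_perm3_of_dihedral ?_ ?_ N e
    · show 3 ∣ (q - 1) / d
      rcases hd2 with e | e <;> rw [e] at hdm ⊢ <;> omega
    · show (q - 1) / d ≠ 0
      rcases hd2 with e | e <;> rw [e] at hdm ⊢ <;> omega
  · obtain ⟨N, -, ⟨e⟩, -, -⟩ := exists_torus_plus (F := F)
    refine involves_perm3_of_dihedral ?_ ?_ N e
    · show 3 ∣ (q + 1) / d
      rcases hd2 with e | e <;> rw [e] at hdp ⊢ <;> omega
    · show (q + 1) / d ≠ 0
      rcases hd2 with e | e <;> rw [e] at hdp ⊢ <;> omega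

/-- `PSL₂(3^(2n+1))` has no section `S₃`. -/
theorem psl_not_involves_perm3 {n : ℕ} (hF : Fintype.card F = 3 ^ (2 * n + 1)) :
    ¬ Cfsg.Involves (Perm (Fin 3)) (PSL2 F) := by
  haveI : Fact (Nat.Prime 3) := ⟨Nat.prime_three⟩
  haveI : CharP F 3 := charP_of_card_eq_prime_pow (f := 2 * n + 1) hF
  have h3 : (3 : F) = 0 := by exact_mod_cast CharP.cast_eq_zero F 3
  have h2 : (2 : F) ≠ 0 := by
    intro h
    apply one_ne_zero (α := F)
    linear_combination h3 - h
  have hns : ¬ IsSquare (-1 : F) := by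
    rw [FiniteField.isSquare_neg_one_iff, hF, pow_succ, pow_mul, Nat.mul_mod, Nat.pow_mod]
    norm_num
  rw [involves_perm3_iff]
  rintro ⟨x, y, -, ⟨k, hk⟩, hy1, hxy⟩
  obtain ⟨k, rfl⟩ := Nat.exists_eq_succ_of_ne_zero (n := k) fun h0 =>
    hy1 (orderOf_eq_one_iff.1 (by simp [hk, h0]))
  set z := y ^ 3 ^ k with hzdef
  have hz : orderOf z = 3 := by
    have := orderOf_pow_orderOf_div (orderOf_pos y).ne' (show 3 ∣ orderOf y by
      rw [hk]; exact dvd_pow_self 3 (Nat.succ_ne_zero k))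
    rwa [hk, pow_succ, Nat.mul_div_cancel _ (by norm_num : 0 < 3)] at this
  have hxz : x * z * x⁻¹ = z⁻¹ := by rw [hzdef, ← conj_pow, hxy, inv_pow]
  obtain ⟨A, hA, htr⟩ := lift_three hz
  obtain ⟨X, hX⟩ := QuotientGroup.mk_surjective x
  have hA1 : A ≠ 1 := by
    rintro rfl
    rw [← hA, QuotientGroup.mk_one, orderOf_one] at hz
    omega
  have hmk : (QuotientGroup.mk (X * A * X⁻¹) : PSL2 F) = QuotientGroup.mk A⁻¹ := by
    rw [QuotientGroup.mk_mul, QuotientGroup.mk_mul, QuotientGroup.mk_inv, QuotientGroup.mk_inv,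
      hA, hX, hxz]
  rcases mk_eq_mk_iff.1 hmk with e | e
  swap
  · have h := congrArg str e
    rw [str_comm, ← mul_assoc, inv_mul_cancel, one_mul, str_neg, str_inv, htr] at h
    exact h2 (by linear_combination -h)
  have e' : (X : Matrix (Fin 2) (Fin 2) F) * A = (str A • 1 - (A : Matrix (Fin 2) (Fin 2) F)) * X := by
    have h := congrArg (fun Z : SL(2, F) => ((Z * X : SL(2, F)) : Matrix (Fin 2) (Fin 2) F)) e
    simp only [inv_mul_cancel_right, Matrix.SpecialLinearGroup.coe_mul, sl_inv] at h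
    exact h
  rw [htr] at e'
  have hdA := A.2
  have hdX := X.2
  rw [Matrix.det_fin_two] at hdA hdX
  simp only [str, Matrix.trace_fin_two] at htr
  have h00 := congrFun (congrFun e' 0) 0
  have h01 := congrFun (congrFun e' 0) 1
  have h10 := congrFun (congrFun e' 1) 0
  simp only [Matrix.mul_apply, Fin.sum_univ_two, Matrix.sub_apply, Matrix.smul_apply,
    Matrix.one_apply_eq, Matrix.one_apply_ne (show (0 : Fin 2) ≠ 1 by decide),
    Matrix.one_apply_ne (show (1 : Fin 2) ≠ 0 by decide), smul_eq_mul, mul_zero, mul_one]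
    at h00 h01 h10
  set a := (A : Matrix (Fin 2) (Fin 2) F) 0 0 with ha
  set b := (A : Matrix (Fin 2) (Fin 2) F) 0 1 with hb
  set c := (A : Matrix (Fin 2) (Fin 2) F) 1 0 with hc
  set d := (A : Matrix (Fin 2) (Fin 2) F) 1 1 with hd
  set p := (X : Matrix (Fin 2) (Fin 2) F) 0 0 with hp
  set r := (X : Matrix (Fin 2) (Fin 2) F) 0 1 with hr
  set s := (X : Matrix (Fin 2) (Fin 2) F) 1 0 with hs
  set t := (X : Matrix (Fin 2) (Fin 2) F) 1 1 with ht
  have hbc : (a - 1) ^ 2 + b * c = 0 := by linear_combination a * htr - hdA - a * h3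
  by_cases hb0 : b = 0
  · have ha1 : a = 1 := by
      rw [hb0, zero_mul, add_zero] at hbc
      linear_combination (pow_eq_zero_iff two_ne_zero).1 hbc
    have hc0 : c ≠ 0 := by
      intro hc0
      apply hA1
      ext i j
      fin_cases i <;> fin_cases j
      · exact ha1
      · exact hb0
      · exact hc0
      · show d = 1
        linear_combination htr - ha1 - h3
    have hr0 : r = 0 := by
      have : r * c = 0 := by linear_combination h00 - 2 * p * ha1 - s * hb0 - p * h3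
      exact (mul_eq_zero.1 this).resolve_right hc0
    have htp : t + p = 0 := by
      have : c * (t + p) = 0 := by linear_combination h10 - s * htr
      exact (mul_eq_zero.1 this).resolve_left hc0
    exact hns ⟨p, by linear_combination hdX - p * htp + s * hr0⟩
  · have htp : t + p = 0 := by
      have : b * (t + p) = 0 := by linear_combination h01 - r * htr
      exact (mul_eq_zero.1 this).resolve_left hb0
    refine hns ⟨(b * p - (a - 1) * r) / b, ?_⟩
    field_simp
    linear_combination (b ^ 2) * hdX - (b ^ 2 * p) * htp + b * r * h00 - r ^ 2 * hbc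
      - (b * p * r) * h3

/-- Abelian Sylow `2`-subgroups in even characteristic. -/
theorem psl_even_not_involves_perm4 {n : ℕ} (hn : 1 ≤ n) (hF : Fintype.card F = 2 ^ n) :
    ¬ Cfsg.Involves (Perm (Fin 4)) (PSL2 F) := by
  haveI : Fact (Nat.Prime 2) := ⟨Nat.prime_two⟩
  have hR : Nat.card (uppHom F).range = 2 ^ n := by
    rw [← Nat.card_congr (MonoidHom.ofInjective uppHom_injective).toEquiv,
      Nat.card_congr Multiplicative.toAdd, Nat.card_eq_fintype_card, hF]
  obtain ⟨P, hP⟩ := (IsPGroup.of_card hR).exists_le_sylow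
  have hG : Nat.card (PSL2 F) = 2 ^ n * ((2 ^ n) ^ 2 - 1) := by
    have h1 := LinearGroup.gcd_mul_card_PSL_two (F := F)
    rw [Nat.card_eq_fintype_card (α := F), hF,
      (Nat.coprime_two_left.mpr ?_).gcd_eq_one, one_mul] at h1
    · exact h1
    · exact Nat.Even.sub_odd Nat.one_le_two_pow ((Nat.even_pow).2 ⟨even_two, by omega⟩) odd_one
  have hodd : ¬ 2 ∣ (2 ^ n) ^ 2 - 1 := by
    rw [← pow_mul]
    have := dvd_pow_self 2 (show n * 2 ≠ 0 by omega)
    have := Nat.one_le_two_pow (n := n * 2)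
    omega
  have heq : (P : Subgroup (PSL2 F)) = (uppHom F).range := by
    refine (Subgroup.eq_of_le_of_card_ge hP ?_).symm
    rw [P.card_eq_multiplicity, hR, hG,
      Nat.factorization_mul (by positivity) (by intro h; rw [h] at hodd; simp at hodd)]
    simp [Nat.Prime.factorization_pow Nat.prime_two, Nat.factorization_eq_zero_of_not_dvd hodd]
  refine not_involves_perm4_of_abelian P ?_
  rw [heq]
  rintro _ ⟨u, rfl⟩ _ ⟨v, rfl⟩
  rw [← map_mul, ← map_mul, mul_comm]

/-- Abelian Sylow `2`-subgroups for `q ≡ ±3 (mod 8)`. -/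
theorem psl_odd_not_involves_perm4 (h : Fintype.card F % 8 = 3 ∨ Fintype.card F % 8 = 5) :
    ¬ Cfsg.Involves (Perm (Fin 4)) (PSL2 F) := by
  haveI : Fact (Nat.Prime 2) := ⟨Nat.prime_two⟩
  set q := Fintype.card F with hq
  have hG : 2 * Nat.card (PSL2 F) = q * (q ^ 2 - 1) := by
    have h1 := LinearGroup.gcd_mul_card_PSL_two (F := F)
    rw [Nat.card_eq_fintype_card (α := F), ← hq, Nat.gcd_eq_left (by omega : 2 ∣ q - 1)] at h1
    exact h1
  obtain ⟨j, hj⟩ : ∃ j, q = 8 * j + 3 ∨ q = 8 * j + 5 := ⟨q / 8, by omega⟩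
  obtain ⟨m, hm, hmo⟩ : ∃ m, Nat.card (PSL2 F) = 2 ^ 2 * m ∧ ¬ 2 ∣ m := by
    rcases hj with hj | hj
    · refine ⟨q * (8 * j ^ 2 + 6 * j + 1), ?_, ?_⟩
      · have : q ^ 2 - 1 = 8 * (8 * j ^ 2 + 6 * j + 1) := by
          refine Nat.sub_eq_of_eq_add ?_
          rw [hj]; ring
        rw [this] at hG; linarith
      · rw [hj, Nat.dvd_iff_mod_eq_zero, Nat.mul_mod, Nat.add_mod, Nat.mul_mod,
          Nat.add_mod (8 * j ^ 2 + 6 * j), Nat.add_mod (8 * j ^ 2), Nat.mul_mod 8, Nat.mul_mod 6]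
        norm_num
        omega
    · refine ⟨q * (8 * j ^ 2 + 10 * j + 3), ?_, ?_⟩
      · have : q ^ 2 - 1 = 8 * (8 * j ^ 2 + 10 * j + 3) := by
          refine Nat.sub_eq_of_eq_add ?_
          rw [hj]; ring
        rw [this] at hG; linarith
      · rw [hj, Nat.dvd_iff_mod_eq_zero, Nat.mul_mod, Nat.add_mod, Nat.mul_mod,
          Nat.add_mod (8 * j ^ 2 + 10 * j), Nat.add_mod (8 * j ^ 2), Nat.mul_mod 8, Nat.mul_mod 10]
        norm_num
        omega
  obtain ⟨P⟩ := (inferInstance : Nonempty (Sylow 2 (PSL2 F)))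
  have hP : Nat.card (P : Subgroup (PSL2 F)) = 2 ^ 2 := by
    rw [P.card_eq_multiplicity, hm,
      Nat.factorization_mul (by norm_num) (by rintro rfl; exact hmo (dvd_zero 2)), Finsupp.add_apply,
      Nat.Prime.factorization_pow Nat.prime_two, Finsupp.single_eq_same,
      Nat.factorization_eq_zero_of_not_dvd hmo, add_zero]
  letI := IsPGroup.commGroupOfCardEqPrimeSq hP
  exact not_involves_perm4_of_abelian P fun a ha b hb =>
    congrArg Subtype.val (mul_comm (⟨a, ha⟩ : (P : Subgroup (PSL2 F))) ⟨b, hb⟩)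

end Cfsg.Agent.GoldGroups11
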