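import Cfsg.Agent.GoldGroups11.Borel
import Cfsg.Agent.GoldGroups11.PSL
import Cfsg.Agent.Lib.Dickson.Involutions

/-!
The anisotropic torus of `PSL₂(3^(2n+1))` and the centralisers of its involutions.
-/

set_option autoImplicit false
set_option linter.unusedSectionVars false

namespace Cfsg.Agent.GoldGroups11

open Cfsg.Agent.Dickson
open scoped MatrixGroups

variable {F : Type*} [Field F] [Fintype F]

/-- An involution `z`, a generator `g` of its torus, and the basic facts. -/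
structure TorusData (F : Type*) [Field F] [Fintype F] (m : ℕ) : Type _ where
  /-- the involution -/
  z : PSL2 F
  /-- a generator of the torus -/
  g : PSL2 F
  card_eq : Fintype.card F + 1 = 4 * m
  m_odd : Odd m
  m_ge : 7 ≤ m
  z_order : orderOf z = 2
  g_order : orderOf g = 2 * m
  z_eq : g ^ m = z
  card_cent : Nat.card (Subgroup.centralizer ({z} : Set (PSL2 F))) = 4 * m
  refl : ∀ x ∈ Subgroup.centralizer ({z} : Set (PSL2 F)), x ∈ Subgroup.zpowers g ∨
    (x * x = 1 ∧ x * g * x⁻¹ = g⁻¹)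
  norm_mem : ∀ a ∈ Subgroup.zpowers (g ^ 2), a ≠ 1 → ∀ x : PSL2 F,
    x * a * x⁻¹ ∈ Subgroup.zpowers (g ^ 2) → x ∈ Subgroup.centralizer ({z} : Set (PSL2 F))

namespace TorusData

variable {m : ℕ} (D : TorusData F m)

/-- The subgroup of odd order of the torus. -/
def A : Subgroup (PSL2 F) := Subgroup.zpowers (D.g ^ 2)

/-- The torus. -/
def T : Subgroup (PSL2 F) := Subgroup.zpowers D.g

/-- The centraliser of the involution. -/
def R : Subgroup (PSL2 F) := Subgroup.centralizer ({D.z} : Set (PSL2 F))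

include D in
theorem m_pos : 0 < m := by have := D.m_ge; omega

theorem A_order : orderOf (D.g ^ 2) = m := by
  rw [orderOf_pow' _ (by norm_num), D.g_order, Nat.gcd_eq_right (dvd_mul_right 2 m),
    Nat.mul_div_cancel_left _ (by norm_num : 0 < 2)]

theorem card_A : Nat.card D.A = m := by rw [A, Nat.card_zpowers, A_order]

theorem card_T : Nat.card D.T = 2 * m := by rw [T, Nat.card_zpowers, D.g_order]

theorem A_le_T : D.A ≤ D.T := Subgroup.zpowers_le.2 (Subgroup.npow_mem_zpowers _ 2)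

theorem T_comm {x y : PSL2 F} (hx : x ∈ D.T) (hy : y ∈ D.T) : x * y = y * x := by
  obtain ⟨i, rfl⟩ := Subgroup.mem_zpowers_iff.1 hx
  obtain ⟨j, rfl⟩ := Subgroup.mem_zpowers_iff.1 hy
  rw [← zpow_add, ← zpow_add, add_comm]

theorem z_mem_T : D.z ∈ D.T := D.z_eq ▸ Subgroup.npow_mem_zpowers _ m

theorem T_le_R : D.T ≤ D.R := fun _ hx =>
  Subgroup.mem_centralizer_singleton_iff.2 (D.T_comm hx D.z_mem_T)

theorem A_le_R : D.A ≤ D.R := D.A_le_T.trans D.T_le_R

theorem z_mem_R : D.z ∈ D.R := D.T_le_R D.z_mem_T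

theorem inverts {x : PSL2 F} (hx : x ∈ D.R) (hxT : x ∉ D.T) :
    x * x = 1 ∧ ∀ a ∈ D.T, x * a * x⁻¹ = a⁻¹ := by
  obtain ⟨h1, h2⟩ := (D.refl x hx).resolve_left hxT
  refine ⟨h1, fun a ha => ?_⟩
  obtain ⟨i, rfl⟩ := Subgroup.mem_zpowers_iff.1 ha
  rw [← conj_zpow, h2, inv_zpow]

theorem eq_one_of_sq_eq_one {a : PSL2 F} (ha : a ∈ D.A) (h : a * a = 1) : a = 1 := by
  have h2 : orderOf a ∣ 2 := orderOf_dvd_of_pow_eq_one (by rw [pow_two, h])
  have h3 : orderOf a ∣ m := by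
    rw [← D.A_order]; exact orderOf_dvd_of_mem_zpowers ha
  obtain ⟨j, hj⟩ := D.m_odd
  have := Nat.dvd_gcd h2 h3
  rw [(Nat.coprime_two_left.2 ⟨j, hj⟩).gcd_eq_one, Nat.dvd_one] at this
  exact orderOf_eq_one_iff.1 this

theorem mem_T_iff {x : PSL2 F} : x ∈ D.T ↔ ∃ a ∈ D.A, x = a ∨ x = D.z * a := by
  constructor
  · intro hx
    obtain ⟨i, rfl⟩ := Subgroup.mem_zpowers_iff.1 hx
    obtain ⟨j, hj⟩ := D.m_odd
    rcases Int.even_or_odd i with ⟨k, hk⟩ | ⟨k, hk⟩
    · refine ⟨D.g ^ i, Subgroup.mem_zpowers_iff.2 ⟨k, ?_⟩, Or.inl rfl⟩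
      rw [← zpow_natCast, ← zpow_mul, hk]
      congr 1
      push_cast; ring
    · refine ⟨D.g ^ (i - m), Subgroup.mem_zpowers_iff.2 ⟨k - j, ?_⟩, Or.inr ?_⟩
      · rw [← zpow_natCast, ← zpow_mul]
        congr 1
        push_cast
        have hj' : (m : ℤ) = 2 * (j : ℤ) + 1 := by exact_mod_cast hj
        omega
      · rw [← D.z_eq, ← zpow_natCast, ← zpow_add, add_sub_cancel]
  · rintro ⟨a, ha, rfl | rfl⟩
    · exact D.A_le_T ha
    · exact mul_mem D.z_mem_T (D.A_le_T ha)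

theorem cent_A {a x : PSL2 F} (ha : a ∈ D.A) (ha1 : a ≠ 1) (h : x * a = a * x) : x ∈ D.T := by
  have hc : x * a * x⁻¹ = a := by rw [h, mul_inv_cancel_right]
  have hR : x ∈ D.R := D.norm_mem a ha ha1 x (by rw [hc]; exact ha)
  by_contra hxT
  have h2 := (D.inverts hR hxT).2 a (D.A_le_T ha)
  rw [hc] at h2
  exact ha1 (D.eq_one_of_sq_eq_one ha (eq_inv_iff_mul_eq_one.1 h2))

theorem conj_A {a x : PSL2 F} (ha : a ∈ D.A) (ha1 : a ≠ 1) (h : x * a * x⁻¹ ∈ D.A) :
    (x ∈ D.T ∧ x * a * x⁻¹ = a) ∨ (x ∈ D.R ∧ x ∉ D.T ∧ x * a * x⁻¹ = a⁻¹) := by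
  have hR : x ∈ D.R := D.norm_mem a ha ha1 x h
  by_cases hxT : x ∈ D.T
  · exact Or.inl ⟨hxT, by rw [D.T_comm hxT (D.A_le_T ha), mul_inv_cancel_right]⟩
  · exact Or.inr ⟨hR, hxT, (D.inverts hR hxT).2 a (D.A_le_T ha)⟩

theorem mem_A_of_odd {x : PSL2 F} (hx : x ∈ D.R) (ho : Odd (orderOf x)) : x ∈ D.A := by
  have h2 : ∀ y : PSL2 F, y * y = 1 → Odd (orderOf y) → y = 1 := fun y hy hyo => by
    have := orderOf_dvd_of_pow_eq_one (show y ^ 2 = 1 by rw [pow_two, hy])
    rcases (Nat.dvd_prime Nat.prime_two).1 this with h | h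
    · exact orderOf_eq_one_iff.1 h
    · rw [h] at hyo; exact absurd hyo (by decide)
  by_cases hxT : x ∈ D.T
  · obtain ⟨a, ha, rfl | rfl⟩ := D.mem_T_iff.1 hxT
    · exact ha
    · exfalso
      have hc : Commute D.z a := D.T_comm D.z_mem_T (D.A_le_T ha)
      have h1 : (D.z * a) ^ (2 * m) = 1 := by
        rw [← D.card_T]
        exact congrArg Subtype.val (pow_card_eq_one' (x := (⟨_, hxT⟩ : D.T)))
      have hz := D.z_order
      have h3 : a ^ m = 1 := by
        rw [← D.card_A]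
        exact congrArg Subtype.val (pow_card_eq_one' (x := (⟨a, ha⟩ : D.A)))
      have hd : orderOf (D.z * a) ∣ m := by
        obtain ⟨j, hj⟩ := ho
        exact Nat.Coprime.dvd_of_dvd_mul_left (Nat.coprime_two_right.2 ⟨j, hj⟩)
          (orderOf_dvd_of_pow_eq_one h1)
      have h4 : D.z ^ m = 1 := by
        have h5 := orderOf_dvd_iff_pow_eq_one.1 hd
        rwa [hc.mul_pow, h3, mul_one] at h5
      have h6 := orderOf_dvd_of_pow_eq_one h4
      rw [hz] at h6
      exact Nat.not_even_iff_odd.2 D.m_odd (even_iff_two_dvd.2 h6)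
  · rw [h2 x (D.inverts hx hxT).1 ho]
    exact one_mem _

theorem card_refl : Nat.card {x : PSL2 F // x ∈ D.R ∧ x ∉ D.T} = 2 * m := by
  classical
  have h1 : Nat.card {x : PSL2 F // x ∈ D.R ∧ x ∉ D.T} + Nat.card D.T = Nat.card D.R := by
    rw [Nat.card_eq_fintype_card, Nat.card_eq_fintype_card, Nat.card_eq_fintype_card,
      Fintype.card_subtype, Fintype.card_subtype, Fintype.card_subtype,
      ← Finset.card_union_of_disjoint]
    · congr 1
      ext x
      simp only [Finset.mem_union, Finset.mem_filter, Finset.mem_univ, true_and]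
      exact ⟨fun h => h.elim And.left fun h => D.T_le_R h, fun h =>
        (em (x ∈ D.T)).elim Or.inr fun h' => Or.inl ⟨h, h'⟩⟩
    · rw [Finset.disjoint_filter]
      exact fun x _ h1 h2 => h1.2 h2
  rw [D.card_T, show Nat.card D.R = 4 * m from D.card_cent] at h1
  omega

theorem inverts_iff {a x : PSL2 F} (ha : a ∈ D.A) (ha1 : a ≠ 1) :
    (orderOf x = 2 ∧ x * a * x⁻¹ = a⁻¹) ↔ x ∈ D.R ∧ x ∉ D.T := by
  constructor
  · rintro ⟨-, h⟩
    rcases D.conj_A ha ha1 (by rw [h]; exact inv_mem ha) with ⟨-, h'⟩ | ⟨h1, h2, -⟩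
    · exact absurd (D.eq_one_of_sq_eq_one ha (eq_inv_iff_mul_eq_one.1 (h'.symm.trans h))) ha1
    · exact ⟨h1, h2⟩
  · rintro ⟨hR, hT⟩
    exact ⟨orderOf_eq_prime (by rw [pow_two, (D.inverts hR hT).1])
      (fun h => hT (h ▸ one_mem _)), (D.inverts hR hT).2 a (D.A_le_T ha)⟩

theorem not_three_dvd_cent (h3 : 3 ∣ Fintype.card F) : ¬ 3 ∣ Nat.card D.R := by
  intro h
  rw [show Nat.card D.R = 4 * m from D.card_cent] at h
  have := D.card_eq
  omega

end TorusData

variable {n : ℕ} (hF : Fintype.card F = 3 ^ (2 * n + 1)) (hn : 1 ≤ n)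
include hF hn

theorem exists_torusData : ∃ m, Nonempty (TorusData F m) := by
  haveI : Fact (Nat.Prime 3) := ⟨Nat.prime_three⟩
  haveI : CharP F 3 := charP_of_card_eq_prime_pow (f := 2 * n + 1) hF
  have h2 : (2 : F) ≠ 0 := by
    intro h
    apply one_ne_zero (α := F)
    linear_combination three_eq_zero hF - h
  set q := Fintype.card F with hq
  have h4 := card_mod_four hF
  have h8 : q % 8 = 3 := by
    rw [hF, pow_succ, pow_mul, Nat.mul_mod, Nat.pow_mod]
    norm_num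
  have h27 : 27 ≤ q := by
    rw [hF]; exact le_trans (by norm_num : 27 ≤ 3 ^ 3) (Nat.pow_le_pow_right (by norm_num) (by omega))
  have hd : Nat.gcd 2 (q - 1) = 2 := Nat.gcd_eq_left (by omega : 2 ∣ q - 1)
  set m := (q + 1) / 4 with hm
  obtain ⟨N, hN⟩ := exists_torus_plus (F := F)
  rw [hd, show (q + 1) / 2 = 2 * m by omega] at hN
  obtain ⟨-, ⟨e⟩, -, -⟩ := id hN
  haveI : NeZero (2 * m) := ⟨by omega⟩
  set g : PSL2 F := ((e.symm (DihedralGroup.r 1) : N) : PSL2 F) with hg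
  have hgo : orderOf g = 2 * m := by
    rw [hg, Subgroup.orderOf_coe, MulEquiv.orderOf_eq, DihedralGroup.orderOf_r_one]
  set z := g ^ m with hz
  have hzo : orderOf z = 2 := by
    rw [hz, orderOf_pow' _ (by omega), hgo, Nat.gcd_eq_right (dvd_mul_left m 2),
      Nat.mul_div_cancel _ (by omega : 0 < m)]
  have hrefl : ∀ x ∈ N, x ∈ Subgroup.zpowers g ∨ (x * x = 1 ∧ x * g * x⁻¹ = g⁻¹) := by
    intro x hx
    obtain ⟨y, hy⟩ := e.symm.surjective ⟨x, hx⟩
    have hxy : x = ((e.symm y : N) : PSL2 F) := by rw [hy]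
    rcases y with i | i
    · refine Or.inl (Subgroup.mem_zpowers_iff.2 ⟨(ZMod.cast i : ℤ), ?_⟩)
      rw [hxy, hg, ← Subgroup.coe_zpow, ← map_zpow, DihedralGroup.r_one_zpow, ZMod.intCast_zmod_cast]
    · refine Or.inr ⟨?_, ?_⟩
      · rw [hxy, ← Subgroup.coe_mul, ← map_mul, DihedralGroup.sr_mul_self, map_one,
          Subgroup.coe_one]
      · rw [hxy, hg, ← Subgroup.coe_inv, ← Subgroup.coe_mul, ← Subgroup.coe_mul, ← Subgroup.coe_inv,
          ← map_inv, ← map_mul, ← map_mul, ← map_inv]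
        simp [DihedralGroup.inv_sr, DihedralGroup.inv_r, DihedralGroup.sr_mul_r,
          DihedralGroup.sr_mul_sr]
  have hgN : g ∈ N := (e.symm (DihedralGroup.r 1) : N).2
  have hNC : N ≤ Subgroup.centralizer ({z} : Set (PSL2 F)) := by
    intro x hx
    rw [Subgroup.mem_centralizer_singleton_iff]
    rcases hrefl x hx with h | ⟨-, h⟩
    · obtain ⟨i, rfl⟩ := Subgroup.mem_zpowers_iff.1 h
      rw [hz]
      exact (((Commute.refl g).zpow_left i).pow_right m).eq
    · have h' : x * z * x⁻¹ = z := by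
        rw [hz, ← conj_pow, h, inv_pow, ← hz]
        exact inv_eq_of_mul_eq_one_left (by rw [← pow_two]; exact orderOf_dvd_iff_pow_eq_one.1 hzo.dvd)
      exact mul_inv_eq_iff_eq_mul.1 h'
  have hN' : ∀ a : PSL2 F, a ≠ 1 → orderOf a ∣ 2 * m → (orderOf a = 2 ∨ Odd (orderOf a)) →
      ∃ N' : Subgroup (PSL2 F), Nat.card N' = 4 * m ∧
        ∀ x : PSL2 F, x * a * x⁻¹ ∈ Subgroup.zpowers a → x ∈ N' := by
    intro a ha hdvd hor
    have hcop : Nat.Coprime (orderOf a) 3 := by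
      refine Nat.Coprime.coprime_dvd_left hdvd ?_
      rw [Nat.coprime_comm, Nat.Prime.coprime_iff_not_dvd Nat.prime_three]
      intro h3
      have : q % 3 = 0 := by rw [hF, pow_succ, Nat.mul_mod_left]
      omega
    obtain ⟨N', n', hN', -, hdvd', hnorm, hkind⟩ := torus_of 3 ha hcop
    refine ⟨N', ?_, hnorm⟩
    rw [card_torusNorm hN']
    rcases hkind with ⟨hk, -⟩ | ⟨hk, -⟩
    · exfalso
      rw [← hq, hd] at hk
      have h1 : orderOf a ∣ Nat.gcd (2 * m) n' := Nat.dvd_gcd hdvd hdvd'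
      have hgm : Nat.gcd (2 * m) n' = 1 := by
        have h3 : n' + 1 = 2 * m := by omega
        rw [← h3, Nat.gcd_comm, Nat.gcd_self_add_right, Nat.gcd_one_right]
      rw [hgm, Nat.dvd_one] at h1
      exact ha (orderOf_eq_one_iff.1 h1)
    · rw [← hq, hd] at hk
      omega
  have hcard : Nat.card (Subgroup.centralizer ({z} : Set (PSL2 F))) = 4 * m ∧
      Subgroup.centralizer ({z} : Set (PSL2 F)) = N := by
    obtain ⟨N', hc', hnorm⟩ := hN' z (fun h => by rw [h, orderOf_one] at hzo; omega)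
      ((dvd_of_eq hzo).trans (dvd_mul_right 2 m)) (Or.inl hzo)
    have hle : Subgroup.centralizer ({z} : Set (PSL2 F)) ≤ N' := fun x hx => hnorm x (by
      rw [Subgroup.mem_centralizer_singleton_iff.1 hx, mul_inv_cancel_right]
      exact Subgroup.mem_zpowers z)
    have heq : N = N' := Subgroup.eq_of_le_of_card_ge (hNC.trans hle)
      (by rw [hc', card_torusNorm hN]; omega)
    have hCN : Subgroup.centralizer ({z} : Set (PSL2 F)) = N := le_antisymm (heq ▸ hle) hNC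
    exact ⟨by rw [hCN, card_torusNorm hN]; omega, hCN⟩
  refine ⟨m, ⟨
    { z := z
      g := g
      card_eq := by omega
      m_odd := Nat.odd_iff.2 (by omega)
      m_ge := by omega
      z_order := hzo
      g_order := hgo
      z_eq := rfl
      card_cent := hcard.1
      refl := fun x hx => hrefl x (hcard.2 ▸ hx)
      norm_mem := ?_ }⟩⟩
  intro a ha ha1 x hx
  have hoA : orderOf (g ^ 2) = m := by
    rw [orderOf_pow' _ (by norm_num), hgo, Nat.gcd_eq_right (dvd_mul_right 2 m),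
      Nat.mul_div_cancel_left _ (by norm_num : 0 < 2)]
  have hdm : orderOf a ∣ m := hoA ▸ orderOf_dvd_of_mem_zpowers ha
  obtain ⟨N', hc', hnorm⟩ := hN' a ha1 (hdm.trans (dvd_mul_left m 2))
    (Or.inr ((Nat.odd_iff.2 (by omega) : Odd m).of_dvd_nat hdm))
  have hsub : ∀ y : PSL2 F, y * a * y⁻¹ ∈ Subgroup.zpowers (g ^ 2) →
      y * a * y⁻¹ ∈ Subgroup.zpowers a := by
    intro y hy
    obtain ⟨k, hk⟩ : ∃ k, orderOf a * k = m := ⟨_, Nat.mul_div_cancel' hdm⟩
    have hroot : ∀ b ∈ Subgroup.zpowers (g ^ 2), b ^ orderOf a = 1 →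
        b ∈ Subgroup.zpowers ((g ^ 2) ^ k) := by
      intro b hb hb1
      obtain ⟨i, rfl⟩ := Subgroup.mem_zpowers_iff.1 hb
      rw [← zpow_natCast, ← zpow_mul, ← orderOf_dvd_iff_zpow_eq_one, hoA, ← hk, Nat.cast_mul,
        mul_comm i] at hb1
      obtain ⟨j, rfl⟩ := Int.dvd_of_mul_dvd_mul_left
        (Int.natCast_ne_zero.2 (orderOf_pos a).ne') hb1
      exact Subgroup.mem_zpowers_iff.2 ⟨j, by rw [← zpow_natCast (g ^ 2) k, ← zpow_mul]⟩
    have ha' := hroot a ha (pow_orderOf_eq_one a)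
    have heq : Subgroup.zpowers a = Subgroup.zpowers ((g ^ 2) ^ k) := by
      refine Subgroup.eq_of_le_of_card_ge (Subgroup.zpowers_le.2 ha') ?_
      rw [Nat.card_zpowers, Nat.card_zpowers, orderOf_pow', hoA, ← hk,
        Nat.gcd_eq_right (dvd_mul_left k _), Nat.mul_div_cancel _ ?_]
      · rcases Nat.eq_zero_or_pos k with rfl | h
        · simp at hk; omega
        · exact h
      · rintro rfl
        simp at hk; omega
    rw [heq]
    exact hroot _ hy (by rw [conj_pow, pow_orderOf_eq_one, mul_one, mul_inv_cancel])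
  have hle : Subgroup.centralizer ({z} : Set (PSL2 F)) ≤ N' := by
    intro y hy
    refine hnorm y (hsub y ?_)
    rcases hrefl y (hcard.2 ▸ hy) with h | ⟨-, h⟩
    · obtain ⟨i, rfl⟩ := Subgroup.mem_zpowers_iff.1 h
      obtain ⟨j, rfl⟩ := Subgroup.mem_zpowers_iff.1 ha
      rw [(((Commute.refl g).pow_right 2).zpow_right j).zpow_left i |>.eq, mul_inv_cancel_right]
      exact ha
    · obtain ⟨j, rfl⟩ := Subgroup.mem_zpowers_iff.1 ha
      rw [← conj_zpow, ← conj_pow, h, inv_pow, inv_zpow]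
      exact inv_mem ha
  have heq : Subgroup.centralizer ({z} : Set (PSL2 F)) = N' :=
    Subgroup.eq_of_le_of_card_ge hle (by rw [hc', hcard.1])
  rw [heq]
  exact hnorm x (hsub x hx)

theorem no_perm3 : ∀ u x : PSL2 F, orderOf u = 3 → orderOf x = 2 → x * u * x⁻¹ ≠ u⁻¹ := by
  intro u x hu hx h
  exact psl_not_involves_perm3 hF (involves_perm3_of_inverted (x := x) (y := u)
    ⟨1, by rw [hx, pow_one]⟩ (hu ▸ dvd_rfl) h)

end Cfsg.Agent.GoldGroups11
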